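import Cfsg.Agent.Lib.CFun.MinParab.Basic

/-!
# A module without fixed points for a group with a unique maximal subgroup over a Sylow subgroup

`Amb` collects the hypotheses. Under them a minimal offender generating with any conjugate outside `M` gives
`OffData`, so no elementary abelian subgroup is an offender with `|X| |C(X)| > |V|`.
-/

set_option autoImplicit false
set_option linter.unusedSectionVars false
set_option linter.style.haveILetI false

open CfsgLib.Char.NatSL (OffData fixS mem_fixS fixS_mono fixS_conj tr mem_tr card_tr card_sup_mul_card_inf)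
open CfsgLib.Fusion (conjBy mem_conjBy conj_mem_conjBy conjBy_le_iff conjBy_eq_iff conjBy_conjBy conjBy_mono
  card_conjBy isPGroup_conjBy conjBy_inv_conjBy conjBy_conjBy_inv)
open CfsgLib.CFun.OffenderPair (fixS_map exists_local)

namespace CfsgLib.CFun.MinParab

variable {H : Type*} [Group H] {V : Type*} [AddCommGroup V] [DistribMulAction H V] {p : ℕ}

/-- The hypotheses on the module. -/
structure Amb (V : Type*) [AddCommGroup V] [DistribMulAction H V] (p : ℕ) [Fact p.Prime] (T : Sylow p H)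
    (M : Subgroup H) : Prop where
  vp : ∀ v : V, p • v = 0
  faith : ∀ g : H, (∀ v : V, g • v = v) → g = 1
  le_M : (T : Subgroup H) ≤ M
  ne_top : M ≠ ⊤
  uniq : ∀ K : Subgroup H, (T : Subgroup H) ≤ K → K ≠ ⊤ → K ≤ M
  core : ∀ X : Subgroup H, X.Normal → IsPGroup p X → X = ⊥
  nofix : fixS V (⊤ : Subgroup H) = ⊥
  perfect : commS V (⊤ : Subgroup H) = ⊤
  nontriv : ∃ v : V, v ≠ 0

/-- An elementary abelian `p`-subgroup. -/
structure El (p : ℕ) (X : Subgroup H) : Prop where
  comm : ∀ a ∈ X, ∀ b ∈ X, a * b = b * a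
  pow : ∀ a ∈ X, a ^ p = 1

theorem El.mono {X Y : Subgroup H} (h : El p X) (hYX : Y ≤ X) : El p Y :=
  ⟨fun a ha b hb => h.comm a (hYX ha) b (hYX hb), fun a ha => h.pow a (hYX ha)⟩

theorem El.pgroup {X : Subgroup H} (h : El p X) : IsPGroup p X :=
  fun a => ⟨1, Subtype.ext (by rw [pow_one]; exact h.pow a a.2)⟩

theorem El.conjBy {X : Subgroup H} (h : El p X) (g : H) : El p (conjBy g X) := by
  constructor
  · intro a ha b hb
    obtain ⟨a', ha', rfl⟩ := ha
    obtain ⟨b', hb', rfl⟩ := hb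
    rw [← map_mul, ← map_mul, h.comm a' ha' b' hb']
  · intro a ha
    obtain ⟨a', ha', rfl⟩ := ha
    rw [← map_pow, h.pow a' ha', map_one]

theorem El.sup {X Y : Subgroup H} (hX : El p X) (hY : El p Y) (h : ∀ a ∈ X, ∀ b ∈ Y, a * b = b * a) :
    El p (X ⊔ Y) := by
  have hXY : ∀ a ∈ X ⊔ Y, ∀ b ∈ X ⊔ Y, a * b = b * a := by
    intro a ha b hb
    have h1 : X ⊔ Y ≤ Subgroup.centralizer ((X ⊔ Y : Subgroup H) : Set H) := by
      have hXc : X ≤ Subgroup.centralizer ((X ⊔ Y : Subgroup H) : Set H) := fun x hx => by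
        have : X ⊔ Y ≤ Subgroup.centralizer ({x} : Set H) :=
          sup_le (fun y hy => Subgroup.mem_centralizer_iff.2 fun z hz => by
              rw [Set.mem_singleton_iff.1 hz]; exact hX.comm x hx y hy)
            (fun y hy => Subgroup.mem_centralizer_iff.2 fun z hz => by
              rw [Set.mem_singleton_iff.1 hz]; exact h x hx y hy)
        exact Subgroup.mem_centralizer_iff.2 fun y hy =>
          (Subgroup.mem_centralizer_iff.1 (this hy) x rfl).symm
      have hYc : Y ≤ Subgroup.centralizer ((X ⊔ Y : Subgroup H) : Set H) := fun x hx => by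
        have : X ⊔ Y ≤ Subgroup.centralizer ({x} : Set H) :=
          sup_le (fun y hy => Subgroup.mem_centralizer_iff.2 fun z hz => by
              rw [Set.mem_singleton_iff.1 hz]; exact (h y hy x hx).symm)
            (fun y hy => Subgroup.mem_centralizer_iff.2 fun z hz => by
              rw [Set.mem_singleton_iff.1 hz]; exact hY.comm x hx y hy)
        exact Subgroup.mem_centralizer_iff.2 fun y hy =>
          (Subgroup.mem_centralizer_iff.1 (this hy) x rfl).symm
      exact sup_le hXc hYc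
    exact (Subgroup.mem_centralizer_iff.1 (h1 ha) b hb).symm
  refine ⟨hXY, fun a ha => ?_⟩
  rw [Subgroup.sup_eq_closure] at ha
  induction ha using Subgroup.closure_induction with
  | mem x hx => exact hx.elim (hX.pow x) (hY.pow x)
  | one => exact one_pow p
  | mul x y hx hy ihx ihy =>
    rw [← Subgroup.sup_eq_closure] at hx hy
    rw [(show Commute x y from hXY x hx y hy).mul_pow, ihx, ihy, one_mul]
  | inv x _ ih => rw [inv_pow, ih, inv_one]

variable [Finite H] [Finite V] [hp : Fact p.Prime] {T : Sylow p H} {M : Subgroup H}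

theorem Amb.vp' (ha : Amb V p T M) : ∃ k : ℕ, ∀ v : V, p ^ k • v = 0 :=
  ⟨1, fun v => by rw [pow_one]; exact ha.vp v⟩

theorem Amb.exists_fix (ha : Amb V p T M) : ∃ v : V, v ≠ 0 ∧ v ∈ fixS V (T : Subgroup H) := by
  obtain ⟨v, hv, hfix⟩ := exists_fixed_mod ha.vp T.2 (X := ⊥)
    (fun r _ x hx => by rw [AddSubgroup.mem_bot.1 hx, smul_zero]; exact zero_mem _)
    (fun h => by
      obtain ⟨v, hv⟩ := ha.nontriv
      exact hv (AddSubgroup.mem_bot.1 (h ▸ AddSubgroup.mem_top v : v ∈ (⊥ : AddSubgroup V))))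
  exact ⟨v, fun h => hv (AddSubgroup.mem_bot.2 h), fun r hr => sub_eq_zero.1 (AddSubgroup.mem_bot.1 (hfix r hr))⟩

theorem Amb.eq_top (ha : Amb V p T M) {m : H} (hm : m ∈ M) {K : Subgroup H}
    (hK : conjBy m (T : Subgroup H) ≤ K) (hKM : ¬ K ≤ M) : K = ⊤ := by
  by_contra hne
  refine hKM fun x hx => ?_
  have h1 : (T : Subgroup H) ≤ conjBy m⁻¹ K := by
    rw [← conjBy_inv_conjBy m (T : Subgroup H)]
    exact conjBy_mono hK
  have h2 := ha.uniq _ h1 (fun h => hne (by
    rw [← conjBy_conjBy_inv m K, h]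
    exact Subgroup.map_top_of_surjective _ (MulAut.conj m).surjective)) (conj_mem_conjBy (g := m⁻¹) hx)
  have h3 := M.mul_mem (M.mul_mem hm h2) (M.inv_mem hm)
  simpa [mul_assoc] using h3

/-- A subgroup outside `M` and a conjugate of the Sylow subgroup by an element of `M` generate. -/
theorem Amb.conj_sup_eq_top (ha : Amb V p T M) {m : H} (hm : m ∈ M) {L : Subgroup H} (hL : ¬ L ≤ M) :
    conjBy m (T : Subgroup H) ⊔ L = ⊤ :=
  ha.eq_top hm le_sup_left fun h => hL (le_sup_right.trans h)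

/-- A fixed vector of a conjugate of the Sylow subgroup by an element of `M` is moved by every subgroup
outside `M`. -/
theorem Amb.exists_moved (ha : Amb V p T M) {m : H} (hm : m ∈ M) {L : Subgroup H} (hL : ¬ L ≤ M) :
    ∃ v ∈ fixS V (conjBy m (T : Subgroup H)), v ∉ fixS V L := by
  obtain ⟨v, hv0, hv⟩ := ha.exists_fix
  refine ⟨m • v, ?_, fun h => hv0 ?_⟩
  · rw [show conjBy m (T : Subgroup H) = (T : Subgroup H).map (MulAut.conj m).toMonoidHom from rfl, fixS_conj]
    exact CfsgLib.Char.NatSL.smul_mem_tr hv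
  · have h1 : m • v ∈ fixS V (conjBy m (T : Subgroup H) ⊔ L) := by
      rw [CfsgLib.CFun.OffenderPair.fixS_sup]
      refine ⟨?_, h⟩
      rw [show conjBy m (T : Subgroup H) = (T : Subgroup H).map (MulAut.conj m).toMonoidHom from rfl, fixS_conj]
      exact CfsgLib.Char.NatSL.smul_mem_tr hv
    rw [ha.conj_sup_eq_top hm hL, ha.nofix, AddSubgroup.mem_bot] at h1
    exact (smul_eq_zero_iff_eq m).1 h1

/-- The data for a minimal offender generating with any conjugate outside `M`. -/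
theorem Amb.offData (ha : Amb V p T M) {A L : Subgroup H} (T₀ : Sylow p ↥L) {m : H} (hm : m ∈ M)
    (hA : El p A) (hAL : A ≤ L) (hLM : ¬ L ≤ M) (hAM : A ≤ M) (hAT₀ : A.subgroupOf L ≤ (T₀ : Subgroup ↥L))
    (hT₀M : (T₀ : Subgroup ↥L) ≤ M.subgroupOf L)
    (hT₀P : ∀ t ∈ (T₀ : Subgroup ↥L), m⁻¹ * (t : H) * m ∈ (T : Subgroup H))
    (hover : ∀ K : Subgroup ↥L, A.subgroupOf L ≤ K → K ≠ ⊤ → K ≤ M.subgroupOf L)
    (hgen : ∀ x ∈ L, x ∉ M → A ⊔ conjBy x A = L)
    (hoff : Nat.card V ≤ Nat.card ↥A * Nat.card ↥(fixS V A))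
    (hstrict : ∀ X : Subgroup H, X ≤ A → X ≠ ⊥ → X ≠ A →
      Nat.card ↥X * Nat.card ↥(fixS V X) < Nat.card ↥A * Nat.card ↥(fixS V A)) :
    OffData V p T₀ (M.subgroupOf L) (A.subgroupOf L) := by
  set A' : Subgroup ↥L := A.subgroupOf L with hA'
  set M₀ : Subgroup ↥L := M.subgroupOf L with hM₀
  have hA'map : A'.map L.subtype = A := by
    rw [hA', Subgroup.subgroupOf_map_subtype, inf_eq_left.2 hAL]
  have hcardA : Nat.card ↥A' = Nat.card ↥A := Nat.card_congr (Subgroup.subgroupOfEquivOfLe hAL).toEquiv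
  have hfixA : fixS V A' = fixS V A := by rw [← fixS_map A', hA'map]
  have hM₀ne : M₀ ≠ ⊤ := fun h => hLM fun x hx => by
    have h1 : (⟨x, hx⟩ : ↥L) ∈ M₀ := by rw [h]; exact Subgroup.mem_top _
    exact h1
  have hA'M : A' ≤ M₀ := fun a ha' => hAM ha'
  have hcoatom : IsCoatom M₀ := ⟨hM₀ne, fun K hK => by
    by_contra hKt
    exact hK.not_ge (hover K (hA'M.trans hK.le) hKt)⟩
  have hgen' : ∀ x : ↥L, x ∉ M₀ → A' ⊔ A'.map (MulAut.conj x).toMonoidHom = ⊤ := fun x hx => by
    apply Subgroup.map_injective L.subtype_injective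
    rw [Subgroup.map_sup, hA'map, ← MonoidHom.range_eq_map, Subgroup.range_subtype, Subgroup.map_map]
    conv_rhs => rw [← hgen x x.2 hx]
    congr 1
    conv_rhs => rw [← hA'map, CfsgLib.Fusion.conjBy, Subgroup.map_map]
    rfl
  exact
    { faith := fun g hg => Subtype.ext (ha.faith g hg)
      vp := ha.vp'
      acomm := fun a ha' b hb => Subtype.ext (hA.comm _ ha' _ hb)
      apow := fun a ha' => Subtype.ext (hA.pow _ ha')
      aT := hAT₀
      coatom := hcoatom
      tM := hT₀M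
      uniq := fun K hK hTK => by
        rcases (hover K (hAT₀.trans hTK) hK.1).eq_or_lt with h | h
        · exact h
        · exact absurd (hK.2 _ h) hM₀ne
      notNormal := fun hn => by
        obtain ⟨x, hx, hxM⟩ := SetLike.not_le_iff_exists.1 hLM
        refine hM₀ne (top_le_iff.1 ((hgen' ⟨x, hx⟩ hxM).ge.trans (le_trans ?_ hT₀M)))
        refine sup_le hAT₀ ?_
        rintro _ ⟨a, ha', rfl⟩
        exact hn.conj_mem a (hAT₀ ha') _
      off := by rw [hcardA, hfixA]; exact hoff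
      strict := fun X hX hXne hXA => by
        have h1 : X.map L.subtype ≤ A := hA'map ▸ Subgroup.map_mono hX
        have h2 : X.map L.subtype ≠ ⊥ := fun h =>
          hXne ((Subgroup.map_eq_bot_iff_of_injective _ L.subtype_injective).1 h)
        have h3 : X.map L.subtype ≠ A := fun h =>
          hXA (Subgroup.map_injective L.subtype_injective (h.trans hA'map.symm))
        have h4 := hstrict _ h1 h2 h3
        rw [hcardA, hfixA]
        rwa [fixS_map, Subgroup.card_map_of_injective L.subtype_injective] at h4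
      moved := by
        obtain ⟨v, hv, hvL⟩ := ha.exists_moved hm hLM
        refine ⟨v, fun t ht => hv _ ⟨m⁻¹ * (t : H) * m, hT₀P t ht, by simp [mul_assoc]⟩, fun h => hvL ?_⟩
        intro x hx
        exact h ⟨x, hx⟩ (Subgroup.mem_top _)
      gen := hgen' }

/-- There is no over-offender. -/
theorem Amb.card_le (ha : Amb V p T M) {X : Subgroup H} (hX : El p X) :
    Nat.card ↥X * Nat.card ↥(fixS V X) ≤ Nat.card V := by
  classical
  let f : Subgroup H → ℕ := fun Y => Nat.card ↥Y * Nat.card ↥(fixS V Y)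
  by_contra hlt
  replace hlt : Nat.card V < f X := not_le.1 hlt
  let S : Set (Subgroup H) := {A | El p A ∧ A ≠ ⊥ ∧ Nat.card V < f A ∧
    ∀ Y : Subgroup H, Y ≤ A → Y ≠ ⊥ → Y ≠ A → f Y < f A}
  have hf : ∀ (g : H) (Y : Subgroup H), f (conjBy g Y) = f Y := fun g Y => by
    show Nat.card ↥(conjBy g Y) * Nat.card ↥(fixS V (conjBy g Y)) = Nat.card ↥Y * Nat.card ↥(fixS V Y)
    rw [card_conjBy, show conjBy g Y = Y.map (MulAut.conj g).toMonoidHom from rfl, fixS_conj, card_tr]
  have hbot : ∀ (g : H) (Y : Subgroup H), conjBy g Y = ⊥ → Y = ⊥ := fun g Y h => by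
    rw [← Subgroup.card_eq_one, ← card_conjBy g Y, h, Subgroup.card_bot]
  have hSconj : ∀ A ∈ S, ∀ g : H, conjBy g A ∈ S := by
    rintro A ⟨hA, hne, hoff, hmin⟩ g
    refine ⟨hA.conjBy g, fun h => hne (hbot g A h), by rw [hf]; exact hoff, fun Y hY hYne hYA => ?_⟩
    have h1 : conjBy g⁻¹ Y ≤ A := conjBy_inv_conjBy g A ▸ conjBy_mono hY
    rw [hf, ← hf g⁻¹ Y]
    refine hmin _ h1 (fun h => hYne (hbot _ _ h)) fun h => hYA ?_
    rw [← h, conjBy_conjBy_inv]
  have hXne : X ≠ ⊥ := fun h => by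
    subst h
    refine hlt.not_ge ?_
    show Nat.card ↥(⊥ : Subgroup H) * Nat.card ↥(fixS V (⊥ : Subgroup H)) ≤ Nat.card V
    rw [Subgroup.card_bot, one_mul]
    exact AddSubgroup.card_le_card_addGroup _
  obtain ⟨A₀, ⟨hA₀X, hA₀ne, hA₀f⟩, hA₀min⟩ := (Set.toFinite {Y : Subgroup H | Y ≤ X ∧ Y ≠ ⊥ ∧ f X ≤ f Y}).exists_minimal
    ⟨X, le_rfl, hXne, le_rfl⟩
  have hA₀S : A₀ ∈ S := ⟨hX.mono hA₀X, hA₀ne, hlt.trans_le hA₀f, fun Y hY hYne hYA => by
    by_contra hY'
    exact hYA (le_antisymm hY (hA₀min ⟨hY.trans hA₀X, hYne, hA₀f.trans (not_lt.1 hY')⟩ hY))⟩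
  obtain ⟨Q, hQ⟩ := (hX.mono hA₀X).pgroup.exists_le_sylow
  obtain ⟨g, rfl⟩ := MulAction.exists_smul_eq H T Q
  have hex : ∃ A ∈ S, A ≤ (T : Subgroup H) := by
    refine ⟨conjBy g⁻¹ A₀, hSconj _ hA₀S _, ?_⟩
    rw [← conjBy_inv_conjBy g (T : Subgroup H)]
    exact conjBy_mono hQ
  obtain ⟨A, L, T₀, m, hAS, hm, hAL, hAM, hLM, hAT₀, hT₀M, hT₀P, hover, hgen⟩ :=
    exists_local T M ha.le_M ha.ne_top ha.uniq ha.core S hSconj (fun A hA => hA.1.pgroup) (fun A hA => hA.2.1) hex
  obtain ⟨hAel, -, hAoff, hAmin⟩ := hAS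
  have hd := ha.offData T₀ hm hAel hAL hLM hAM hAT₀ hT₀M hT₀P hover hgen hAoff.le hAmin
  obtain ⟨x, hx⟩ := hd.exists_notMem
  obtain ⟨htop, hW, -, -⟩ := hd.surj_card hx
  have h2 := card_sup_mul_card_inf (fixS V (A.subgroupOf L)) (tr x (fixS V (A.subgroupOf L)))
  rw [htop, hd.inf_eq hx, card_tr, AddSubgroup.card_top] at h2
  have hfixA : fixS V (A.subgroupOf L) = fixS V A := by
    rw [← fixS_map (A.subgroupOf L), Subgroup.subgroupOf_map_subtype, inf_eq_left.2 hAL]
  have hcardA : Nat.card ↥(A.subgroupOf L) = Nat.card ↥A := Nat.card_congr (Subgroup.subgroupOfEquivOfLe hAL).toEquiv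
  rw [hfixA, hcardA] at hW
  rw [hfixA] at h2
  have hZpos : 0 < Nat.card ↥(fixS V (⊤ : Subgroup ↥L)) := Nat.card_pos
  change Nat.card V < Nat.card ↥A * Nat.card ↥(fixS V A) at hAoff
  nlinarith [Nat.mul_lt_mul_of_pos_right hAoff hZpos]

end CfsgLib.CFun.MinParab
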