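import Cfsg.Agent.Lib.CFun.OffenderPair.Pair
import Cfsg.Agent.Lib.CFun.OffenderPair.Points

/-!
# Commutator subgroups of a module and the fixed points of `p`-groups on quotients

`commS V S` is the span of the elements `g • v - v`, `g ∈ S`. A `p`-group acting on an elementary abelian
`p`-group has a non-zero fixed point on every non-zero quotient, and its commutator never supplements a
proper invariant subgroup.
-/

set_option autoImplicit false
set_option linter.unusedSectionVars false
set_option linter.style.haveILetI false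

open CfsgLib.Char.NatSL (fixS mem_fixS fixS_mono tr mem_tr smul_mem_tr)
open CfsgLib.Fusion (conjBy mem_conjBy conj_mem_conjBy)
open CfsgLib.CFun.OffenderPair (chainStab)

namespace CfsgLib.CFun.MinParab

variable {H : Type*} [Group H] {V : Type*} [AddCommGroup V] [DistribMulAction H V]

/-- The span of the elements `g • v - v`, `g ∈ S`. -/
def commS (V : Type*) [AddCommGroup V] [DistribMulAction H V] (S : Subgroup H) : AddSubgroup V :=
  AddSubgroup.closure {x | ∃ g ∈ S, ∃ v : V, g • v - v = x}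

theorem sub_mem_commS {S : Subgroup H} {g : H} (hg : g ∈ S) (v : V) : g • v - v ∈ commS V S :=
  AddSubgroup.subset_closure ⟨g, hg, v, rfl⟩

theorem commS_mono {S T : Subgroup H} (h : S ≤ T) : commS V S ≤ commS V T :=
  (AddSubgroup.closure_le _).2 fun _ ⟨_, hg, v, he⟩ => he ▸ sub_mem_commS (h hg) v

theorem smul_mem_commS_of_mem {S : Subgroup H} {g : H} (hg : g ∈ S) {v : V} (hv : v ∈ commS V S) :
    g • v ∈ commS V S := by
  have := (commS V S).add_mem (sub_mem_commS hg v) hv
  rwa [sub_add_cancel] at this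

/-- The elements acting trivially on the quotient by `Y`. -/
def modStab (Y : AddSubgroup V) : Subgroup H where
  carrier := {g | ∀ v : V, g • v - v ∈ Y}
  one_mem' := fun v => by simp
  mul_mem' := fun {g h} hg hh v => by
    have := Y.add_mem (hg (h • v)) (hh v)
    rwa [sub_add_sub_cancel, ← mul_smul] at this
  inv_mem' := fun {g} hg v => by
    have h1 := hg (g⁻¹ • v)
    rw [smul_inv_smul] at h1
    rw [← neg_sub]
    exact Y.neg_mem h1

theorem mem_modStab {Y : AddSubgroup V} {g : H} : g ∈ modStab Y ↔ ∀ v : V, g • v - v ∈ Y := Iff.rfl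

theorem commS_le_iff {S : Subgroup H} {Y : AddSubgroup V} : commS V S ≤ Y ↔ S ≤ modStab Y :=
  ⟨fun h _ hg v => h (sub_mem_commS hg v), fun h => (AddSubgroup.closure_le _).2
    fun _ ⟨_, hg, v, he⟩ => he ▸ h hg v⟩

theorem commS_sup (S T : Subgroup H) : commS V (S ⊔ T) = commS V S ⊔ commS V T :=
  le_antisymm (commS_le_iff.2 (sup_le (commS_le_iff.1 le_sup_left) (commS_le_iff.1 le_sup_right)))
    (sup_le (commS_mono le_sup_left) (commS_mono le_sup_right))

theorem commS_conjBy_le (g : H) (S : Subgroup H) : commS V (conjBy g S) ≤ tr g (commS V S) := by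
  refine (AddSubgroup.closure_le _).2 ?_
  rintro _ ⟨h, hh, v, rfl⟩
  show h • v - v ∈ tr g (commS V S)
  rw [mem_tr, smul_sub]
  have h1 := sub_mem_commS (mem_conjBy.1 hh) (g⁻¹ • v)
  rwa [← mul_smul, show g⁻¹ * h * g * g⁻¹ = g⁻¹ * h by group, mul_smul] at h1

theorem smul_mem_commS {S : Subgroup H} {g : H} (hg : g ∈ Subgroup.normalizer (S : Set H)) {v : V}
    (hv : v ∈ commS V S) : g • v ∈ commS V S := by
  induction hv using AddSubgroup.closure_induction with
  | mem x hx =>
    obtain ⟨h, hh, u, rfl⟩ := hx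
    have h1 := sub_mem_commS ((Subgroup.mem_normalizer_iff.1 hg h).1 hh) (g • u)
    rwa [← mul_smul, show g * h * g⁻¹ * g = g * h by group, mul_smul, ← smul_sub] at h1
  | zero => rw [smul_zero]; exact zero_mem _
  | add x y _ _ hx hy => rw [smul_add]; exact add_mem hx hy
  | neg x _ hx => rw [smul_neg]; exact neg_mem hx

theorem smul_mem_fixS {S : Subgroup H} {g : H} (hg : g ∈ Subgroup.normalizer (S : Set H)) {v : V}
    (hv : v ∈ fixS V S) : g • v ∈ fixS V S := fun h hh => by
  have h1 := mem_fixS.1 hv _ ((Subgroup.mem_normalizer_iff''.1 hg h).1 hh)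
  conv_rhs => rw [← h1]
  rw [← mul_smul, ← mul_smul]
  congr 1
  group

variable {p : ℕ}

theorem pow_smul_chain {Y : AddSubgroup V} {g : H} (hg : g ∈ chainStab (H := H) Y) (v : V) :
    ∀ k : ℕ, g ^ k • v = v + k • (g • v - v)
  | 0 => by simp
  | k + 1 => by
    rw [pow_succ', mul_smul, pow_smul_chain hg v k, smul_add, smul_comm g k (g • v - v), hg.1 _ (hg.2 v),
      succ_nsmul]
    abel

theorem chain_pow (vp : ∀ v : V, p • v = 0) (faith : ∀ g : H, (∀ v : V, g • v = v) → g = 1)
    {Y : AddSubgroup V} {g : H} (hg : g ∈ chainStab (H := H) Y) : g ^ p = 1 :=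
  faith _ fun v => by rw [pow_smul_chain hg, vp, add_zero]

theorem chain_comm (faith : ∀ g : H, (∀ v : V, g • v = v) → g = 1) {Y : AddSubgroup V} {g h : H}
    (hg : g ∈ chainStab (H := H) Y) (hh : h ∈ chainStab (H := H) Y) : g * h = h * g := by
  refine (inv_mul_eq_one.1 (faith _ fun v => ?_))
  rw [mul_smul, inv_smul_eq_iff, mul_smul, mul_smul]
  have e1 := hg.1 _ (hh.2 v)
  have e2 := hh.1 _ (hg.2 v)
  rw [smul_sub] at e1 e2
  linear_combination (norm := abel) e2 - e1

variable [Finite H] [Finite V] [hp : Fact p.Prime]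

/-- A `p`-group has a fixed point outside every proper invariant subgroup, modulo it. -/
theorem exists_fixed_mod (vp : ∀ v : V, p • v = 0) {R : Subgroup H} (hR : IsPGroup p R) {X : AddSubgroup V}
    (hX : ∀ r ∈ R, ∀ x ∈ X, r • x ∈ X) (hne : X ≠ ⊤) : ∃ v : V, v ∉ X ∧ ∀ r ∈ R, r • v - v ∈ X := by
  classical
  letI act : MulAction ↥R (V ⧸ X) :=
    { smul := fun r => QuotientAddGroup.map X X (DistribMulAction.toAddMonoidHom V (r : H))
        fun x hx => hX r r.2 x hx
      one_smul := fun q => by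
        obtain ⟨v, rfl⟩ := QuotientAddGroup.mk_surjective q
        exact congrArg QuotientAddGroup.mk (one_smul H v)
      mul_smul := fun r s q => by
        obtain ⟨v, rfl⟩ := QuotientAddGroup.mk_surjective q
        exact congrArg QuotientAddGroup.mk (mul_smul (r : H) (s : H) v) }
  obtain ⟨u, -, hu⟩ := SetLike.exists_of_lt (lt_top_iff_ne_top.2 hne)
  have hu0 : (u : V ⧸ X) ≠ 0 := fun h => hu ((QuotientAddGroup.eq_zero_iff u).1 h)
  have hdvd : p ∣ Nat.card (V ⧸ X) := by
    rw [← addOrderOf_eq_prime (x := (u : V ⧸ X)) (p := p)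
      (by rw [← QuotientAddGroup.mk_nsmul, vp, QuotientAddGroup.mk_zero]) hu0]
    exact addOrderOf_dvd_natCard _
  have h0 : (0 : V ⧸ X) ∈ MulAction.fixedPoints ↥R (V ⧸ X) := fun r =>
    map_zero (QuotientAddGroup.map X X (DistribMulAction.toAddMonoidHom V (r : H)) fun x hx => hX r r.2 x hx)
  obtain ⟨q, hq, hq0⟩ := hR.exists_fixed_point_of_prime_dvd_card_of_fixed_point _ hdvd h0
  obtain ⟨v, rfl⟩ := QuotientAddGroup.mk_surjective q
  refine ⟨v, fun h => hq0 ((QuotientAddGroup.eq_zero_iff v).2 h).symm, fun r hr => ?_⟩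
  have h1 : ((r • v : V) : V ⧸ X) = (v : V ⧸ X) := hq ⟨r, hr⟩
  exact (QuotientAddGroup.eq_zero_iff _).1 (by rw [QuotientAddGroup.mk_sub, h1, sub_self])

/-- A proper invariant subgroup is not supplemented by the commutator of a `p`-group. -/
theorem eq_top_of_sup_commS (vp : ∀ v : V, p • v = 0) {R : Subgroup H} (hR : IsPGroup p R)
    {Y : AddSubgroup V} (hY : ∀ r ∈ R, ∀ x ∈ Y, r • x ∈ Y) (h : Y ⊔ commS V R = ⊤) : Y = ⊤ := by
  by_contra hne
  obtain ⟨X, hYX, hX⟩ := (Set.toFinite {X : AddSubgroup V | X ≠ ⊤ ∧ ∀ r ∈ R, ∀ x ∈ X, r • x ∈ X}).exists_le_maximal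
    (a := Y) ⟨hne, hY⟩
  obtain ⟨v, hvX, hv⟩ := exists_fixed_mod vp hR hX.prop.2 hX.prop.1
  let X' : AddSubgroup V :=
    { carrier := {u | ∀ r ∈ R, r • u - u ∈ X}
      zero_mem' := fun r _ => by simp
      add_mem' := fun {a b} ha hb r hr => by rw [smul_add, add_sub_add_comm]; exact X.add_mem (ha r hr) (hb r hr)
      neg_mem' := fun {a} ha r hr => by
        rw [smul_neg, ← neg_add', ← sub_eq_add_neg]; exact X.neg_mem (ha r hr) }
  have hXX' : X ≤ X' := fun x hx r hr => X.sub_mem (hX.prop.2 r hr x hx) hx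
  have htop : X' = ⊤ := by
    by_contra hne'
    refine hvX (hX.le_of_ge ⟨hne', fun r hr x hx => ?_⟩ hXX' hv)
    have := X'.add_mem (hXX' (hx r hr)) hx
    rwa [sub_add_cancel] at this
  refine hX.prop.1 (top_le_iff.1 (h ▸ sup_le hYX ((AddSubgroup.closure_le _).2 ?_)))
  rintro _ ⟨r, hr, u, rfl⟩
  exact (htop ▸ AddSubgroup.mem_top u : u ∈ X') r hr

/-- A group generated by a `p`-group and elements fixing the quotient by an invariant proper subgroup does not
move the module to itself. -/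
theorem eq_top_of_commS_le (vp : ∀ v : V, p • v = 0) (perfect : commS V (⊤ : Subgroup H) = ⊤)
    {R L : Subgroup H} (hR : IsPGroup p R) (hgen : R ⊔ L = ⊤) {Y : AddSubgroup V}
    (hY : ∀ r ∈ R, ∀ x ∈ Y, r • x ∈ Y) (hL : commS V L ≤ Y) : Y = ⊤ := by
  refine eq_top_of_sup_commS vp hR hY (top_le_iff.1 ?_)
  rw [← perfect, ← hgen, commS_sup]
  exact sup_le le_sup_right (hL.trans le_sup_left)

end CfsgLib.CFun.MinParab
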