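import Cfsg.Agent.Lib.CFun.MinParab.Off
import Cfsg.Agent.Lib.CFun.MinParab.Rec.Decomp
import Cfsg.Agent.Lib.Classical.SL2Sylow

/-!
# The facts used of a linear component

A component acting as `SL(2, q)`, `q > 2`: its roots are its Sylow subgroups, elements of order `p` in it fix
what they fix modulo the fixed points, and an element of order `p` centralizing a root and normalizing the
component acts innerly on its commutator space.
-/

set_option autoImplicit false
set_option linter.unusedSectionVars false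
set_option linter.style.haveILetI false

open scoped MatrixGroups
open CfsgLib.Char.NatSL (fixS mem_fixS fixS_mono tr mem_tr smul_mem_tr)
open CfsgLib.Fusion (conjBy mem_conjBy conj_mem_conjBy conjBy_le_iff conjBy_eq_iff conjBy_conjBy conjBy_one
  conjBy_mono card_conjBy conjBy_inv_conjBy conjBy_conjBy_inv)

namespace CfsgLib.CFun.MinParab.Off

open Rec

variable {H : Type*} [Group H] [Finite H] {V : Type*} [AddCommGroup V] [Finite V] [DistribMulAction H V]
  {p : ℕ} [hp : Fact p.Prime] {T : Sylow p H} {M : Subgroup H} {q n : ℕ} {A B L E : Subgroup H}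

/-- An element of a natural part acting trivially modulo the fixed points is trivial. -/
theorem _root_.CfsgLib.CFun.MinParab.Rec.IsNat2.eq_one (hE : IsNat2 V q E) {g : H} (hg : g ∈ E)
    (h : ∀ v : V, g • v - v ∈ fixS V E) : g = 1 := by
  obtain ⟨F, iF, iFf, hF, ρ, ψ, hs, hk, he⟩ := hE
  have h1 : ρ ⟨g, hg⟩ = 1 := by
    apply Subtype.ext
    apply Matrix.ext_of_mulVec_single
    intro i
    obtain ⟨v, hv⟩ := hs (Pi.single i 1)
    have h2 := (hk _).2 (h v)
    rw [map_sub, he ⟨g, hg⟩ v, sub_eq_zero, hv] at h2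
    rw [h2, Matrix.SpecialLinearGroup.coe_one, Matrix.one_mulVec]
  exact congrArg Subtype.val (ρ.injective (h1.trans (map_one ρ).symm))

/-- An element normalizing a natural part and trivial modulo its fixed points fixes its commutators. -/
theorem fix_commS_of_trivial (heq : ∀ g ∈ E, (∀ v : V, g • v - v ∈ fixS V E) → g = 1) {y : H}
    (hyN : conjBy y E = E) (hy : ∀ v : V, y • v - v ∈ fixS V E) :
    ∀ w ∈ commS V E, y • w = w := by
  have hcomm : ∀ l ∈ E, ∀ v : V, y • (l • v - v) = l • v - v := by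
    intro l hl v
    have h1 : y * l * y⁻¹ * l⁻¹ = 1 := heq _
      (mul_mem (hyN ▸ conj_mem_conjBy hl) (inv_mem hl)) fun u => by
        have e1 : ∀ u, y⁻¹ • u - u ∈ fixS V E := fun u => by
          have h2 := (fixS V E).neg_mem (hy (y⁻¹ • u))
          rw [smul_inv_smul] at h2
          simpa using h2
        set z := l⁻¹ • u
        have hu : u = l • z := (smul_inv_smul l u).symm
        have h3 : (y * l * y⁻¹ * l⁻¹) • u - u = (y • l • y⁻¹ • z - l • y⁻¹ • z) + (l • (y⁻¹ • z - z)) := by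
          rw [mul_smul, mul_smul, mul_smul, smul_sub, hu]
          simp only [z, inv_smul_smul, hu.symm]
          abel
        rw [h3, (e1 z) l hl]
        exact (fixS V E).add_mem (hy _) (e1 z)
    have hc : y * l = l * y := by
      rw [mul_inv_eq_one] at h1
      exact mul_inv_eq_iff_eq_mul.1 h1
    rw [smul_sub, ← mul_smul, hc, mul_smul]
    have h4 := mem_fixS.1 (hy v) l hl
    rw [smul_sub] at h4
    linear_combination (norm := abel) h4
  intro w hw
  induction hw using AddSubgroup.closure_induction with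
  | mem w hw =>
    obtain ⟨l, hl, v, rfl⟩ := hw
    exact hcomm l hl v
  | zero => exact smul_zero y
  | add a b _ _ ha hb => rw [smul_add, ha, hb]
  | neg a _ ha => rw [smul_neg, ha]

theorem card_sylow_nat2 (hE : IsNat2 V q E) (hn : q = p ^ n) (h1n : 1 ≤ n) (R : Sylow p ↥E) :
    Nat.card ↥(R : Subgroup ↥E) = q := by
  obtain ⟨F, iF, iFf, hF, ρ, -⟩ := hE
  rw [R.card_eq_multiplicity, Nat.card_congr ρ.toEquiv, CfsgLib.Classical.card_sl2, hF, hn]
  have hd : p ∣ p ^ n := dvd_pow_self p (by omega)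
  have h1 : 1 ≤ p ^ n := Nat.one_le_pow _ _ hp.out.pos
  have hcop : ¬ p ∣ (p ^ n - 1) * (p ^ n + 1) := fun h => by
    rcases (Nat.Prime.dvd_mul hp.out).1 h with h2 | h2
    · have := Nat.dvd_sub hd h2
      rw [show p ^ n - (p ^ n - 1) = 1 by omega] at this
      exact hp.out.ne_one (Nat.dvd_one.1 this)
    · exact hp.out.ne_one (Nat.dvd_one.1 ((Nat.dvd_add_right hd).1 h2))
  have hne : (p ^ n - 1) * (p ^ n + 1) ≠ 0 := fun h => hcop (h ▸ dvd_zero p)
  rw [Nat.factorization_mul (pow_ne_zero _ hp.out.ne_zero) hne, Finsupp.add_apply,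
    hp.out.factorization_pow, Finsupp.single_eq_same, Nat.factorization_eq_zero_of_not_dvd hcop, add_zero]

/-- A `p`-subgroup of a linear component is conjugate into any of its roots. -/
theorem exists_conj_le (hE : IsNat2 V q E) (hn : q = p ^ n) (h1n : 1 ≤ n) (hA : Root V p q A) (hAE : A ≤ E)
    {X : Subgroup H} (hX : IsPGroup p X) (hXE : X ≤ E) : ∃ x ∈ E, conjBy x X ≤ A := by
  obtain ⟨R, hR⟩ := (hA.el.pgroup.comap_of_injective E.subtype E.subtype_injective).exists_le_sylow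
  obtain ⟨S, hS⟩ := (hX.comap_of_injective E.subtype E.subtype_injective).exists_le_sylow
  obtain ⟨x, hx⟩ := MulAction.exists_smul_eq ↥E S R
  have hRA : (R : Subgroup ↥E) = A.subgroupOf E := (Subgroup.eq_of_le_of_card_ge hR (by
    rw [card_sylow_nat2 hE hn h1n R]
    exact le_of_eq ((Nat.card_congr (Subgroup.subgroupOfEquivOfLe hAE).toEquiv).trans hA.card).symm)).symm
  refine ⟨x, x.2, ?_⟩
  rintro _ ⟨a, ha, rfl⟩
  have h1 : x * ⟨a, hXE ha⟩ * x⁻¹ ∈ (R : Subgroup ↥E) := by
    rw [← hx]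
    exact ⟨⟨a, hXE ha⟩, hS ha, rfl⟩
  rw [hRA] at h1
  exact h1

/-- The roots of a linear component are conjugate in it. -/
theorem exists_conj_eq (hE : IsNat2 V q E) (hn : q = p ^ n) (h1n : 1 ≤ n) (hA : Root V p q A) (hAE : A ≤ E)
    (hB : Root V p q B) (hBE : B ≤ E) : ∃ x ∈ E, conjBy x B = A := by
  obtain ⟨x, hx, hle⟩ := exists_conj_le hE hn h1n hA hAE hB.el.pgroup hBE
  exact ⟨x, hx, Subgroup.eq_of_le_of_card_ge hle (by rw [card_conjBy, hA.card, hB.card])⟩

section block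

variable {F : Type} [Field F] (c : Coord V B L F)

/-- Every element of the block is semilinear for the trivial automorphism. -/
theorem coord_linear {k : H} (hk : k ∈ L) {s : F} {v w : V} (h : c.ψ v = s • c.ψ w) :
    c.ψ (k • v) = s • c.ψ (k • w) := by
  let S : Subgroup H :=
    { carrier := {k | k ∈ L ∧ ∀ (s : F) (v w : V), c.ψ v = s • c.ψ w → c.ψ (k • v) = s • c.ψ (k • w)}
      one_mem' := ⟨one_mem _, fun s v w h => by rw [one_smul, one_smul]; exact h⟩
      mul_mem' := fun {a b} ha hb => ⟨mul_mem ha.1 hb.1, fun s v w h => by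
        rw [mul_smul, mul_smul]; exact ha.2 _ _ _ (hb.2 _ _ _ h)⟩
      inv_mem' := fun {a} ha => ⟨inv_mem ha.1, fun s v w h => by
        obtain ⟨z, hz⟩ := c.surj (s • c.ψ (a⁻¹ • w))
        have h1 := ha.2 s z _ hz
        rw [smul_inv_smul, ← h, eq_comm, ← sub_eq_zero, ← map_sub, c.ker] at h1
        have h2 := h1 a⁻¹ (inv_mem ha.1)
        rw [← hz, ← sub_eq_zero, ← map_sub, c.ker]
        rw [smul_sub, inv_smul_smul] at h2
        rw [h2]
        intro g hg
        rw [h1 g hg]⟩ }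
  have hB : B ≤ S := fun b hb => ⟨c.le hb, fun s v w h => by
    obtain ⟨t, rfl⟩ := c.exists_ub b hb
    rw [c.ub_ψ, c.ub_ψ, h]
    refine Prod.ext ?_ ?_ <;> simp [mul_add, mul_left_comm]⟩
  have hwl : c.wl ∈ S := ⟨c.wl_mem, fun s v w h => by
    rw [c.wl_ψ, c.wl_ψ, h]
    refine Prod.ext ?_ ?_ <;> simp⟩
  have hL : L ≤ S := by
    rw [← c.gen]
    exact sup_le hB (conjBy_le_iff.2 fun b hb => mul_mem (mul_mem hwl (hB hb)) (inv_mem hwl))
  exact (hL hk).2 s v w h

include c in
theorem auto_block [Fintype F] (hnat : IsNat2 V q L) (hF : Fintype.card F = q) (hn : q = p ^ n) (h1n : 1 ≤ n)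
    (hB : Root V p q B) {x : H} (hxp : x ^ p = 1) (hxB : ∀ b ∈ B, x * b = b * x) (hxL : conjBy x L = L) :
    ∃ e ∈ L, ∀ v ∈ commS V L, x • v = e • v := by
  classical
  have hxU : ∀ u ∈ fixS V L, x • u ∈ fixS V L := fun u hu => smul_mem_fixS (conjBy_eq_iff.1 hxL) hu
  have hdep : ∀ v w, c.ψ v = c.ψ w → c.ψ (x • v) = c.ψ (x • w) := fun v w h => by
    rw [← sub_eq_zero, ← map_sub, c.ker] at h
    rw [← sub_eq_zero, ← map_sub, ← smul_sub, c.ker]
    exact hxU _ h
  obtain ⟨v₀, hv₀⟩ := c.surj (0, 1)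
  set β := (c.ψ (x • v₀)).1
  set γ := (c.ψ (x • v₀)).2 with hγdef
  have hub : ∀ (t : F) (v : V), c.ψ (x • c.ub t • v) = c.ψ (c.ub t • x • v) := fun t v => by
    rw [← mul_smul, hxB _ (c.ub_mem t), mul_smul]
  have hfirst : ∀ (v : V), (c.ψ v).2 = 0 → c.ψ (x • v) = ((c.ψ v).1 * γ, 0) := by
    intro v hv
    have h1 : c.ψ v = c.ψ (c.ub (c.ψ v).1 • v₀ - v₀) := by
      rw [map_sub, c.ub_ψ, hv₀]
      refine Prod.ext ?_ ?_ <;> simp [hv]
    rw [hdep _ _ h1, smul_sub, map_sub, hub, c.ub_ψ]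
    refine Prod.ext ?_ ?_ <;> simp [γ]
  have hγ0 : γ ≠ 0 := by
    intro h0
    obtain ⟨u, hu⟩ := c.surj (1, 0)
    have h1 := hfirst u (by rw [hu])
    rw [h0, mul_zero] at h1
    change c.ψ (x • u) = 0 at h1
    rw [c.ker] at h1
    have h2 := smul_mem_fixS ((Subgroup.normalizer (L : Set H)).inv_mem (conjBy_eq_iff.1 hxL)) h1
    rw [inv_smul_smul, ← c.ker, hu] at h2
    exact one_ne_zero (congrArg Prod.fst h2)
  -- the second axis goes to a line
  have hsecond : ∀ (v : V) (z : F), c.ψ v = (0, z) → c.ψ (x • v) = (z * β, z * γ) := by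
    intro v z hv
    have hB' : Root V p q (conjBy c.wl B) := hB.conj _
    have hxwl : conjBy x (conjBy c.wl B) ≤ L := (conjBy_mono (c.wl_le)).trans hxL.le
    obtain ⟨k, hk, hkB⟩ := exists_conj_eq hnat hn h1n (hB'.conj x) hxwl hB c.le
    have hline : ∀ u : V, (c.ψ u).1 = 0 → ∃ w ∈ fixS V B, x • u = k • w := by
      intro u hu
      have h1 : u ∈ fixS V (conjBy c.wl B) := by
        rw [Rec.fixS_conjBy, mem_tr, c.memW]
        have h2 := congrArg Prod.fst (c.wl_ψ (c.wl⁻¹ • u))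
        rw [smul_inv_smul, hu] at h2
        exact neg_eq_zero.1 h2.symm
      have h3 : x • u ∈ fixS V (conjBy k B) := by
        rw [hkB, Rec.fixS_conjBy x (conjBy c.wl B)]
        exact smul_mem_tr h1
      rw [Rec.fixS_conjBy, mem_tr] at h3
      exact ⟨_, h3, (smul_inv_smul k _).symm⟩
    obtain ⟨w, hw, hwe⟩ := hline v₀ (by rw [hv₀])
    obtain ⟨w', hw', hwe'⟩ := hline v (by rw [hv])
    rw [c.memW] at hw hw'
    by_cases ha : (c.ψ w).1 = 0
    · exfalso
      apply hγ0
      have h1 : c.ψ w = 0 := Prod.ext ha hw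
      have h2 := coord_linear c hk (s := 0) (v := w) (w := w) (by rw [h1, smul_zero])
      rw [zero_smul, ← hwe] at h2
      rw [hγdef, h2]
      rfl
    set s := (c.ψ w').1 * (c.ψ w).1⁻¹
    have h1 : c.ψ w' = s • c.ψ w := by
      refine Prod.ext ?_ ?_
      · simp [s, ha]
      · simp [hw, hw']
    have h2 : c.ψ (x • v) = s • c.ψ (x • v₀) := by rw [hwe, hwe', coord_linear c hk h1]
    -- the parameter of the line is `z`
    have h3 : (c.ψ (x • v)).2 = z * γ := by
      obtain ⟨u, hu⟩ := c.surj (z, 0)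
      have h4 : c.ψ (c.ub 1 • v) = c.ψ (u + v) := by
        rw [c.ub_ψ, map_add, hu, hv]
        refine Prod.ext ?_ ?_ <;> simp
      have h5 := hdep _ _ h4
      rw [hub, c.ub_ψ, smul_add, map_add, hfirst u (by rw [hu])] at h5
      have h6 := congrArg Prod.fst h5
      simp only [hu, Prod.fst_add, one_mul] at h6
      linear_combination h6
    have hs : s = z := by
      rw [h2] at h3
      exact mul_right_cancel₀ hγ0 h3
    rw [h2, hs]
    rfl
  have hform : ∀ v, c.ψ (x • v) = ((c.ψ v).1 * γ + (c.ψ v).2 * β, (c.ψ v).2 * γ) := by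
    intro v
    obtain ⟨u₁, hu₁⟩ := c.surj ((c.ψ v).1, 0)
    obtain ⟨u₂, hu₂⟩ := c.surj (0, (c.ψ v).2)
    rw [hdep v (u₁ + u₂) (by rw [map_add, hu₁, hu₂]; refine Prod.ext ?_ ?_ <;> simp), smul_add, map_add,
      hfirst u₁ (by rw [hu₁]), hsecond u₂ _ hu₂, hu₁]
    refine Prod.ext ?_ ?_ <;> simp
  have hγ1 : γ = 1 := by
    have hk : ∀ k : ℕ, (c.ψ (x ^ k • v₀)).2 = γ ^ k := fun k => by
      induction k with
      | zero => simp [hv₀]
      | succ k ih => rw [pow_succ', mul_smul, hform, ih, pow_succ]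
    have h1 := hk p
    rw [hxp, one_smul, hv₀] at h1
    have h2 : orderOf γ ∣ p := orderOf_dvd_of_pow_eq_one h1.symm
    have h3 : orderOf γ ∣ q - 1 := by
      rw [← hF]
      exact orderOf_dvd_of_pow_eq_one (FiniteField.pow_card_sub_one_eq_one γ hγ0)
    rcases (Nat.dvd_prime hp.out).1 h2 with h | h
    · exact orderOf_eq_one_iff.1 h
    · exfalso
      rw [h] at h3
      have h4 : p ∣ q := hn ▸ dvd_pow_self p (by omega)
      have h5 := Nat.dvd_sub h4 h3
      have h6 : 1 ≤ q := by rw [hn]; exact Nat.one_le_pow _ _ hp.out.pos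
      rw [show q - (q - 1) = 1 by omega] at h5
      exact hp.out.ne_one (Nat.dvd_one.1 h5)
  refine ⟨c.ub β, c.le (c.ub_mem β), fun v hv => ?_⟩
  set e := c.ub β
  have hy : ∀ u : V, (e⁻¹ * x) • u - u ∈ fixS V L := by
    intro u
    have h1 : x • u - e • u ∈ fixS V L := by
      rw [← c.ker, map_sub, hform, c.ub_ψ, hγ1]
      refine Prod.ext ?_ ?_ <;> simp [mul_comm]
    have h2 := h1 e⁻¹ (inv_mem (c.le (c.ub_mem β)))
    rw [smul_sub, inv_smul_smul, ← mul_smul] at h2
    rw [h2]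
    exact h1
  have hyN : conjBy (e⁻¹ * x) L = L := by
    rw [← conjBy_conjBy, hxL]
    exact conjBy_eq_iff.2 (Subgroup.le_normalizer (inv_mem (c.le (c.ub_mem β))))
  have h := fix_commS_of_trivial (fun g hg => hnat.eq_one hg) hyN hy v hv
  rw [mul_smul, inv_smul_eq_iff] at h
  exact h

end block

/-- The facts about a linear component. -/
theorem linear_facts (hn : q = p ^ n) (h1n : 1 ≤ n) {E : Subgroup H} (hE : IsNat2 V q E)
    (hdata : ∃ (g : H) (B L : Subgroup H), E = conjBy g L ∧ Root V p q B ∧ NatBlk V p M B L) :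
    (∀ e ∈ E, e ^ p = 1 → ∀ v : V, e • v - v ∈ fixS V E → e • v = v) ∧
      (∀ X : Subgroup H, El p X → X ≤ E → Nat.card ↥X ≤ q) ∧
      (∀ A : Subgroup H, Root V p q A → A ≤ E → ∀ x : H, x ^ p = 1 → (∀ a ∈ A, x * a = a * x) →
        conjBy x E = E → ∃ e ∈ E, ∀ v ∈ commS V E, x • v = e • v) ∧
      ∀ A : Subgroup H, Root V p q A → A ≤ E → ∀ K : Subgroup H,
        (∀ g ∈ E, conjBy g A ≤ K) → E ≤ K := by
  classical
  obtain ⟨g, B, L, rfl, hB, hb⟩ := hdata
  obtain ⟨F, iF, iFf, hF, ⟨c⟩, -⟩ := exists_coord hb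
  rw [hB.card] at hF
  have hL : IsNat2 V q L := hB.card ▸ isNat2_of_blk hb
  have hA₀ : Root V p q (conjBy g B) := hB.conj g
  have hA₀E : conjBy g B ≤ conjBy g L := conjBy_mono hb.le
  refine ⟨fun e he hep v hv => ?_, fun X hX hXE => ?_, fun A hA hAE x hxp hxA hxE => ?_,
    fun A hA hAE K hK => ?_⟩
  · have hpg : IsPGroup p (Subgroup.zpowers e) := fun a => ⟨1, Subtype.ext (by
      obtain ⟨i, hi⟩ := Subgroup.mem_zpowers_iff.1 a.2
      show (a : H) ^ p ^ 1 = 1
      rw [← hi, pow_one, ← zpow_natCast, ← zpow_mul, mul_comm, zpow_mul, zpow_natCast, hep, one_zpow])⟩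
    obtain ⟨y, hy, hle⟩ := exists_conj_le hE hn h1n hA₀ hA₀E hpg (Subgroup.zpowers_le.2 he)
    set h := g⁻¹ * y with hh
    have he' : h * e * h⁻¹ ∈ B := by
      have h1 : conjBy g⁻¹ (conjBy y (Subgroup.zpowers e)) ≤ B := by
        rw [← conjBy_inv_conjBy g B]; exact conjBy_mono hle
      rw [conjBy_conjBy] at h1
      exact h1 (conj_mem_conjBy (Subgroup.mem_zpowers e))
    obtain ⟨t, ht⟩ := c.exists_ub _ he'
    have hyL : conjBy y (conjBy g L) = conjBy g L := conjBy_eq_iff.2 (Subgroup.le_normalizer hy)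
    have hU : ∀ u : V, u ∈ fixS V (conjBy g L) → h • u ∈ fixS V L := by
      intro u hu
      have h1 : y • u ∈ fixS V (conjBy g L) := by rw [hu y hy]; exact hu
      rw [Rec.fixS_conjBy, mem_tr] at h1
      rw [hh, mul_smul]
      exact h1
    have h1 : c.ψ ((h * e * h⁻¹) • (h • v)) = c.ψ (h • v) := by
      rw [← sub_eq_zero, ← map_sub, c.ker, mul_smul, mul_smul, inv_smul_smul, ← smul_sub]
      exact hU _ hv
    rw [← ht, c.ub_ψ] at h1
    have h2 := congrArg Prod.fst h1
    simp only [add_eq_left, mul_eq_zero] at h2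
    rcases h2 with h2 | h2
    · have h3 : h * e * h⁻¹ = 1 := hL.eq_one (hb.le he') fun u => by
        rw [← ht, ← c.ker, map_sub, c.ub_ψ, h2]
        refine Prod.ext ?_ ?_ <;> simp
      rw [conj_eq_one_iff.1 h3, one_smul]
    · have h3 := (c.memW _).2 h2 _ he'
      rwa [mul_smul, mul_smul, inv_smul_smul, smul_left_cancel_iff] at h3
  · obtain ⟨y, -, hle⟩ := exists_conj_le hE hn h1n hA₀ hA₀E hX.pgroup hXE
    rw [← card_conjBy y X, ← hA₀.card]
    exact Subgroup.card_le_of_le hle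
  · obtain ⟨y, hy, hye⟩ := exists_conj_eq hE hn h1n hA hAE hA₀ hA₀E
    set h := y * g with hh
    have hhB : conjBy h B = A := by rw [hh, ← conjBy_conjBy, hye]
    have hhL : conjBy h L = conjBy g L := by
      rw [hh, ← conjBy_conjBy]; exact conjBy_eq_iff.2 (Subgroup.le_normalizer hy)
    set x' := h⁻¹ * x * h with hx'
    have hx'p : x' ^ p = 1 := by
      have h1 : (h⁻¹ * x * (h⁻¹)⁻¹) ^ p = h⁻¹ * x ^ p * (h⁻¹)⁻¹ := conj_pow
      rw [inv_inv] at h1
      rw [hx', h1, hxp, mul_one, inv_mul_cancel]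
    have hx'B : ∀ b ∈ B, x' * b = b * x' := fun b hb' => by
      have h1 := hxA (h * b * h⁻¹) (hhB ▸ conj_mem_conjBy hb')
      calc x' * b = h⁻¹ * (x * (h * b * h⁻¹)) * h := by rw [hx']; group
        _ = h⁻¹ * ((h * b * h⁻¹) * x) * h := by rw [h1]
        _ = b * x' := by rw [hx']; group
    have hx'L : conjBy x' L = L := by
      rw [hx', ← conjBy_conjBy, ← conjBy_conjBy, hhL, hxE, ← hhL, conjBy_inv_conjBy]
    obtain ⟨e, he, hxe⟩ := auto_block c hL hF hn h1n hB hx'p hx'B hx'L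
    refine ⟨h * e * h⁻¹, hhL ▸ conj_mem_conjBy he, fun v hv => ?_⟩
    rw [← hhL, commS_conjBy, mem_tr] at hv
    have h1 := hxe _ hv
    rw [hx', mul_smul, mul_smul, smul_inv_smul, inv_smul_eq_iff] at h1
    rw [h1, hh]
    simp only [mul_smul, mul_assoc]
  · have hK' : ∀ k ∈ L, conjBy (g * k) B ≤ K := by
      intro k hk
      have hle : conjBy (g * k) B ≤ conjBy g L := by
        rw [← conjBy_conjBy]
        exact conjBy_mono (conjBy_le_iff.2 fun b hb' => L.mul_mem (L.mul_mem hk (hb.le hb')) (L.inv_mem hk))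
      obtain ⟨y, hy, hye⟩ := exists_conj_eq hE hn h1n (hB.conj (g * k)) hle hA hAE
      rw [← hye]
      exact hK y hy
    rw [← c.gen, conjBy_sup, conjBy_conjBy]
    refine sup_le ?_ (hK' _ c.wl_mem)
    have := hK' 1 L.one_mem
    rwa [mul_one] at this

end CfsgLib.CFun.MinParab.Off
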