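import Cfsg.Agent.Lib.CFun.MinParab.Off
import Cfsg.Agent.Lib.CFun.MinParab.Rec.Decomp

/-!
# The facts used of a symmetric component

A component acting as a symmetric group on the even-weight module: its transvections are the transpositions,
an involution in it fixes what it fixes modulo the fixed points, two involutions with the same fixed space are
equal, and an element normalizing the component acts innerly on its commutator space.
-/

set_option autoImplicit false
set_option linter.unusedSectionVars false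
set_option linter.style.haveILetI false

open CfsgLib.Char.NatSL (fixS mem_fixS)
open CfsgLib.Fusion (conjBy mem_conjBy conj_mem_conjBy conjBy_eq_iff)

namespace CfsgLib.CFun.MinParab.Off

open Rec

section perm

variable {k : ℕ}

/-- The even vector supported outside one point. -/
def coAtom (c : Fin k) : Fin k → ZMod 2 := fun i => if i = c then 0 else 1

/-- The vector supported on two points. -/
def atomPair (a b : Fin k) : Fin k → ZMod 2 := Pi.single a 1 + Pi.single b 1

theorem sum_atomPair (a b : Fin k) : ∑ i, atomPair a b i = 0 := by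
  simp only [atomPair, Pi.add_apply, Finset.sum_add_distrib, Finset.sum_pi_single', Finset.mem_univ, if_true]
  exact CharTwo.add_self_eq_zero _

theorem sum_coAtom (hk : Odd k) (c : Fin k) : ∑ i, coAtom c i = 0 := by
  simp only [coAtom, Finset.sum_ite, Finset.sum_const_zero, zero_add, Finset.sum_const, nsmul_eq_mul, mul_one]
  rw [Finset.filter_ne', Finset.card_erase_of_mem (Finset.mem_univ _), Finset.card_univ, Fintype.card_fin]
  obtain ⟨j, rfl⟩ := hk
  simp [CharTwo.two_eq_zero]

/-- Two involutions fixing the same even vectors: the second moves each point as the first or not at all. -/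
theorem eq_or_eq_of_fix (hk : Odd k) {σ τ : Equiv.Perm (Fin k)} (hσ : σ * σ = 1) (hτ : τ * τ = 1)
    (h : ∀ w : Fin k → ZMod 2, ∑ i, w i = 0 → (∀ i, w (σ i) = w i) → ∀ i, w (τ i) = w i) (a : Fin k) :
    τ a = a ∨ τ a = σ a := by
  have hσσ : ∀ i, σ (σ i) = i := fun i => DFunLike.congr_fun hσ i
  have hττ : ∀ i, τ (τ i) = i := fun i => DFunLike.congr_fun hτ i
  by_cases ha : σ a = a
  · left
    by_contra hne
    have h1 := h _ (sum_coAtom hk a) (fun i => by
      simp only [coAtom]
      by_cases hi : i = a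
      · rw [hi, ha]
      · rw [if_neg hi, if_neg fun e => hi (by rw [← hσσ i, e, ha])]) a
    simp [coAtom, hne] at h1
  · by_contra hne
    push Not at hne
    have h1 := h (atomPair a (σ a)) (sum_atomPair _ _) (fun i => by
      simp only [atomPair, Pi.add_apply, Pi.single_apply]
      have e1 : (σ i = a) = (i = σ a) := propext ⟨fun e => by rw [← e, hσσ], fun e => by rw [e, hσσ]⟩
      have e2 : (σ i = σ a) = (i = a) := propext ⟨fun e => σ.injective e, fun e => by rw [e]⟩
      simp only [e1, e2]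
      ring) a
    simp [atomPair, Pi.single_apply, hne.1, hne.2, Ne.symm ha] at h1

theorem eq_of_same_fix (hk : Odd k) {σ τ : Equiv.Perm (Fin k)} (hσ : σ * σ = 1) (hτ : τ * τ = 1)
    (h : ∀ w : Fin k → ZMod 2, ∑ i, w i = 0 → ((∀ i, w (σ i) = w i) ↔ ∀ i, w (τ i) = w i)) : σ = τ := by
  refine Equiv.ext fun a => ?_
  rcases eq_or_eq_of_fix hk hσ hτ (fun w hw => (h w hw).1) a with h1 | h1
  · rcases eq_or_eq_of_fix hk hτ hσ (fun w hw => (h w hw).2) a with h2 | h2
    · rw [h1, h2]
    · exact h2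
  · exact h1.symm

/-- An involution moving the even vectors by one vector only is a transposition. -/
theorem exists_eq_swap (hk : Odd k) {σ : Equiv.Perm (Fin k)} (hσ : σ * σ = 1) (hne : σ ≠ 1)
    (h : ∀ w w' : Fin k → ZMod 2, ∑ i, w i = 0 → ∑ i, w' i = 0 → (fun i => w (σ i)) ≠ w →
      (fun i => w' (σ i)) ≠ w' → ∀ i, w (σ i) + w i = w' (σ i) + w' i) :
    ∃ a b, a ≠ b ∧ σ = Equiv.swap a b := by
  have hσσ : ∀ i, σ (σ i) = i := fun i => DFunLike.congr_fun hσ i
  obtain ⟨a, ha⟩ : ∃ a, σ a ≠ a := by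
    by_contra! h'
    exact hne (Equiv.ext h')
  refine ⟨a, σ a, Ne.symm ha, Equiv.ext fun b => ?_⟩
  by_cases hba : b = a
  · rw [hba, Equiv.swap_apply_left]
  by_cases hbσ : b = σ a
  · rw [hbσ, Equiv.swap_apply_right, hσσ]
  rw [Equiv.swap_apply_of_ne_of_ne hba hbσ]
  by_contra hb
  have hσba : σ b ≠ a := fun e => hbσ (by rw [← hσσ b, e])
  have hσbσa : σ b ≠ σ a := fun e => hba (σ.injective e)
  have h1 := h (atomPair a b) (coAtom a) (sum_atomPair _ _) (sum_coAtom hk a)
    (fun e => by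
      have := congrFun e a
      simp [atomPair, Pi.single_apply, ha, Ne.symm hba, Ne.symm hbσ] at this)
    (fun e => by
      have := congrFun e a
      simp [coAtom, ha] at this) b
  simp [atomPair, coAtom, Pi.single_apply, hba, hσba, hb] at h1

theorem swap_mul_swap_mul_swap_star {a b c : Fin k} (hab : a ≠ b) (hac : a ≠ c) (hbc : b ≠ c) :
    Equiv.swap a b * Equiv.swap a c * Equiv.swap a b = Equiv.swap b c := by
  refine Equiv.ext fun i => ?_
  simp only [Equiv.Perm.mul_apply, Equiv.swap_apply_def]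
  split_ifs <;> simp_all

theorem commute_of_disjoint_swap {u v a b : Fin k} (h1 : a ≠ u) (h2 : a ≠ v) (h3 : b ≠ u) (h4 : b ≠ v) :
    Equiv.swap u v * Equiv.swap a b = Equiv.swap a b * Equiv.swap u v := by
  refine Equiv.ext fun i => ?_
  simp only [Equiv.Perm.mul_apply, Equiv.swap_apply_def]
  split_ifs <;> simp_all

/-- An automorphism preserving transpositions is inner. -/
theorem exists_conj_of_swaps (hk : 3 ≤ k) (α : Equiv.Perm (Fin k) ≃* Equiv.Perm (Fin k))
    (hα : ∀ a b, a ≠ b → ∃ u v, u ≠ v ∧ α (Equiv.swap a b) = Equiv.swap u v) :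
    ∃ τ : Equiv.Perm (Fin k), ∀ σ, α σ = τ * σ * τ⁻¹ := by
  classical
  set c₀ : Fin k := ⟨0, by omega⟩
  set d₁ : Fin k := ⟨1, by omega⟩
  set d₂ : Fin k := ⟨2, by omega⟩
  have h01 : c₀ ≠ d₁ := by simp [c₀, d₁]
  have h02 : c₀ ≠ d₂ := by simp [c₀, d₂]
  have h12 : d₁ ≠ d₂ := by simp [d₁, d₂]
  have hnc : ∀ a b, a ≠ b → c₀ ≠ a → c₀ ≠ b →
      α (Equiv.swap c₀ a) * α (Equiv.swap c₀ b) ≠ α (Equiv.swap c₀ b) * α (Equiv.swap c₀ a) := by
    intro a b hab ha hb h
    rw [← map_mul, ← map_mul] at h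
    have h1 := DFunLike.congr_fun (α.injective h) c₀
    simp [Equiv.swap_apply_of_ne_of_ne, Ne.symm ha, Ne.symm hb, hab, Ne.symm hab] at h1
  obtain ⟨u, v, huv, e₁⟩ := hα c₀ d₁ h01
  -- the common point of the images of the first two
  obtain ⟨u₀, v₁, w₂, huv₁, huw₂, hvw, e₁', e₂'⟩ : ∃ u₀ v₁ w₂, u₀ ≠ v₁ ∧ u₀ ≠ w₂ ∧ v₁ ≠ w₂ ∧
      α (Equiv.swap c₀ d₁) = Equiv.swap u₀ v₁ ∧ α (Equiv.swap c₀ d₂) = Equiv.swap u₀ w₂ := by
    obtain ⟨x, y, hxy, e₂⟩ := hα c₀ d₂ h02
    have hne : α (Equiv.swap c₀ d₁) ≠ α (Equiv.swap c₀ d₂) := fun h => by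
      have := DFunLike.congr_fun (α.injective h) c₀
      simp [h12] at this
    have hn := hnc d₁ d₂ h12 h01 h02
    rw [e₁, e₂] at hn hne
    by_cases hxu : x = u
    · refine ⟨u, v, y, huv, fun e => hxy (by rw [hxu, e]), fun e => hne (by rw [hxu, e]), e₁, by rw [e₂, hxu]⟩
    by_cases hxv : x = v
    · refine ⟨v, u, y, huv.symm, fun e => hxy (by rw [hxv, e]), fun e => hne (by rw [hxv, e, Equiv.swap_comm]),
        by rw [e₁, Equiv.swap_comm], by rw [e₂, hxv]⟩
    by_cases hyu : y = u
    · exact ⟨u, v, x, huv, Ne.symm hxu, Ne.symm hxv, e₁, by rw [e₂, hyu, Equiv.swap_comm]⟩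
    by_cases hyv : y = v
    · exact ⟨v, u, x, huv.symm, Ne.symm hxv, Ne.symm hxu, by rw [e₁, Equiv.swap_comm],
        by rw [e₂, hyv, Equiv.swap_comm]⟩
    exact absurd (commute_of_disjoint_swap hxu hxv hyu hyv) hn
  have hmeet : ∀ d, c₀ ≠ d → ∃ z, z ≠ u₀ ∧ α (Equiv.swap c₀ d) = Equiv.swap u₀ z := by
    intro d hd
    by_cases hd1 : d = d₁
    · exact ⟨v₁, huv₁.symm, hd1 ▸ e₁'⟩
    by_cases hd2 : d = d₂
    · exact ⟨w₂, huw₂.symm, hd2 ▸ e₂'⟩
    obtain ⟨x, y, hxy, e⟩ := hα c₀ d hd
    have n1 := hnc d₁ d (Ne.symm hd1) h01 hd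
    have n2 := hnc d₂ d (Ne.symm hd2) h02 hd
    rw [e₁', e] at n1
    rw [e₂', e] at n2
    by_cases hx : x = u₀
    · exact ⟨y, fun h => hxy (by rw [hx, h]), by rw [e, hx]⟩
    by_cases hy : y = u₀
    · exact ⟨x, hx, by rw [e, hy, Equiv.swap_comm]⟩
    exfalso
    have m1 : x = v₁ ∨ y = v₁ := by
      by_contra h; push Not at h; exact n1 (commute_of_disjoint_swap hx h.1 hy h.2)
    have m2 : x = w₂ ∨ y = w₂ := by
      by_contra h; push Not at h; exact n2 (commute_of_disjoint_swap hx h.1 hy h.2)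
    have e3 : α (Equiv.swap c₀ d) = α (Equiv.swap d₁ d₂) := by
      rw [← swap_mul_swap_mul_swap_star h01 h02 h12, map_mul, map_mul, e₁', e₂',
        swap_mul_swap_mul_swap_star huv₁ huw₂ hvw, e]
      rcases m1 with a | a <;> rcases m2 with b | b
      · exact absurd (a.symm.trans b) hvw
      · rw [a, b]
      · rw [a, b, Equiv.swap_comm]
      · exact absurd (a.symm.trans b) hvw
    have := DFunLike.congr_fun (α.injective e3) c₀
    rw [Equiv.swap_apply_left, Equiv.swap_apply_of_ne_of_ne h01 h02] at this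
    exact hd this.symm
  choose z hz hze using hmeet
  let f : Fin k → Fin k := fun d => if h : c₀ = d then u₀ else z d h
  have hf : Function.Injective f := by
    intro d d' h
    simp only [f] at h
    split_ifs at h with g g' g'
    · exact g.symm.trans g'
    · exact absurd h.symm (hz d' g')
    · exact absurd h (hz d g)
    · have h1 := DFunLike.congr_fun (α.injective ((hze d g).trans (h ▸ (hze d' g').symm))) c₀
      simpa using h1
  set τ : Equiv.Perm (Fin k) := Equiv.ofBijective f (Finite.injective_iff_bijective.1 hf)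
  have hτ : ∀ d, τ d = f d := fun _ => rfl
  have hstar : ∀ d, α (Equiv.swap c₀ d) = τ * Equiv.swap c₀ d * τ⁻¹ := by
    intro d
    by_cases hd : c₀ = d
    · subst hd
      simp [← Equiv.Perm.one_def]
    · rw [← Equiv.swap_apply_apply, hτ, hτ, hze d hd]
      simp [f, hd]
  refine ⟨τ, fun σ => ?_⟩
  induction σ using Equiv.Perm.swap_induction_on with
  | one => simp
  | swap_mul σ a b hab ih =>
    have h1 : α (Equiv.swap a b) = τ * Equiv.swap a b * τ⁻¹ := by
      by_cases ha : c₀ = a
      · rw [← ha]; exact hstar b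
      by_cases hb : c₀ = b
      · rw [← hb, Equiv.swap_comm]; exact hstar a
      rw [← swap_mul_swap_mul_swap_star ha hb hab, map_mul, map_mul, hstar, hstar]
      group
    rw [map_mul, ih, h1]
    group

end perm

variable {H : Type*} [Group H] [Finite H] {V : Type*} [AddCommGroup V] [Finite V] [DistribMulAction H V]
  {p : ℕ} [hp : Fact p.Prime] {T : Sylow p H} {M : Subgroup H} {n : ℕ} {A E : Subgroup H}

/-- The facts about a symmetric component. -/
theorem sym_facts (hs : Sys V p 2 T M) (h1n : 1 ≤ n) (hE : IsPermNat V n E)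
    (ht₀ : ∃ t ∈ Tv V p, t ∈ E) :
    (∀ e ∈ E, e ^ p = 1 → ∀ v : V, e • v - v ∈ fixS V E → e • v = v) ∧
      (∀ X : Subgroup H, El p X → X ≤ E →
        (∀ a ∈ X, a ≠ 1 → ∀ v : V, a • v = v → v ∈ fixS V X) → Nat.card ↥X ≤ 2) ∧
      (∀ A : Subgroup H, Root V p 2 A → A ≤ E → ∀ x : H, x ^ p = 1 → (∀ a ∈ A, x * a = a * x) →
        conjBy x E = E → ∃ e ∈ E, ∀ v ∈ commS V E, x • v = e • v) ∧
      ∀ A : Subgroup H, Root V p 2 A → A ≤ E → ∀ K : Subgroup H,
        (∀ g ∈ E, conjBy g A ≤ K) → E ≤ K := by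
  classical
  obtain ⟨θ, ψ, hsum, hev, hker, heqv⟩ := hE
  obtain ⟨t₀, ht₀T, ht₀E⟩ := ht₀
  have hp2 : p = 2 := hs.p_eq_two (show Root V p 2 (Subgroup.zpowers t₀) from ht₀T)
  have hk : Odd (2 ^ n + 1) := ⟨2 ^ (n - 1), by rw [← pow_succ', show n - 1 + 1 = n by omega]⟩
  have hk3 : 3 ≤ 2 ^ n + 1 := by
    have : 2 ^ 1 ≤ 2 ^ n := Nat.pow_le_pow_right (by norm_num) h1n
    omega
  have hinv : ∀ {e : H} (he : e ∈ E), e ^ p = 1 → θ ⟨e, he⟩ * θ ⟨e, he⟩ = 1 := fun {e} he hep => by
    rw [← map_mul, ← map_one θ]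
    refine congrArg θ (Subtype.ext ?_)
    show e * e = 1
    rw [← pow_two, ← hp2, hep]
  have htriv : ∀ e : ↥E, (∀ v a, ψ ((e : H) • v) a = ψ v a) → θ e = 1 := by
    intro e h
    refine perm_eq_of_even hk3 _ _ fun w hw a => ?_
    obtain ⟨v, rfl⟩ := hev w hw
    rw [← heqv, h]
    simp
  -- transvections are transpositions
  have hswap : ∀ (t : H) (ht : t ∈ E), t ∈ Tv V p → ∃ a b, a ≠ b ∧ θ ⟨t, ht⟩ = Equiv.swap a b := by
    intro t ht htv
    have hsq : θ ⟨t, ht⟩ * θ ⟨t, ht⟩ = 1 := hinv ht (by rw [hp2, pow_two, Tv.sq htv])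
    have hinv' : (θ ⟨t, ht⟩)⁻¹ = θ ⟨t, ht⟩ := inv_eq_of_mul_eq_one_right hsq
    refine exists_eq_swap hk hsq (fun h => Tv.ne_one htv ?_) fun w w' hw hw' hwne hw'ne i => ?_
    · exact congrArg Subtype.val (θ.injective (h.trans (map_one θ).symm))
    obtain ⟨v, rfl⟩ := hev w hw
    obtain ⟨v', rfl⟩ := hev w' hw'
    have key : ∀ u : V, (fun i => ψ u ((θ ⟨t, ht⟩) i)) ≠ ψ u →
        ∀ i, ψ (t • u) i + ψ u i = ψ (xc V t) i := by
      intro u hu i
      rcases hs.step htv u with h | h
      · refine absurd (funext fun j => ?_) hu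
        rw [← hinv', ← heqv ⟨t, ht⟩ u]
        exact congrArg (fun z => ψ z j) h
      · rw [h, map_add, Pi.add_apply, add_comm (ψ u i), add_assoc, CharTwo.add_self_eq_zero, add_zero]
    rw [← hinv', ← heqv ⟨t, ht⟩, ← heqv ⟨t, ht⟩, key v hwne, key v' hw'ne]
  have hconj : ∀ a b, a ≠ b → (θ.symm (Equiv.swap a b) : H) ∈ Tv V p := by
    intro a b hab
    obtain ⟨c, d, hcd, he⟩ := hswap t₀ ht₀E ht₀T
    obtain ⟨σ, hσ⟩ : ∃ σ : Equiv.Perm (Fin (2 ^ n + 1)), Equiv.swap a b = σ * Equiv.swap c d * σ⁻¹ :=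
      (isConj_iff.1 (Equiv.Perm.isConj_swap hcd hab)).imp fun σ hσ => hσ.symm
    rw [hσ, map_mul, map_mul, map_inv, ← he, θ.symm_apply_apply]
    exact Tv.conj ht₀T _
  have hxc : ∀ t ∈ Tv V p, t ∈ E → ψ (xc V t) ≠ 0 := by
    intro t htv ht h
    have h1 : θ ⟨t, ht⟩ = 1 := htriv _ fun v a => by
      rcases hs.step htv v with h2 | h2 <;> show ψ (t • v) a = _ <;> rw [h2]
      rw [map_add, Pi.add_apply, h, Pi.zero_apply, add_zero]
    exact Tv.ne_one htv (congrArg Subtype.val (θ.injective (h1.trans (map_one θ).symm)))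
  have hnofix : ∀ (m : ℕ) (σ : Equiv.Perm (Fin (2 ^ n + 1))), σ.support.card ≤ m → σ * σ = 1 →
      ∀ v, (∀ a, ψ v (σ a) = ψ v a) → (θ.symm σ : H) • v = v := by
    intro m
    induction m with
    | zero =>
      intro σ hm _ v _
      have : σ = 1 := Equiv.Perm.support_eq_empty_iff.1 (Finset.card_eq_zero.1 (Nat.le_zero.1 hm))
      rw [this, map_one, OneMemClass.coe_one, one_smul]
    | succ m ih =>
      intro σ hm hσ v hv
      by_cases h1 : σ = 1
      · rw [h1, map_one, OneMemClass.coe_one, one_smul]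
      obtain ⟨a, ha⟩ : ∃ a, σ a ≠ a := by
        by_contra! h'
        exact h1 (Equiv.ext h')
      have hσσ : ∀ i, σ (σ i) = i := fun i => DFunLike.congr_fun hσ i
      set s := Equiv.swap a (σ a) with hsdef
      set σ' := s * σ
      have hts : (θ.symm s : H) • v = v := by
        rcases hs.step (hconj a (σ a) (Ne.symm ha)) v with h | h
        · exact h
        exfalso
        refine hxc _ (hconj a (σ a) (Ne.symm ha)) (SetLike.coe_mem _) (funext fun i => ?_)
        have h2 := heqv (θ.symm s) v i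
        rw [h, map_add, Pi.add_apply, MulEquiv.apply_symm_apply, Equiv.swap_inv] at h2
        have h3 : ψ v (s i) = ψ v i := by
          simp only [hsdef, Equiv.swap_apply_def]
          split_ifs with g g'
          · rw [g, hv]
          · rw [g', hv]
          · rfl
        rw [h3, add_eq_left] at h2
        exact h2
      have hfix' : (θ.symm σ' : H) • v = v := by
        refine ih σ' ?_ ?_ v fun i => ?_
        · have h2 : σ'.support ⊆ σ.support.erase a := fun i hi => by
            rw [Equiv.Perm.mem_support] at hi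
            rw [Finset.mem_erase, Equiv.Perm.mem_support]
            refine ⟨fun e => hi (by rw [e]; simp [σ', hsdef]), fun e => hi ?_⟩
            have h3 : i ≠ a := fun e' => ha (e' ▸ e)
            have h4 : i ≠ σ a := fun e' => h3 (by rw [← e, e', hσσ])
            simp [σ', hsdef, e, Equiv.swap_apply_of_ne_of_ne h3 h4]
          refine (Finset.card_le_card h2).trans ?_
          rw [Finset.card_erase_of_mem (Equiv.Perm.mem_support.2 ha)]
          omega
        · refine Equiv.ext fun i => ?_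
          simp only [σ', hsdef, Equiv.Perm.mul_apply, Equiv.Perm.one_apply, Equiv.swap_apply_def]
          have := hσσ i
          have := hσσ a
          split_ifs <;> simp_all
        · show ψ v (s (σ i)) = _
          simp only [hsdef, Equiv.swap_apply_def]
          split_ifs with g g'
          · rw [hv, ← g, hv]
          · rw [← hv a, ← g', hv]
          · exact hv i
      have hsσ : σ = s * σ' := by simp [σ', hsdef, ← mul_assoc]
      rw [hsσ, map_mul, Subgroup.coe_mul, mul_smul, hfix', hts]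
  have hfix_iff : ∀ {e : H} (he : e ∈ E), e ^ p = 1 → ∀ v : V,
      e • v = v ↔ ∀ a, ψ v (θ ⟨e, he⟩ a) = ψ v a := by
    intro e he hep v
    have hi : (θ ⟨e, he⟩)⁻¹ = θ ⟨e, he⟩ := inv_eq_of_mul_eq_one_right (hinv he hep)
    refine ⟨fun h a => ?_, fun h => ?_⟩
    · have h1 := heqv ⟨e, he⟩ v a
      rw [hi] at h1
      rw [← h1]
      exact congrArg (fun z => ψ z a) h
    · have h1 := hnofix _ _ le_rfl (hinv he hep) v h
      rwa [θ.symm_apply_apply] at h1
  refine ⟨fun e he hep v hv => ?_, fun X hX hXE hsep => ?_, fun A hA hAE x _ _ hxE => ?_,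
    fun A hA hAE K hK => ?_⟩
  · refine (hfix_iff he hep v).2 fun a => ?_
    have h1 := (hker _).2 hv
    rw [map_sub, sub_eq_zero] at h1
    rw [← inv_eq_of_mul_eq_one_right (hinv he hep), ← heqv ⟨e, he⟩]
    exact congrFun h1 a
  · by_cases hX1 : X = ⊥
    · rw [hX1, Subgroup.card_bot]; norm_num
    obtain ⟨a, ha, ha1⟩ : ∃ a ∈ X, a ≠ 1 := by
      by_contra! h
      exact hX1 ((Subgroup.eq_bot_iff_forall X).2 h)
    have key : ∀ b ∈ X, b ≠ 1 → b = a := by
      intro b hb hb1
      refine congrArg Subtype.val (θ.injective (eq_of_same_fix hk (hinv (hXE hb) (hX.pow b hb))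
        (hinv (hXE ha) (hX.pow a ha)) fun w hw => ?_))
      obtain ⟨v, rfl⟩ := hev w hw
      rw [← hfix_iff (hXE hb) (hX.pow b hb), ← hfix_iff (hXE ha) (hX.pow a ha)]
      exact ⟨fun h => hsep b hb hb1 v h a ha, fun h => hsep a ha ha1 v h b hb⟩
    have : (X : Set H) ⊆ {1, a} := fun b hb => by
      by_cases hb1 : b = 1
      · exact Or.inl hb1
      · exact Or.inr (key b hb hb1)
    rw [SetLike.coe_sort_coe X |>.symm, Nat.card_coe_set_eq]
    exact (Set.ncard_le_ncard this (Set.toFinite _)).trans (Set.ncard_insert_le _ _ |>.trans (by simp))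
  · let c : ↥E ≃* ↥E :=
      { toFun := fun e => ⟨x * e * x⁻¹, hxE.le (conj_mem_conjBy e.2)⟩
        invFun := fun e => ⟨x⁻¹ * e * x, by
          obtain ⟨y, hy, hye⟩ : (e : H) ∈ conjBy x E := by rw [hxE]; exact e.2
          have : x * y * x⁻¹ = e := hye
          rw [← this]
          simpa [mul_assoc] using hy⟩
        left_inv := fun e => Subtype.ext (by simp [mul_assoc])
        right_inv := fun e => Subtype.ext (by simp [mul_assoc])
        map_mul' := fun a b => Subtype.ext (by simp [mul_assoc]) }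
    obtain ⟨τ, hτ⟩ := exists_conj_of_swaps hk3 (θ.symm.trans (c.trans θ)) fun a b hab =>
      hswap _ (SetLike.coe_mem (c (θ.symm (Equiv.swap a b)))) (Tv.conj (hconj a b hab) x)
    set e : ↥E := θ.symm τ
    have hye : ∀ l : ↥E, ((e : H)⁻¹ * x) * l = l * ((e : H)⁻¹ * x) := by
      intro l
      have h1 := hτ (θ l)
      simp only [MulEquiv.trans_apply, θ.symm_apply_apply] at h1
      have h2 : c l = e * l * e⁻¹ := θ.injective (by
        rw [h1, map_mul, map_mul, map_inv, θ.apply_symm_apply])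
      have h3 : x * (l : H) * x⁻¹ = (e : H) * l * (e : H)⁻¹ := congrArg Subtype.val h2
      calc (e : H)⁻¹ * x * l = (e : H)⁻¹ * (x * l * x⁻¹) * x := by group
        _ = l * ((e : H)⁻¹ * x) := by rw [h3]; group
    set y := (e : H)⁻¹ * x
    let S : Subgroup H :=
      { carrier := {l | l ∈ E ∧ ∀ v : V, y • (l • v - v) = l • v - v}
        one_mem' := ⟨one_mem _, fun v => by simp⟩
        mul_mem' := fun {l l'} hl hl' => ⟨mul_mem hl.1 hl'.1, fun v => by
          have h2 := hl.2 (l' • v)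
          have h3 := hl'.2 v
          rw [show (l * l') • v - v = (l • (l' • v) - l' • v) + (l' • v - v) by rw [mul_smul]; abel, smul_add,
            h2, h3]⟩
        inv_mem' := fun {l} hl => ⟨inv_mem hl.1, fun v => by
          have h2 := hl.2 (l⁻¹ • v)
          rw [smul_inv_smul, ← neg_sub, smul_neg, neg_inj] at h2
          exact h2⟩ }
    have hTS : ∀ t ∈ E, t ∈ Tv V p → t ∈ S := fun t ht htv => ⟨ht, fun v => by
      have h4 : y • (t • v - v) = t • (y • v) - y • v := by
        rw [smul_sub, ← mul_smul, hye ⟨t, ht⟩, mul_smul]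
      rcases hs.step htv v with h | h
      · rw [h, sub_self, smul_zero]
      · rw [h4, h, add_sub_cancel_left]
        rcases hs.step htv (y • v) with h5 | h5
        · exfalso
          rw [h5, sub_self, h, add_sub_cancel_left, smul_eq_zero_iff_eq] at h4
          exact hs.xc_ne htv h4
        · rw [h5, add_sub_cancel_left]⟩
    have hES : E ≤ S := by
      intro l hl
      have key : ∀ σ : Equiv.Perm (Fin (2 ^ n + 1)), (θ.symm σ : H) ∈ S := by
        intro σ
        induction σ using Equiv.Perm.swap_induction_on with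
        | one => rw [map_one]; exact S.one_mem
        | swap_mul σ a b hab ih =>
          rw [map_mul]
          exact S.mul_mem (hTS _ (SetLike.coe_mem _) (hconj a b hab)) ih
      simpa using key (θ ⟨l, hl⟩)
    refine ⟨e, e.2, fun v hv => inv_smul_eq_iff.1 ?_⟩
    rw [← mul_smul]
    show y • v = v
    induction hv using AddSubgroup.closure_induction with
    | mem w hw =>
      obtain ⟨l, hl, u, rfl⟩ := hw
      exact (hES hl).2 u
    | zero => exact smul_zero y
    | add a b _ _ ha hb => rw [smul_add, ha, hb]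
    | neg a _ ha => rw [smul_neg, ha]
  · obtain ⟨a, ha, ha1⟩ := hA.exists_ne_one hs.least
    have hat : a ∈ Tv V p := by show Root V p 2 (Subgroup.zpowers a); rw [hA.eq_zpowers ha ha1]; exact hA
    obtain ⟨c, d, hcd, he⟩ := hswap a (hAE ha) hat
    intro l hl
    have key : ∀ σ : Equiv.Perm (Fin (2 ^ n + 1)), (θ.symm σ : H) ∈ K := by
      intro σ
      induction σ using Equiv.Perm.swap_induction_on with
      | one => rw [map_one]; exact K.one_mem
      | swap_mul σ a' b hab ih =>
        rw [map_mul]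
        refine K.mul_mem ?_ ih
        obtain ⟨π, hπ⟩ := isConj_iff.1 (Equiv.Perm.isConj_swap hcd hab)
        rw [← hπ, map_mul, map_mul, map_inv, ← he, θ.symm_apply_apply]
        exact hK _ (θ.symm π).2 (conj_mem_conjBy ha)
    simpa using key (θ ⟨l, hl⟩)

end CfsgLib.CFun.MinParab.Off
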