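import Cfsg.Agent.Lib.CFun.MinParab.GlueQuot
import Cfsg.Agent.Lib.CFun.MinParab.FrameLinear
import Cfsg.Agent.Lib.CFun.MinParab.FrameSym

/-!
# The local `C**(G,T)`-theorem for minimal parabolic groups

The decomposition of `G ⧸ C_G(V)` on `V = Ω₁ Z(O_p(G))`, read back in `G`.
-/

set_option autoImplicit false
set_option linter.unusedSectionVars false
set_option linter.style.haveILetI false

open CfsgLib.Char.NatSL (fixS mem_fixS)
open CfsgLib.Fusion (conjBy)
open scoped IsMulCommutative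

namespace CfsgLib.CFun.MinParab.Glue

open Rec

section abstr

variable {H : Type*} [Group H] [Finite H] {V : Type*} [AddCommGroup V] [Finite V] [DistribMulAction H V]
  {p : ℕ} [hp : Fact p.Prime] {T : Sylow p H} {M : Subgroup H}

/-- The natural action of a part on its commutator space. -/
def PartNat (V : Type*) [AddCommGroup V] [DistribMulAction H V] (p q n : ℕ) (E : Subgroup H) : Prop :=
  (2 < q ∧ q = p ^ n ∧ IsNat2 V q E) ∨ (q = 2 ∧ p = 2 ∧ IsPermNat V n E)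

/-- The decomposition with the facts used of the components. -/
theorem exists_frame (hc : Ctx V p T M)
    (hoff : ∃ X : Subgroup H, El p X ∧ X ≠ ⊥ ∧ Nat.card V ≤ Nat.card ↥X * Nat.card ↥(fixS V X)) :
    ∃ (q r : ℕ) (E : Fin r → Subgroup H), Off.Frame V p q T r E ∧
      ∃ n, 1 ≤ n ∧ ∀ i, PartNat V p q n (E i) := by
  obtain ⟨q, hl, r, E, hP, hcov, n, hn, hcase⟩ := exists_decomp hc hoff
  refine ⟨q, r, E, ?_, n, hn, fun i => ?_⟩
  · rcases hcase with ⟨-, hqn, hE⟩ | ⟨rfl, -, hE⟩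
    · have hf := fun i => Off.linear_facts hqn hn (hE i).1 (hE i).2
      refine ⟨hP, hl, ?_, hcov, fun i => (hf i).1, fun i X hX _ hXE _ => (hf i).2.1 X hX hXE,
        fun i => (hf i).2.2.1, fun i => (hf i).2.2.2⟩
      obtain ⟨g, B, L, -, hB, -⟩ := (hE ⟨0, hP.pos⟩).2
      exact ⟨B, hB⟩
    · have hs : Sys V p 2 T M := ⟨hc, hl⟩
      have hf := fun i => Off.sym_facts hs hn (hE i).1 (by
        obtain ⟨t, ht, he⟩ := (hE i).2
        exact ⟨t, ht, he ▸ Subgroup.subset_closure (mem_cls_self t)⟩)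
      refine ⟨hP, hl, ?_, hcov, fun i => (hf i).1, fun i X hX _ hXE => (hf i).2.1 X hX hXE,
        fun i => (hf i).2.2.1, fun i => (hf i).2.2.2⟩
      obtain ⟨t, ht, -⟩ := (hE ⟨0, hP.pos⟩).2
      exact ⟨_, ht⟩
  · rcases hcase with ⟨hq, hqn, hE⟩ | ⟨rfl, hp2, hE⟩
    · exact Or.inl ⟨hq, hqn, (hE i).1⟩
    · exact Or.inr ⟨rfl, hp2, (hE i).1⟩

/-- `SL(2, 2)` on its natural module is the symmetric group of degree three; the disjunction of the statement. -/
theorem PartNat.acts {G : Type*} [Group G] {W P : Subgroup G} (m : Mdl W P H V)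
    (hC : Subgroup.centralizer (W : Set G) ≤ P) {q n : ℕ} {E : Subgroup H} (h : PartNat V p q n E)
    (hfull : commS V E ⊔ fixS V E = ⊤) :
    (∃ (F : Type) (_ : Field F) (_ : Fintype F), Fintype.card F = p ^ n ∧
        (∃ _ : ((Subgroup.centralizer (W : Set G)).subgroupOf (m.lift E)).Normal,
          Nonempty (↥(m.lift E) ⧸ (Subgroup.centralizer (W : Set G)).subgroupOf (m.lift E) ≃*
            Matrix.SpecialLinearGroup (Fin 2) F)) ∧
        Cfsg.ActsAsSL2OnSection F ⊤ (m.lift E) ⁅W, m.lift E⁆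
          (⁅W, m.lift E⁆ ⊓ Subgroup.centralizer ((m.lift E : Subgroup G) : Set G))) ∨
      (p = 2 ∧
        (∃ _ : ((Subgroup.centralizer (W : Set G)).subgroupOf (m.lift E)).Normal,
          Nonempty (↥(m.lift E) ⧸ (Subgroup.centralizer (W : Set G)).subgroupOf (m.lift E) ≃*
            Equiv.Perm (Fin (2 ^ n + 1)))) ∧
        Cfsg.ActsAsOddPermModuleOnSection (2 ^ n + 1) ⊤ (m.lift E) ⁅W, m.lift E⁆
          (⁅W, m.lift E⁆ ⊓ Subgroup.centralizer ((m.lift E : Subgroup G) : Set G))) := by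
  have hlift : ∀ v : V, ∃ w ∈ commS V E, v - w ∈ fixS V E := fun v => by
    obtain ⟨w, hw, u, hu, rfl⟩ := AddSubgroup.mem_sup.1
      (hfull ▸ AddSubgroup.mem_top v : v ∈ commS V E ⊔ fixS V E)
    exact ⟨w, hw, by rwa [add_sub_cancel_left]⟩
  rcases h with ⟨-, rfl, F, iF, iFf, hF, ρ, ψ, hs, hk, he⟩ | ⟨-, hp2, θ, ψ, hsum, hev, hk, he⟩
  · refine Or.inl ⟨F, iF, iFf, hF, m.exists_mulEquiv ρ hC, m.actsAsSL2 ρ ψ (fun z => ?_) (fun u _ => hk u)
      fun e u _ => he e u⟩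
    obtain ⟨v, rfl⟩ := hs z
    obtain ⟨w, hw, hd⟩ := hlift v
    exact ⟨w, hw, ((sub_eq_zero.1 ((map_sub ψ v w).symm.trans ((hk _).2 hd)))).symm⟩
  · refine Or.inr ⟨hp2, m.exists_mulEquiv θ hC, m.actsAsOddPerm θ ψ (fun u _ => hsum u) (fun z hz => ?_)
      (fun u _ => hk u) fun e u _ i => he e u i⟩
    obtain ⟨v, rfl⟩ := hev z hz
    obtain ⟨w, hw, hd⟩ := hlift v
    exact ⟨w, hw, ((sub_eq_zero.1 ((map_sub ψ v w).symm.trans ((hk _).2 hd)))).symm⟩

end abstr

variable {G : Type*} [Group G] [Finite G] {p : ℕ} [hp : Fact p.Prime] {T : Sylow p G} {M : Subgroup G}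

theorem thompsonSubgroup_normal : (Cfsg.thompsonSubgroup p G).Normal := by
  refine ⟨fun x hx g => ?_⟩
  have h : Cfsg.thompsonSubgroup p G ≤ (Cfsg.thompsonSubgroup p G).comap (MulAut.conj g).toMonoidHom := by
    refine sSup_le fun A hA => ?_
    rw [← Subgroup.map_le_iff_le_comap]
    refine le_sSup ⟨CfsgLib.Fusion.isElementaryAbelian_map _ hA.1, fun B hB => ?_⟩
    rw [Subgroup.card_map_of_injective (f := (MulAut.conj g).toMonoidHom) (MulAut.conj g).injective]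
    exact hA.2 B hB
  exact h hx

/-- The image of `J(G)` is the product of the components. -/
theorem lift_iSup_eq {H : Type*} [Group H] [Finite H] {U : Type*} [AddCommGroup U] [Finite U]
    [DistribMulAction H U] {V : Subgroup G} [V.Normal] (hV : Cfsg.IsElementaryAbelian p V)
    (m : Mdl V ⊤ H U) {S : Sylow p H} {N : Subgroup H} (hc : Ctx U p S N) {q r : ℕ} {E : Fin r → Subgroup H}
    (hF : Off.Frame U p q S r E)
    (hnot : ¬ Cfsg.thompsonSubgroup p G ≤ Subgroup.centralizer (V : Set G)) :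
    m.lift (⨆ i, E i) = Cfsg.thompsonSubgroup p G ⊔ Subgroup.centralizer (V : Set G) := by
  set J := Cfsg.thompsonSubgroup p G
  have hJN : J ≤ m.lift (⨆ i, E i) := sSup_le fun A hA a ha =>
    m.mem_lift.2 ⟨Subgroup.mem_top a, hF.le_iSup hc _ _ le_rfl (offender_image m hV hA)
      ⟨⟨a, Subgroup.mem_top a⟩, ha, rfl⟩⟩
  refine le_antisymm ?_ (sup_le hJN (le_trans (le_inf le_top le_rfl) (m.centralizer_le_lift _)))
  obtain ⟨A, hA, hAC⟩ : ∃ A ∈ Cfsg.maxElementaryAbelianSubgroups p G,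
      ¬ A ≤ Subgroup.centralizer (V : Set G) := by
    by_contra! h
    exact hnot (sSup_le fun A hA => h A hA)
  haveI := thompsonSubgroup_normal (G := G) (p := p)
  haveI : ((J.subgroupOf ⊤).map m.π).Normal :=
    Subgroup.Normal.map (inferInstanceAs (J.subgroupOf ⊤).Normal) _ m.surj
  have hX := offender_image m hV hA
  have hXne : (A.subgroupOf ⊤).map m.π ≠ ⊥ := fun h => hAC fun a ha =>
    (m.π_eq_one (g := ⟨a, Subgroup.mem_top a⟩)).1 ((Subgroup.eq_bot_iff_forall _).1 h _ ⟨_, ha, rfl⟩)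
  have hAJ : A ≤ J := le_sSup hA
  have hle := hF.iSup_le_normal hc (K := (J.subgroupOf ⊤).map m.π) hX hXne
    (Subgroup.map_mono fun a ha => hAJ ha)
  intro g hg
  obtain ⟨hgT, h⟩ := m.mem_lift.1 hg
  obtain ⟨j, hj, hje⟩ := hle h
  have h1 : g * (j : G)⁻¹ ∈ Subgroup.centralizer (V : Set G) :=
    (m.π_eq_one (g := ⟨g, hgT⟩ * j⁻¹)).1 (by rw [map_mul, map_inv, hje, mul_inv_cancel])
  simpa using mul_mem (Subgroup.mem_sup_right h1) (Subgroup.mem_sup_left hj : (j : G) ∈ J ⊔ _)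

/-- Everything the structure theorem gives for `G ⧸ C_G(V)`. -/
theorem Setting.exists_model (hs : Setting G p T M) {H : Type*} [Group H] [Finite H] {U : Type*}
    [AddCommGroup U] [Finite U] [DistribMulAction H U]
    (m : Mdl (Cfsg.omegaOneCenter p (Cfsg.pCore p G)) ⊤ H U) :
    ∃ (q r : ℕ) (S : Sylow p H) (N : Subgroup H) (E : Fin r → Subgroup H),
      (S : Subgroup H) = ((T : Subgroup G).subgroupOf ⊤).map m.π ∧ N = (M.subgroupOf ⊤).map m.π ∧
      Ctx U p S N ∧ Off.Frame U p q S r E ∧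
      m.lift (⨆ i, E i) = Cfsg.thompsonSubgroup p G ⊔
        Subgroup.centralizer (Cfsg.omegaOneCenter p (Cfsg.pCore p G) : Set G) ∧
      ∃ n, 1 ≤ n ∧ ∀ i, PartNat U p q n (E i) := by
  haveI := Setting.omega_normal (G := G) (p := p)
  obtain ⟨S, N, hS, hN, hc, -, X, hX, hXne, -, hXoff⟩ := hs.ctx m
  obtain ⟨q, r, E, hF, n, hn, hnat⟩ := exists_frame hc ⟨X, hX, hXne, hXoff⟩
  exact ⟨q, r, S, N, E, hS, hN, hc, hF, lift_iSup_eq Setting.omega_ea m hc hF (fun h =>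
    hs.thompson_not_le ((CfsgLib.Fusion.thompsonSubgroupOf_le_whole T).trans h)), n, hn, hnat⟩

/-- The local `C**(G,T)`-theorem. -/
theorem Setting.structure_thm (hs : Setting G p T M) {H : Type*} [Group H] [Finite H] {U : Type*}
    [AddCommGroup U] [Finite U] [DistribMulAction H U] {V : Subgroup G}
    (hV : V = Cfsg.omegaOneCenter p (Cfsg.pCore p G)) (m : Mdl V ⊤ H U) :
    ∃ (r : ℕ) (E : Fin r → Subgroup G), (∀ i, Subgroup.centralizer (V : Set G) ≤ E i) ∧
      Cfsg.thompsonSubgroup p G ⊔ (T : Subgroup G) ⊔ Subgroup.centralizer (V : Set G) = ⊤ ∧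
      (⨆ i, E i) = Cfsg.thompsonSubgroup p G ⊔ Subgroup.centralizer (V : Set G) ∧
      (∀ i j, i ≠ j → ⁅E i, E j⁆ ≤ Subgroup.centralizer (V : Set G)) ∧
      (∀ i, E i ⊓ (⨆ j ∈ {j | j ≠ i}, E j) ≤ Subgroup.centralizer (V : Set G)) ∧
      (∀ i j, ∃ t ∈ (T : Subgroup G), (E i).map (MulAut.conj t).toMonoidHom = E j) ∧
      (V ⊓ Subgroup.centralizer ((⨆ i, E i : Subgroup G) : Set G)) ⊔ (⨆ i, ⁅V, E i⁆) = V ∧
      (∀ i j, i ≠ j → ⁅⁅V, E i⁆, E j⁆ = ⊥) ∧
      ∀ i, ∃ n : ℕ, 1 ≤ n ∧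
        ((∃ (F : Type) (_ : Field F) (_ : Fintype F), Fintype.card F = p ^ n ∧
            (∃ _ : ((Subgroup.centralizer (V : Set G)).subgroupOf (E i)).Normal,
              Nonempty (↥(E i) ⧸ (Subgroup.centralizer (V : Set G)).subgroupOf (E i) ≃*
                Matrix.SpecialLinearGroup (Fin 2) F)) ∧
            Cfsg.ActsAsSL2OnSection F ⊤ (E i) ⁅V, E i⁆ (⁅V, E i⁆ ⊓ Subgroup.centralizer ((E i : Subgroup G) : Set G))) ∨
          (p = 2 ∧
            (∃ _ : ((Subgroup.centralizer (V : Set G)).subgroupOf (E i)).Normal,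
              Nonempty (↥(E i) ⧸ (Subgroup.centralizer (V : Set G)).subgroupOf (E i) ≃*
                Equiv.Perm (Fin (2 ^ n + 1)))) ∧
            Cfsg.ActsAsOddPermModuleOnSection (2 ^ n + 1) ⊤ (E i) ⁅V, E i⁆
              (⁅V, E i⁆ ⊓ Subgroup.centralizer ((E i : Subgroup G) : Set G)))) := by
  subst hV
  obtain ⟨q, r, S, N, E, hS, -, hc, hF, hJ, n, hn, hnat⟩ := hs.exists_model m
  obtain ⟨hgen, hsup, hcomm, hind, htrans, hspan, hcross⟩ :=
    m.parts hF.parts le_top (S := (T : Subgroup G)) le_top hS.symm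
  refine ⟨r, fun i => m.lift (E i), fun i => le_trans (le_inf le_top le_rfl) (m.centralizer_le_lift _), ?_,
    hsup.trans hJ, hcomm, hind, htrans, hspan, hcross, fun i => ⟨n, hn, (hnat i).acts m le_top (hF.full i)⟩⟩
  rw [sup_right_comm, ← hJ, ← hsup, hgen]

/-- The conclusion in the form of the statement. -/
theorem local_cStarStar (hmin : Cfsg.IsPMinimal p G)
    (hG : Subgroup.centralizer (Cfsg.pCore p G : Set G) ≤ Cfsg.pCore p G) (T : Sylow p G)
    (hne : Cfsg.cStarStarOf p (T : Subgroup G) ≠ ⊤) :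
    let V := Cfsg.omegaOneCenter p (Cfsg.pCore p G)
    ∃ (r : ℕ) (E : Fin r → Subgroup G), (∀ i, Subgroup.centralizer (V : Set G) ≤ E i) ∧
      Cfsg.thompsonSubgroup p G ⊔ (T : Subgroup G) ⊔ Subgroup.centralizer (V : Set G) = ⊤ ∧
      (⨆ i, E i) = Cfsg.thompsonSubgroup p G ⊔ Subgroup.centralizer (V : Set G) ∧
      (∀ i j, i ≠ j → ⁅E i, E j⁆ ≤ Subgroup.centralizer (V : Set G)) ∧
      (∀ i, E i ⊓ (⨆ j ∈ {j | j ≠ i}, E j) ≤ Subgroup.centralizer (V : Set G)) ∧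
      (∀ i j, ∃ t ∈ (T : Subgroup G), (E i).map (MulAut.conj t).toMonoidHom = E j) ∧
      (V ⊓ Subgroup.centralizer ((⨆ i, E i : Subgroup G) : Set G)) ⊔ (⨆ i, ⁅V, E i⁆) = V ∧
      (∀ i j, i ≠ j → ⁅⁅V, E i⁆, E j⁆ = ⊥) ∧
      ∀ i, ∃ n : ℕ, 1 ≤ n ∧
        ((∃ (F : Type) (_ : Field F) (_ : Fintype F), Fintype.card F = p ^ n ∧
            (∃ _ : ((Subgroup.centralizer (V : Set G)).subgroupOf (E i)).Normal,
              Nonempty (↥(E i) ⧸ (Subgroup.centralizer (V : Set G)).subgroupOf (E i) ≃*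
                Matrix.SpecialLinearGroup (Fin 2) F)) ∧
            Cfsg.ActsAsSL2OnSection F ⊤ (E i) ⁅V, E i⁆ (⁅V, E i⁆ ⊓ Subgroup.centralizer ((E i : Subgroup G) : Set G))) ∨
          (p = 2 ∧
            (∃ _ : ((Subgroup.centralizer (V : Set G)).subgroupOf (E i)).Normal,
              Nonempty (↥(E i) ⧸ (Subgroup.centralizer (V : Set G)).subgroupOf (E i) ≃*
                Equiv.Perm (Fin (2 ^ n + 1)))) ∧
            Cfsg.ActsAsOddPermModuleOnSection (2 ^ n + 1) ⊤ (E i) ⁅V, E i⁆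
              (⁅V, E i⁆ ⊓ Subgroup.centralizer ((E i : Subgroup G) : Set G)))) := by
  intro V
  obtain ⟨M, hs⟩ := exists_setting hmin hG hne
  haveI hVn : V.Normal := Setting.omega_normal
  haveI : IsMulCommutative ↥V := Setting.omega_ea.1
  haveI : (Subgroup.centralizer (V : Set G)).Normal := inferInstance
  letI := quotConj V
  exact hs.structure_thm rfl (quotMdl V)

end CfsgLib.CFun.MinParab.Glue
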