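import Cfsg.Agent.Lib.CFun.MinParab.Lift

/-!
# A group with a unique maximal subgroup over a Sylow subgroup and an offender moves the fixed points

`H` is a finite group with no non-trivial normal `p`-subgroup, acting faithfully on an elementary abelian
`p`-group, with a unique maximal subgroup over a Sylow `p`-subgroup `T` and an elementary abelian offender.
Then some fixed vector of `T` is moved. One passes to a smallest faithful invariant subgroup, then to its
quotient by the largest invariant subgroup centralized by all `p'`-elements.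
-/

set_option autoImplicit false
set_option linter.unusedSectionVars false
set_option linter.style.haveILetI false

open CfsgLib.Char.NatSL (fixS mem_fixS fixS_mono tr mem_tr card_sup_mul_card_inf)
open CfsgLib.CFun.OffenderPair (chainStab)

namespace CfsgLib.CFun.MinParab

variable {H : Type*} [Group H] {U : Type*} [AddCommGroup U] [DistribMulAction H U]

/-- The action on an invariant subgroup. -/
@[reducible]
def subAct (X : AddSubgroup U) (hX : ∀ (g : H), ∀ x ∈ X, g • x ∈ X) : DistribMulAction H ↥X where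
  smul g x := ⟨g • (x : U), hX g x x.2⟩
  one_smul x := Subtype.ext (one_smul H (x : U))
  mul_smul g h x := Subtype.ext (mul_smul g h (x : U))
  smul_zero g := Subtype.ext (smul_zero g)
  smul_add g x y := Subtype.ext (smul_add g (x : U) (y : U))

/-- The action on a quotient by an invariant subgroup. -/
@[reducible]
def quotAct (X : AddSubgroup U) (hX : ∀ (g : H), ∀ x ∈ X, g • x ∈ X) : DistribMulAction H (U ⧸ X) where
  smul g := QuotientAddGroup.map X X (DistribMulAction.toAddMonoidHom U g) fun x hx => hX g x hx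
  one_smul q := by
    obtain ⟨v, rfl⟩ := QuotientAddGroup.mk_surjective q
    exact congrArg QuotientAddGroup.mk (one_smul H v)
  mul_smul g h q := by
    obtain ⟨v, rfl⟩ := QuotientAddGroup.mk_surjective q
    exact congrArg QuotientAddGroup.mk (mul_smul g h v)
  smul_zero g := map_zero (QuotientAddGroup.map X X (DistribMulAction.toAddMonoidHom U g) fun x hx => hX g x hx)
  smul_add g := map_add (QuotientAddGroup.map X X (DistribMulAction.toAddMonoidHom U g) fun x hx => hX g x hx)

variable [Finite H] [Finite U] {p : ℕ} [hp : Fact p.Prime] {T : Sylow p H} {M : Subgroup H}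

theorem smul_eq_self_of_coprime (vpU : ∀ u : U, p • u = 0) {Y : AddSubgroup U} {g : H}
    (hg : ¬ p ∣ orderOf g) (hY : ∀ y ∈ Y, g • y = y) {u : U} (hu : g • u - u ∈ Y) : g • u = u := by
  have hk : ∀ k : ℕ, g ^ k • u = u + k • (g • u - u) := fun k => by
    induction k with
    | zero => simp
    | succ k ih =>
      rw [pow_succ', mul_smul, ih, smul_add, smul_comm g k (g • u - u), hY _ hu, succ_nsmul]
      abel
  have h1 := hk (orderOf g)
  rw [pow_orderOf_eq_one, one_smul, left_eq_add] at h1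
  have h2 : addOrderOf (g • u - u) ∣ 1 :=
    ((Nat.Prime.coprime_iff_not_dvd hp.out).2 hg) ▸
      Nat.dvd_gcd (addOrderOf_dvd_of_nsmul_eq_zero (vpU _)) (addOrderOf_dvd_of_nsmul_eq_zero h1)
  exact sub_eq_zero.1 (AddMonoid.addOrderOf_eq_one_iff.1 (Nat.dvd_one.1 h2))

omit [Finite U] in
theorem eq_one_or_not_dvd (K : Subgroup H) (h : ∀ g ∈ K, ¬ p ∣ orderOf g → g = 1) : IsPGroup p K := by
  intro g
  obtain ⟨a, m, hm, he⟩ := Nat.exists_eq_pow_mul_and_not_dvd (orderOf_pos (g : H)).ne' p hp.out.ne_one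
  refine ⟨a, Subtype.ext ?_⟩
  refine h _ (K.pow_mem g.2 _) fun hdvd => hm ?_
  have h1 : orderOf ((g : H) ^ p ^ a) = m := by
    rw [orderOf_pow' _ (pow_ne_zero a hp.out.ne_zero), he, Nat.gcd_mul_right_left,
      Nat.mul_div_cancel_left _ (pow_pos hp.out.pos a)]
  rwa [SubgroupClass.coe_pow, h1] at hdvd

/-- The case of a perfect module. -/
theorem exists_moved_perfect (vpU : ∀ u : U, p • u = 0) (faith : ∀ g : H, (∀ u : U, g • u = u) → g = 1)
    (le_M : (T : Subgroup H) ≤ M) (ne_top : M ≠ ⊤)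
    (uniq : ∀ K : Subgroup H, (T : Subgroup H) ≤ K → K ≠ ⊤ → K ≤ M)
    (core : ∀ X : Subgroup H, X.Normal → IsPGroup p X → X = ⊥) (perfect : commS U (⊤ : Subgroup H) = ⊤)
    {A₀ : Subgroup H} (hA₀ : El p A₀) (hne : A₀ ≠ ⊥)
    (hoff : Nat.card U ≤ Nat.card ↥A₀ * Nat.card ↥(fixS U A₀))
    (hfix : fixS U (T : Subgroup H) ≤ fixS U (⊤ : Subgroup H)) : False := by
  classical
  let Good : Set (AddSubgroup U) :=
    {Y | (∀ g : H, ∀ y ∈ Y, g • y ∈ Y) ∧ ∀ g : H, ¬ p ∣ orderOf g → ∀ y ∈ Y, g • y = y}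
  have hbot : (⊥ : AddSubgroup U) ∈ Good :=
    ⟨fun g y hy => by rw [AddSubgroup.mem_bot.1 hy, smul_zero]; exact zero_mem _,
      fun g _ y hy => by rw [AddSubgroup.mem_bot.1 hy, smul_zero]⟩
  obtain ⟨C, -, hC⟩ := (Set.toFinite Good).exists_le_maximal hbot
  obtain ⟨hCinv, hCfix⟩ := hC.prop
  letI act : DistribMulAction H (U ⧸ C) := quotAct C hCinv
  let π : U →+ U ⧸ C := QuotientAddGroup.mk' C
  have hπ : ∀ (g : H) (u : U), π (g • u) = g • π u := fun g u => rfl
  have hπs : Function.Surjective π := QuotientAddGroup.mk'_surjective C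
  have hmem : ∀ (g : H) (u : U), g • π u = π u ↔ g • u - u ∈ C := fun g u => by
    rw [← hπ, ← sub_eq_zero, ← map_sub]
    exact QuotientAddGroup.eq_zero_iff _
  have hfaith : ∀ g : H, (∀ v : U ⧸ C, g • v = v) → g = 1 := by
    intro g hg
    set K := modStab (H := H) C
    haveI : K.Normal := ⟨fun k hk x u => by
      have h1 := hCinv x _ (hk (x⁻¹ • u))
      rw [smul_sub, smul_inv_smul] at h1
      rwa [mul_smul, mul_smul]⟩
    have hK : IsPGroup p K := eq_one_or_not_dvd K fun k hk hdvd =>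
      faith k fun u => smul_eq_self_of_coprime vpU hdvd (hCfix k hdvd) (hk u)
    have h2 : g ∈ K := fun u => (hmem g u).1 (hg (π u))
    rw [core K inferInstance hK, Subgroup.mem_bot] at h2
    exact h2
  have hCtop : C ≠ ⊤ := by
    intro htop
    have hH : IsPGroup p (⊤ : Subgroup H) := eq_one_or_not_dvd ⊤ fun g _ hdvd =>
      faith g fun u => hCfix g hdvd u (htop ▸ AddSubgroup.mem_top u)
    refine hne (le_bot_iff.1 ?_)
    rw [← core ⊤ inferInstance hH]
    exact le_top
  have ha : Amb (U ⧸ C) p T M :=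
    { vp := fun q => by
        obtain ⟨u, rfl⟩ := hπs q
        rw [← map_nsmul, vpU, map_zero]
      faith := hfaith
      le_M := le_M
      ne_top := ne_top
      uniq := uniq
      core := core
      nofix := by
        rw [eq_bot_iff]
        intro q hq
        obtain ⟨u, rfl⟩ := hπs q
        let C' : AddSubgroup U := (fixS (U ⧸ C) (⊤ : Subgroup H)).comap π
        have hC' : C' ∈ Good := by
          refine ⟨fun g y hy => ?_, fun g hdvd y hy => ?_⟩
          · show π (g • y) ∈ fixS (U ⧸ C) (⊤ : Subgroup H)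
            rw [hπ, mem_fixS.1 (show π y ∈ fixS (U ⧸ C) (⊤ : Subgroup H) from hy) g (Subgroup.mem_top g)]
            exact hy
          · exact smul_eq_self_of_coprime vpU hdvd (hCfix g hdvd) ((hmem g y).1
              (mem_fixS.1 (show π y ∈ fixS (U ⧸ C) (⊤ : Subgroup H) from hy) g (Subgroup.mem_top g)))
        have hle : C ≤ C' := fun c hc => by
          show π c ∈ fixS (U ⧸ C) (⊤ : Subgroup H)
          rw [show π c = 0 from (QuotientAddGroup.eq_zero_iff c).2 hc]
          exact zero_mem _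
        exact AddSubgroup.mem_bot.2 ((QuotientAddGroup.eq_zero_iff u).2 (hC.le_of_ge hC' hle hq))
      perfect := by
        rw [eq_top_iff]
        rintro q -
        obtain ⟨u, rfl⟩ := hπs q
        have hu : u ∈ commS U (⊤ : Subgroup H) := perfect ▸ AddSubgroup.mem_top u
        induction hu using AddSubgroup.closure_induction with
        | mem x hx =>
          obtain ⟨g, hg, v, rfl⟩ := hx
          rw [map_sub, hπ]
          exact sub_mem_commS hg _
        | zero => rw [map_zero]; exact zero_mem _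
        | add x y _ _ h1 h2 => rw [map_add]; exact add_mem h1 h2
        | neg x _ h1 => rw [map_neg]; exact neg_mem h1
      nontriv := by
        obtain ⟨u, -, hu⟩ := SetLike.exists_of_lt (lt_top_iff_ne_top.2 hCtop)
        exact ⟨π u, fun h => hu ((QuotientAddGroup.eq_zero_iff u).1 h)⟩ }
  exact false_of_fix_le vpU hπs hπ ha hA₀ hne hoff hfix

/-- The fixed points of a Sylow subgroup are moved. -/
theorem exists_moved (vpU : ∀ u : U, p • u = 0) (faith : ∀ g : H, (∀ u : U, g • u = u) → g = 1)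
    (le_M : (T : Subgroup H) ≤ M) (ne_top : M ≠ ⊤)
    (uniq : ∀ K : Subgroup H, (T : Subgroup H) ≤ K → K ≠ ⊤ → K ≤ M)
    (core : ∀ X : Subgroup H, X.Normal → IsPGroup p X → X = ⊥) {A₀ : Subgroup H} (hA₀ : El p A₀) (hne : A₀ ≠ ⊥)
    (hoff : Nat.card U ≤ Nat.card ↥A₀ * Nat.card ↥(fixS U A₀)) :
    ∃ u ∈ fixS U (T : Subgroup H), ∃ g : H, g • u ≠ u := by
  classical
  by_contra! hno
  obtain ⟨X, -, hX⟩ := (Set.toFinite {X : AddSubgroup U | (∀ g : H, ∀ x ∈ X, g • x ∈ X) ∧
      ∀ g : H, (∀ x ∈ X, g • x = x) → g = 1}).exists_le_minimal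
    (a := (⊤ : AddSubgroup U)) ⟨fun g x _ => AddSubgroup.mem_top _, fun g h => faith g fun u => h u (AddSubgroup.mem_top u)⟩
  obtain ⟨hXinv, hXf⟩ := hX.prop
  letI act : DistribMulAction H ↥X := subAct X hXinv
  have hcoe : ∀ (g : H) (x : ↥X), ((g • x : ↥X) : U) = g • (x : U) := fun _ _ => rfl
  have hfixX : ∀ (S : Subgroup H) (x : ↥X), x ∈ fixS (↥X) S ↔ (x : U) ∈ fixS U S := fun S x =>
    ⟨fun h g hg => by rw [← hcoe, mem_fixS.1 h g hg],
      fun h g hg => Subtype.ext ((hcoe g x).trans (mem_fixS.1 h g hg))⟩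
  have hperf : commS (↥X) (⊤ : Subgroup H) = ⊤ := by
    set Y : AddSubgroup U := (commS (↥X) (⊤ : Subgroup H)).map X.subtype
    have hYX : Y ≤ X := by
      rintro _ ⟨y, -, rfl⟩
      exact y.2
    have hYm : ∀ (g : H), ∀ x ∈ X, g • x - x ∈ Y := fun g x hx =>
      ⟨g • (⟨x, hx⟩ : ↥X) - ⟨x, hx⟩, sub_mem_commS (Subgroup.mem_top g) _, rfl⟩
    have hYinv : ∀ g : H, ∀ y ∈ Y, g • y ∈ Y := fun g y hy => by
      have := Y.add_mem (hYm g y (hYX hy)) hy
      rwa [sub_add_cancel] at this
    have hYf : ∀ g : H, (∀ y ∈ Y, g • y = y) → g = 1 := by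
      intro g hg
      let K : Subgroup H :=
        { carrier := {k | ∀ y ∈ Y, k • y = y}
          one_mem' := fun y _ => one_smul _ y
          mul_mem' := fun {k l} hk hl y hy => by rw [mul_smul, hl y hy, hk y hy]
          inv_mem' := fun {k} hk y hy => by rw [inv_smul_eq_iff, hk y hy] }
      haveI : K.Normal := ⟨fun k hk x y hy => by
        rw [mul_smul, mul_smul, hk _ (hYinv x⁻¹ y hy), smul_inv_smul]⟩
      have hK : IsPGroup p K := eq_one_or_not_dvd K fun k hk hdvd =>
        hXf k fun x hx => smul_eq_self_of_coprime vpU hdvd hk (hYm k x hx)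
      have h2 : g ∈ K := hg
      rw [core K inferInstance hK, Subgroup.mem_bot] at h2
      exact h2
    have hXY : X ≤ Y := hX.le_of_le ⟨hYinv, hYf⟩ hYX
    rw [eq_top_iff]
    intro x _
    obtain ⟨y, hy, hyx⟩ := hXY x.2
    exact (Subtype.ext hyx : y = x) ▸ hy
  refine exists_moved_perfect (U := ↥X) (fun x => Subtype.ext (by
      rw [AddSubmonoidClass.coe_nsmul]; exact vpU x))
    (fun g hg => hXf g fun x hx => (hcoe g ⟨x, hx⟩).symm.trans (congrArg Subtype.val (hg ⟨x, hx⟩)))
    le_M ne_top uniq core hperf hA₀ hne ?_ fun x hx => (hfixX _ x).2 fun g _ => hno x ((hfixX _ x).1 hx) g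
  -- the offender passes to the subgroup
  have h1 : Nat.card ↥(fixS (↥X) A₀) = Nat.card ↥(X ⊓ fixS U A₀) := Nat.card_congr
    { toFun := fun x => ⟨((x : ↥X) : U), (x : ↥X).2, (hfixX A₀ x).1 x.2⟩
      invFun := fun x => ⟨⟨(x : U), x.2.1⟩, (hfixX A₀ _).2 x.2.2⟩
      left_inv := fun x => rfl
      right_inv := fun x => rfl }
  rw [h1]
  have h2 := card_sup_mul_card_inf X (fixS U A₀)
  refine Nat.le_of_mul_le_mul_right (?_ : _ * Nat.card ↥(fixS U A₀) ≤ _ * Nat.card ↥(fixS U A₀)) Nat.card_pos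
  rw [← h2]
  refine (Nat.mul_le_mul_right _ ((AddSubgroup.card_le_card_addGroup _).trans hoff)).trans (le_of_eq ?_)
  ring

end CfsgLib.CFun.MinParab
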