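import Cfsg.Agent.Lib.CFun.MinParab.GlueMdl
import Cfsg.Agent.Lib.CFun.MinParab.Reduce
import Cfsg.Agent.Lib.Fusion.SylowCenterModule
import Cfsg.Agent.Lib.LocalStructure.Minimal
import Cfsg.Agent.Lib.LocalStructure.Irreducible
import Cfsg.Agent.Lib.LocalStructure.BlockModule
import Cfsg.Agent.Lib.LocalStructure.Reduced

/-!
# The quotient of a minimal parabolic group by the centralizer of `Ω₁ Z(O_p)`

For a `p`-minimal group of characteristic `p` with `C**(G,T) ≠ G`, the quotient `G ⧸ C_G(V)`,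
`V = Ω₁ Z(O_p(G))`, acting on `V`, satisfies the hypotheses of the structure theorem for minimal parabolic
groups with offenders, and the maximal elementary abelian subgroups of `T` map to offenders.
-/

set_option autoImplicit false
set_option linter.unusedSectionVars false
set_option linter.style.haveILetI false

open CfsgLib.Char.NatSL (fixS mem_fixS)
open CfsgLib.Fusion (conjBy mem_conjBy conj_mem_conjBy conjBy_eq_iff IsMaxEA)
open scoped IsMulCommutative

namespace CfsgLib.CFun.MinParab.Glue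

variable {G : Type*} [Group G]

/-- The conjugation action on a normal abelian subgroup, modulo the centralizer. -/
@[reducible]
def quotConj (V : Subgroup G) [V.Normal] [IsMulCommutative ↥V] [(Subgroup.centralizer (V : Set G)).Normal] :
    DistribMulAction (G ⧸ Subgroup.centralizer (V : Set G)) (Additive ↥V) :=
  let ρ : G ⧸ Subgroup.centralizer (V : Set G) →* MulAut ↥V :=
    QuotientGroup.lift _ (MulAut.conjNormal : G →* MulAut ↥V) fun c hc => MulEquiv.ext fun v => Subtype.ext (by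
      show c * (v : G) * c⁻¹ = v
      rw [mul_inv_eq_iff_eq_mul]
      exact (Subgroup.mem_centralizer_iff.1 hc v v.2).symm)
  { smul := fun h a => Additive.ofMul (ρ h (Additive.toMul a))
    one_smul := fun a => congrArg Additive.ofMul (DFunLike.congr_fun (map_one ρ) (Additive.toMul a))
    mul_smul := fun g h a => congrArg Additive.ofMul (DFunLike.congr_fun (map_mul ρ g h) (Additive.toMul a))
    smul_zero := fun g => congrArg Additive.ofMul (map_one (ρ g))
    smul_add := fun g a b => congrArg Additive.ofMul (map_mul (ρ g) (Additive.toMul a) (Additive.toMul b)) }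

theorem quotConj_val (V : Subgroup G) [V.Normal] [IsMulCommutative ↥V] [(Subgroup.centralizer (V : Set G)).Normal]
    (g : G) (a : Additive ↥V) :
    letI := quotConj V
    ((Additive.toMul ((QuotientGroup.mk' (Subgroup.centralizer (V : Set G)) g) • a) : ↥V) : G) =
      g * ((Additive.toMul a : ↥V) : G) * g⁻¹ := rfl

theorem quotConj_faith (V : Subgroup G) [V.Normal] [IsMulCommutative ↥V]
    [(Subgroup.centralizer (V : Set G)).Normal] :
    letI := quotConj V
    ∀ h : G ⧸ Subgroup.centralizer (V : Set G), (∀ a : Additive ↥V, h • a = a) → h = 1 := by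
  letI := quotConj V
  intro h hh
  obtain ⟨g, rfl⟩ := QuotientGroup.mk'_surjective _ h
  refine (QuotientGroup.eq_one_iff g).2 (Subgroup.mem_centralizer_iff.2 fun v hv => ?_)
  have h1 := congrArg (fun x : Additive ↥V => ((Additive.toMul x : ↥V) : G)) (hh (Additive.ofMul ⟨v, hv⟩))
  rw [quotConj_val] at h1
  exact (mul_inv_eq_iff_eq_mul.1 h1).symm

/-- The presentation with `P = ⊤`. -/
def quotMdl (V : Subgroup G) [V.Normal] [IsMulCommutative ↥V] [(Subgroup.centralizer (V : Set G)).Normal] :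
    letI := quotConj V
    Mdl V ⊤ (G ⧸ Subgroup.centralizer (V : Set G)) (Additive ↥V) :=
  letI := quotConj V
  { π := (QuotientGroup.mk' _).comp (⊤ : Subgroup G).subtype
    val := fun a => ((Additive.toMul a : ↥V) : G)
    surj := fun h => by
      obtain ⟨g, rfl⟩ := QuotientGroup.mk'_surjective _ h
      exact ⟨⟨g, Subgroup.mem_top g⟩, rfl⟩
    val_mem := fun a => (Additive.toMul a : ↥V).2
    exists_val := fun v hv => ⟨Additive.ofMul ⟨v, hv⟩, rfl⟩
    val_inj := fun a b h => Additive.toMul.injective (Subtype.ext h)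
    val_add := fun _ _ => rfl
    val_smul := fun g a => quotConj_val V g a
    faith := quotConj_faith V }

variable [Finite G] {p : ℕ} [hp : Fact p.Prime]

/-- The structure of the quotient. -/
structure Setting (G : Type*) [Group G] (p : ℕ) [Fact p.Prime] (T : Sylow p G) (M : Subgroup G) : Prop where
  char : Subgroup.centralizer (Cfsg.pCore p G : Set G) ≤ Cfsg.pCore p G
  only : CfsgLib.LS.OnlyMax (T : Subgroup G) M
  notNormal : ¬ (T : Subgroup G).Normal
  starStar : Cfsg.cStarStarOf p (T : Subgroup G) ≠ ⊤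

variable {T : Sylow p G} {M : Subgroup G}

theorem exists_setting (hmin : Cfsg.IsPMinimal p G)
    (hG : Subgroup.centralizer (Cfsg.pCore p G : Set G) ≤ Cfsg.pCore p G)
    (hne : Cfsg.cStarStarOf p (T : Subgroup G) ≠ ⊤) : ∃ M, Setting G p T M := by
  obtain ⟨M, hM, hu⟩ := (hmin T).2
  exact ⟨M, hG, CfsgLib.LS.onlyMax_of_unique hM ⟨M, hM, hu⟩, (hmin T).1, hne⟩

namespace Setting

theorem omega_normal : (Cfsg.omegaOneCenter p (Cfsg.pCore p G)).Normal := by
  haveI := CfsgLib.Coprime.pCore_normal' (G := G) p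
  haveI : (Cfsg.pCore p G ⊓ Subgroup.centralizer (Cfsg.pCore p G : Set G)).Normal := inferInstance
  refine ⟨fun v hv g => ?_⟩
  have h : Cfsg.omegaOneCenter p (Cfsg.pCore p G) ≤
      (Cfsg.omegaOneCenter p (Cfsg.pCore p G)).comap (MulAut.conj g).toMonoidHom := by
    refine (Subgroup.closure_le _).2 ?_
    rintro x ⟨hx, hxp⟩
    refine Subgroup.subset_closure ⟨Subgroup.Normal.conj_mem inferInstance x hx g, ?_⟩
    show (MulAut.conj g x) ^ p = 1
    rw [← map_pow, hxp, map_one]
  exact h hv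

theorem omega_ea : Cfsg.IsElementaryAbelian p (Cfsg.omegaOneCenter p (Cfsg.pCore p G)) :=
  CfsgLib.LS.omegaOne_center_ea _

theorem omega_le_pCore : Cfsg.omegaOneCenter p (Cfsg.pCore p G) ≤ Cfsg.pCore p G :=
  (CfsgLib.LS.omegaOne_le_self _).trans inf_le_left

theorem omega_le_centralizer :
    Cfsg.omegaOneCenter p (Cfsg.pCore p G) ≤ Subgroup.centralizer (Cfsg.pCore p G : Set G) :=
  (CfsgLib.LS.omegaOne_le_self _).trans inf_le_right

/-- `C(V) ≤ C(Ω₁ Z T) ≤ M`. -/
theorem centralizer_le (hs : Setting G p T M) :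
    Subgroup.centralizer (Cfsg.omegaOneCenter p (Cfsg.pCore p G) : Set G) ≤
        Subgroup.centralizer (Cfsg.omegaOneCenter p (T : Subgroup G) : Set G) ∧
      Subgroup.centralizer (Cfsg.omegaOneCenter p (T : Subgroup G) : Set G) ≤ M := by
  refine ⟨Subgroup.centralizer_le (CfsgLib.BaumannBlock.omegaOneCenter_le_omegaOneCenter_pCore hs.char T), ?_⟩
  have hT : (T : Subgroup G) ≤ Subgroup.centralizer (Cfsg.omegaOneCenter p (T : Subgroup G) : Set G) :=
    Subgroup.le_centralizer_iff.2 ((CfsgLib.LS.omegaOne_le_self _).trans inf_le_right)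
  exact (hs.only.2.2 _ (hT.trans le_sup_left) hs.starStar).trans' le_sup_left

/-- The Thompson subgroup of `T` does not centralize `V`. -/
theorem thompson_not_le (hs : Setting G p T M) :
    ¬ Cfsg.thompsonSubgroupOf p (T : Subgroup G) ≤
      Subgroup.centralizer (Cfsg.omegaOneCenter p (Cfsg.pCore p G) : Set G) := by
  intro hle
  haveI := omega_normal (G := G) (p := p)
  set C := Subgroup.centralizer (Cfsg.omegaOneCenter p (Cfsg.pCore p G) : Set G) with hC
  obtain ⟨R, hR⟩ := CfsgLib.LS.sylow_inf_normal T C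
  have hfr := R.normalizer_sup_eq_top
  rw [hR] at hfr
  have hJ : Cfsg.thompsonSubgroupOf p ((T : Subgroup G) ⊓ C) = Cfsg.thompsonSubgroupOf p (T : Subgroup G) := by
    rw [CfsgLib.Fusion.thompsonSubgroupOf_eq, CfsgLib.Fusion.thompsonSubgroupOf_eq]
    congr 1
    ext A
    obtain ⟨A₀, hA₀⟩ := CfsgLib.Fusion.exists_isMaxEA p (T : Subgroup G)
    have hA₀C : A₀ ≤ C := (CfsgLib.Fusion.le_thompsonSubgroupOf hA₀).trans hle
    constructor
    · rintro ⟨h1, h2, h3⟩
      exact ⟨h1.trans inf_le_left, h2, fun B hB hBe => (hA₀.2.2 B hB hBe).trans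
        (h3 A₀ (le_inf hA₀.1 hA₀C) hA₀.2.1)⟩
    · rintro ⟨h1, h2, h3⟩
      exact ⟨le_inf h1 ((CfsgLib.Fusion.le_thompsonSubgroupOf ⟨h1, h2, h3⟩).trans hle), h2,
        fun B hB hBe => h3 B (hB.trans inf_le_left) hBe⟩
  refine hs.starStar (top_le_iff.1 ?_)
  rw [← hfr]
  refine sup_le ?_ (hs.centralizer_le.1.trans le_sup_left)
  exact ((CfsgLib.Fusion.normalizer_le_normalizer_thompsonSubgroupOf (p := p) _).trans
    (le_of_eq (by rw [hJ]))).trans le_sup_right

theorem map_sylow_le (hs : Setting G p T M) :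
    (T : Subgroup G) ⊔ Subgroup.centralizer (Cfsg.omegaOneCenter p (Cfsg.pCore p G) : Set G) ≤ M :=
  sup_le hs.only.2.1 (hs.centralizer_le.1.trans hs.centralizer_le.2)

end Setting

/-- A maximal elementary abelian subgroup of a Sylow subgroup is one of the whole group. -/
theorem mem_maxEA {S : Sylow p G} {A : Subgroup G} (hA : IsMaxEA p (S : Subgroup G) A) :
    A ∈ Cfsg.maxElementaryAbelianSubgroups p G := by
  refine ⟨hA.2.1, fun B hB => ?_⟩
  obtain ⟨Q, hQ⟩ := (show IsPGroup p B from fun b => ⟨1, Subtype.ext (by rw [pow_one]; exact hB.2 b b.2)⟩).exists_le_sylow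
  obtain ⟨g, hg⟩ := MulAction.exists_smul_eq G Q S
  have h1 : B.map (MulAut.conj g).toMonoidHom ≤ (S : Subgroup G) := by
    rw [← hg]
    exact Subgroup.map_mono hQ
  exact (Subgroup.card_map_of_injective (f := (MulAut.conj g).toMonoidHom) (MulAut.conj g).injective).ge.trans
    (hA.2.2 _ h1 (CfsgLib.Fusion.isElementaryAbelian_map _ hB))

variable {U : Type*} [AddCommGroup U] [Finite U] {H : Type*} [Group H] [DistribMulAction H U] {V : Subgroup G}

/-- The image of a maximal elementary abelian subgroup is an offender. -/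
theorem offender_image [V.Normal] (m : Mdl V ⊤ H U) (hV : Cfsg.IsElementaryAbelian p V) {A : Subgroup G}
    (hA : A ∈ Cfsg.maxElementaryAbelianSubgroups p G) :
    El p ((A.subgroupOf ⊤).map m.π) ∧
      Nat.card U ≤ Nat.card ↥((A.subgroupOf ⊤).map m.π) * Nat.card ↥(fixS U ((A.subgroupOf ⊤).map m.π)) := by
  set X := (A.subgroupOf ⊤).map m.π
  have hel : El p X := by
    refine ⟨?_, ?_⟩
    · rintro _ ⟨a, ha, rfl⟩ _ ⟨b, hb, rfl⟩
      have h : (a : G) * b = b * a := congrArg Subtype.val (hA.1.1.is_comm.comm (⟨a, ha⟩ : A) ⟨b, hb⟩)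
      rw [← map_mul, ← map_mul, show a * b = b * a from Subtype.ext h]
    · rintro _ ⟨a, ha, rfl⟩
      rw [← map_pow, show a ^ p = 1 from Subtype.ext (hA.1.2 _ ha), map_one]
  refine ⟨hel, ?_⟩
  -- the maximality of `A` against `V ⊔ C_A(V)`
  set C := A ⊓ Subgroup.centralizer (V : Set G) with hC
  have hcomm : ∀ v ∈ V, ∀ c ∈ C, v * c = c * v := fun v hv c hc =>
    Subgroup.mem_centralizer_iff.1 hc.2 v hv
  have h1 := hA.2 _ (CfsgLib.EABasic.isElementaryAbelian_sup hV
    (CfsgLib.EABasic.isElementaryAbelian_le hA.1 inf_le_left) hcomm)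
  have h2 := CfsgLib.EABasic.card_sup_mul_card_inf_of_le_normalizer (H := C) (N := V)
    (le_top.trans (Subgroup.normalizer_eq_top_iff.2 inferInstance).ge)
  have hcU : Nat.card U = Nat.card ↥V := Nat.card_congr (Equiv.ofBijective
    (fun u => (⟨m.val u, m.val_mem u⟩ : ↥V))
    ⟨fun a b h => m.val_inj (congrArg Subtype.val h), fun v => (m.exists_val v v.2).imp fun u hu => Subtype.ext hu⟩)
  have hcA : Nat.card ↥A = Nat.card ↥X * Nat.card ↥C := by
    let f : ↥A →* H := m.π.comp (A.subtype.codRestrict ⊤ fun a => Subgroup.mem_top _)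
    have hker : Nat.card ↥f.ker = Nat.card ↥C := Nat.card_congr
      { toFun := fun a => ⟨((a : ↥A) : G), (a : ↥A).2, (m.π_eq_one).1 a.2⟩
        invFun := fun c => ⟨⟨(c : G), c.2.1⟩, (m.π_eq_one (g := ⟨(c : G), Subgroup.mem_top _⟩)).2 c.2.2⟩
        left_inv := fun a => rfl
        right_inv := fun c => rfl }
    have hrange : f.range = X := by
      ext x
      constructor
      · rintro ⟨a, rfl⟩
        exact ⟨⟨(a : G), Subgroup.mem_top _⟩, a.2, rfl⟩
      · rintro ⟨a, ha, rfl⟩
        exact ⟨⟨(a : G), ha⟩, rfl⟩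
    rw [← hrange, ← hker, Subgroup.card_eq_card_quotient_mul_card_subgroup f.ker,
      Nat.card_congr (QuotientGroup.quotientKerEquivRange f).toEquiv]
  have hVA : Nat.card ↥(V ⊓ C : Subgroup G) ≤ Nat.card ↥(fixS U X) := by
    have h3 : V ⊓ C ≤ m.sub (fixS U X) := fun v hv => by
      obtain ⟨u, rfl⟩ := m.exists_val v hv.1
      refine m.val_mem_sub.2 ?_
      rintro _ ⟨a, ha, rfl⟩
      refine m.val_inj ?_
      rw [m.val_smul, mul_inv_eq_iff_eq_mul]
      exact congrArg Subtype.val (hA.1.1.is_comm.comm (⟨a, ha⟩ : A) ⟨m.val u, hv.2.1⟩)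
    refine (Subgroup.card_le_of_le h3).trans (Nat.card_le_card_of_surjective
      (fun u : ↥(fixS U X) => (⟨m.val u, m.val_mem_sub.2 u.2⟩ : ↥(m.sub (fixS U X)))) fun w => ?_)
    obtain ⟨u, hu, he⟩ := m.mem_sub.1 w.2
    exact ⟨⟨u, hu⟩, Subtype.ext he⟩
  rw [hcU]
  refine Nat.le_of_mul_le_mul_right (?_ : _ * Nat.card ↥C ≤ _ * Nat.card ↥C) Nat.card_pos
  calc Nat.card ↥V * Nat.card ↥C = Nat.card ↥(V ⊔ C : Subgroup G) * Nat.card ↥(V ⊓ C : Subgroup G) := by
        rw [sup_comm, inf_comm V C, h2, mul_comm]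
    _ ≤ Nat.card ↥A * Nat.card ↥(fixS U X) := Nat.mul_le_mul h1 hVA
    _ = _ := by rw [hcA]; ring

omit [Finite U] in
/-- The hypotheses of the structure theorem for the quotient. -/
theorem Setting.ctx (hs : Setting G p T M) {H : Type*} [Group H] [Finite H] {U : Type*} [AddCommGroup U]
    [Finite U] [DistribMulAction H U] (m : Mdl (Cfsg.omegaOneCenter p (Cfsg.pCore p G)) ⊤ H U) :
    ∃ (S : Sylow p H) (N : Subgroup H), (S : Subgroup H) = ((T : Subgroup G).subgroupOf ⊤).map m.π ∧
      N = (M.subgroupOf ⊤).map m.π ∧ Rec.Ctx U p S N ∧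
      (∀ h : H, (∀ u ∈ fixS U (S : Subgroup H), h • u = u) → h ∈ N) ∧
      ∃ X : Subgroup H, El p X ∧ X ≠ ⊥ ∧ X ≤ (S : Subgroup H) ∧
        Nat.card U ≤ Nat.card ↥X * Nat.card ↥(fixS U X) := by
  classical
  haveI := omega_normal (G := G) (p := p)
  let π' : G →* H := m.π.comp ((MonoidHom.id G).codRestrict ⊤ fun g => Subgroup.mem_top g)
  have hπ' : Function.Surjective π' := fun h => by
    obtain ⟨g, rfl⟩ := m.surj h
    exact ⟨(g : G), congrArg m.π (Subtype.ext rfl)⟩
  have hker : ∀ g : G, π' g = 1 ↔ g ∈ Subgroup.centralizer (Cfsg.omegaOneCenter p (Cfsg.pCore p G) : Set G) := fun g =>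
    m.π_eq_one (g := ⟨g, Subgroup.mem_top g⟩)
  have himg : ∀ X : Subgroup G, (X.subgroupOf ⊤).map m.π = X.map π' := fun X => by
    ext h
    constructor
    · rintro ⟨g, hg, rfl⟩
      exact ⟨g, hg, rfl⟩
    · rintro ⟨g, hg, rfl⟩
      exact ⟨⟨g, Subgroup.mem_top g⟩, hg, rfl⟩
  set S : Sylow p H := T.mapSurjective hπ'
  have hS : (S : Subgroup H) = (T : Subgroup G).map π' := rfl
  set N := M.map π'
  have hkM : π'.ker ≤ M := fun g hg => (le_sup_right.trans hs.map_sylow_le) ((hker g).1 hg)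
  have hNcomap : N.comap π' = M := Subgroup.comap_map_eq_self hkM
  have vp : ∀ u : U, p • u = 0 := fun u => m.val_eq_one.1 (by
    have h : m.val (p • u) = (m.val u) ^ p := map_pow m.valHom (Multiplicative.ofAdd u) p
    rw [h]
    exact omega_ea.2 _ (m.val_mem u))
  have hle_M : (S : Subgroup H) ≤ N := Subgroup.map_mono hs.only.2.1
  have hne : N ≠ ⊤ := fun h => hs.only.1.1 (by rw [← hNcomap, h, Subgroup.comap_top])
  have huniq : ∀ K : Subgroup H, (S : Subgroup H) ≤ K → K ≠ ⊤ → K ≤ N := by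
    intro K hK hKt
    have h1 : K.comap π' ≤ M := hs.only.2.2 _ (Subgroup.map_le_iff_le_comap.1 hK) fun h =>
      hKt (by rw [← Subgroup.map_comap_eq_self_of_surjective hπ' K, h, Subgroup.map_top_of_surjective _ hπ'])
    rw [← Subgroup.map_comap_eq_self_of_surjective hπ' K]
    exact Subgroup.map_mono h1
  have hcore : ∀ X : Subgroup H, X.Normal → IsPGroup p X → X = ⊥ := by
    intro X hXn hX
    haveI := hXn
    haveI : (X.comap π').Normal := hXn.comap π'
    have hXS : X ≤ (S : Subgroup H) := hX.le_sylow_of_normal S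
    have h1 : X.comap π' ≤ M := fun g hg => hNcomap.le (hle_M (hXS hg))
    have h2 := CfsgLib.LS.inf_le_pCore_of_normal_le T hs.only (X.comap π') h1
    rw [Subgroup.eq_bot_iff_forall]
    intro x hx
    obtain ⟨t, ht, rfl⟩ := hXS hx
    exact (hker t).2 (Subgroup.le_centralizer_iff.1 Setting.omega_le_centralizer (h2 ⟨ht, hx⟩))
  obtain ⟨A, hA, hAC⟩ : ∃ A, IsMaxEA p (T : Subgroup G) A ∧ ¬ A ≤ Subgroup.centralizer (Cfsg.omegaOneCenter p (Cfsg.pCore p G) : Set G) := by
    by_contra! h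
    refine hs.thompson_not_le ?_
    rw [CfsgLib.Fusion.thompsonSubgroupOf_eq]
    exact sSup_le fun A hA => h A hA
  obtain ⟨hel, hoff⟩ := offender_image m omega_ea (mem_maxEA hA)
  rw [himg] at hel hoff
  have hne' : A.map π' ≠ ⊥ := fun h => hAC fun a ha => (hker a).1 ((Subgroup.eq_bot_iff_forall _).1 h _
    ⟨a, ha, rfl⟩)
  obtain ⟨u, hu, g, hg⟩ := MinParab.exists_moved (T := S) (M := N) vp m.faith hle_M hne huniq hcore hel hne' hoff
  refine ⟨S, N, by rw [himg]; rfl, (himg M).symm, ⟨vp, m.faith, hle_M, hne, huniq, hcore,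
    fun h => hg (h hu g (Subgroup.mem_top g))⟩, fun h hh => ?_, A.map π', hel, hne', Subgroup.map_mono hA.1, hoff⟩
  obtain ⟨g, rfl⟩ := hπ' h
  refine Subgroup.mem_map_of_mem π' (hs.centralizer_le.2 (Subgroup.mem_centralizer_iff.2 fun z hz => ?_))
  obtain ⟨w, rfl⟩ := m.exists_val z (CfsgLib.BaumannBlock.omegaOneCenter_le_omegaOneCenter_pCore hs.char T hz)
  have hw : w ∈ fixS U (S : Subgroup H) := by
    rintro _ ⟨t, ht, rfl⟩
    refine m.val_inj ?_
    show m.val (m.π ⟨t, Subgroup.mem_top t⟩ • w) = _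
    rw [m.val_smul, mul_inv_eq_iff_eq_mul]
    exact Subgroup.mem_centralizer_iff.1 ((CfsgLib.LS.omegaOne_le_self _ hz).2) t ht
  have h1 : m.val (m.π ⟨g, Subgroup.mem_top g⟩ • w) = m.val w := congrArg m.val (hh w hw)
  rw [m.val_smul, mul_inv_eq_iff_eq_mul] at h1
  exact h1.symm

end CfsgLib.CFun.MinParab.Glue
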