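import Cfsg.Agent.Lib.CFun.MinParab.Loc

/-!
# The two fixed spaces of a block

For a block `L` at `A`: with `W = C(A)` and `Z = C(L)`, `|V| = |A| |W|`, `|W| = |A| |Z|`, two translates of `W`
at different points meet in `Z` and every vector outside `W` lies in exactly one `A`-translate of a given one.
An `L`-invariant subgroup outside `Z` contains `[V, L]`, so a `p`-subgroup of `N(R₀)` normalized by `L`
centralizes `L`, is trivial modulo `Z` and fixes `[V, L]`.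
-/

set_option autoImplicit false
set_option linter.unusedSectionVars false
set_option linter.style.haveILetI false

open CfsgLib.Char.NatSL (OffData fixS mem_fixS fixS_mono tr mem_tr card_tr smul_mem_tr card_sup_mul_card_inf)
open CfsgLib.Fusion (conjBy mem_conjBy conj_mem_conjBy conjBy_le_iff conjBy_eq_iff)
open CfsgLib.CFun.OffenderPair (fixS_map fixS_sup)

namespace CfsgLib.CFun.MinParab

variable {H : Type*} [Group H] [Finite H] {V : Type*} [AddCommGroup V] [Finite V] [DistribMulAction H V] {p : ℕ}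
  [hp : Fact p.Prime] {T : Sylow p H} {M A L R₀ : Subgroup H} {S : Set (Subgroup H)}

namespace NatBlk

theorem fixA (hb : NatBlk V p M A L) : fixS V (A.subgroupOf L) = fixS V A := by
  rw [← fixS_map (A.subgroupOf L), Subgroup.subgroupOf_map_subtype, inf_eq_left.2 hb.le]

omit [Finite H] [Finite V] in
theorem fixL (L : Subgroup H) : fixS V (⊤ : Subgroup ↥L) = fixS V L := by
  ext v
  exact ⟨fun h x hx => h ⟨x, hx⟩ (Subgroup.mem_top _), fun h x _ => h x x.2⟩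

theorem cardA (hb : NatBlk V p M A L) : Nat.card ↥(A.subgroupOf L) = Nat.card ↥A :=
  Nat.card_congr (Subgroup.subgroupOfEquivOfLe hb.le).toEquiv

theorem exists_notMem (hb : NatBlk V p M A L) : ∃ x ∈ L, x ∉ M := SetLike.not_le_iff_exists.1 hb.notM

theorem Z_le (hb : NatBlk V p M A L) : fixS V L ≤ fixS V A := fixS_mono hb.le

theorem quadratic (hb : NatBlk V p M A L) {a : H} (ha : a ∈ A) (u : V) : a • u - u ∈ fixS V A := by
  obtain ⟨T₀, hd⟩ := hb.data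
  have h := hd.quadratic (a := ⟨a, hb.le ha⟩) ha u
  rwa [hb.fixA] at h

theorem sub_mul (hb : NatBlk V p M A L) {a c : H} (ha : a ∈ A) (hc : c ∈ A) (u : V) :
    (a * c) • u - u = (a • u - u) + (c • u - u) := by
  obtain ⟨T₀, hd⟩ := hb.data
  exact hd.sub_mul_smul (a := ⟨a, hb.le ha⟩) (c := ⟨c, hb.le hc⟩) ha hc u

theorem inf (hb : NatBlk V p M A L) {x : H} (hx : x ∈ L) (hxM : x ∉ M) :
    fixS V A ⊓ tr x (fixS V A) = fixS V L := by
  obtain ⟨T₀, hd⟩ := hb.data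
  have h := hd.inf_eq (x := ⟨x, hx⟩) hxM
  rw [hb.fixA, fixL] at h
  exact h

theorem sup (hb : NatBlk V p M A L) {x : H} (hx : x ∈ L) (hxM : x ∉ M) :
    fixS V A ⊔ tr x (fixS V A) = ⊤ := by
  obtain ⟨T₀, hd⟩ := hb.data
  have h := (hd.surj_card (x := ⟨x, hx⟩) hxM).1
  rw [hb.fixA] at h
  exact h

theorem card_W (hb : NatBlk V p M A L) :
    Nat.card ↥(fixS V A) = Nat.card ↥A * Nat.card ↥(fixS V L) := by
  obtain ⟨T₀, hd⟩ := hb.data
  obtain ⟨x, hx⟩ := hd.exists_notMem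
  have h := (hd.surj_card hx).2.1
  rw [hb.cardA, hb.fixA, fixL] at h
  exact h

theorem card_V (hb : NatBlk V p M A L) : Nat.card V = Nat.card ↥A * Nat.card ↥(fixS V A) := by
  obtain ⟨x, hx, hxM⟩ := hb.exists_notMem
  have h2 := card_sup_mul_card_inf (fixS V A) (tr x (fixS V A))
  rw [hb.sup hx hxM, hb.inf hx hxM, card_tr, AddSubgroup.card_top] at h2
  refine Nat.eq_of_mul_eq_mul_right (Nat.card_pos : 0 < Nat.card ↥(fixS V L)) ?_
  rw [h2, hb.card_W]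
  ring

theorem meet (hb : NatBlk V p M A L) {x y : H} (hx : x ∈ L) (hy : y ∈ L) (h : x⁻¹ * y ∉ M) {v : V}
    (hvx : v ∈ tr x (fixS V A)) (hvy : v ∈ tr y (fixS V A)) : v ∈ fixS V L := by
  obtain ⟨T₀, hd⟩ := hb.data
  rw [← fixL]
  refine hd.tr_inf (x := ⟨x, hx⟩) (y := ⟨y, hy⟩) h ?_ ?_ <;> rw [hb.fixA] <;> assumption

theorem free (hb : NatBlk V p M A L) {a x : H} (hx : x ∈ L) (hxM : x ∉ M) (ha : a ∈ A) (ha1 : a ≠ 1) :
    x⁻¹ * a * x ∉ M := by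
  obtain ⟨T₀, hd⟩ := hb.data
  exact hd.free (x := ⟨x, hx⟩) (a := ⟨a, hb.le ha⟩) hxM ha fun h => ha1 (congrArg Subtype.val h)

theorem sep (hb : NatBlk V p M A L) {a : H} (ha : a ∈ A) (ha1 : a ≠ 1) {v : V}
    (hv : a • v - v ∈ fixS V L) : v ∈ fixS V A := by
  obtain ⟨x, hx, hxM⟩ := hb.exists_notMem
  obtain ⟨T₀, hd⟩ := hb.data
  obtain ⟨w, hw, w', hw', rfl⟩ :=
    AddSubgroup.mem_sup.1 ((hb.sup hx hxM).symm ▸ AddSubgroup.mem_top v : v ∈ fixS V A ⊔ tr x (fixS V A))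
  have h1 : a • w' - w' ∈ fixS V L := by
    rw [smul_add, hw a ha] at hv
    rwa [add_sub_add_left_eq_sub] at hv
  refine AddSubgroup.add_mem _ hw (hb.Z_le ?_)
  rw [← fixL]
  exact hd.inj (x := ⟨x, hx⟩) (a := ⟨a, hb.le ha⟩) hxM ha (fun h => ha1 (congrArg Subtype.val h))
    (by rw [hb.fixA]; exact hw') (by rw [fixL]; exact h1)

theorem exists_ne_one (hb : NatBlk V p M A L) : ∃ a ∈ A, a ≠ 1 := by
  obtain ⟨x, hx, hxM⟩ := hb.exists_notMem
  obtain ⟨T₀, hd⟩ := hb.data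
  obtain ⟨a, ha, hax⟩ := hd.conj_notLe (x := ⟨x, hx⟩) hxM
  exact ⟨a, ha, fun h => hax (by
    have : a = 1 := Subtype.ext h
    rw [this, mul_one, inv_mul_cancel]
    exact one_mem _)⟩

theorem surjW (hb : NatBlk V p M A L) {v w : V} (hv : v ∉ fixS V A) (hw : w ∈ fixS V A) :
    ∃ a ∈ A, w - (a • v - v) ∈ fixS V L := by
  obtain ⟨x, hx, hxM⟩ := hb.exists_notMem
  obtain ⟨T₀, hd⟩ := hb.data
  obtain ⟨-, -, -, hsurj⟩ := hd.surj_card (x := ⟨x, hx⟩) hxM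
  obtain ⟨w₀, hw₀, v', hv', rfl⟩ :=
    AddSubgroup.mem_sup.1 ((hb.sup hx hxM).symm ▸ AddSubgroup.mem_top v : v ∈ fixS V A ⊔ tr x (fixS V A))
  obtain ⟨a, ha, hz⟩ := hsurj v' (by rw [hb.fixA]; exact hv')
    (fun h => hv (AddSubgroup.add_mem _ hw₀ (hb.Z_le (fixL (V := V) L ▸ h)))) w (by rw [hb.fixA]; exact hw)
  refine ⟨a, ha, ?_⟩
  rw [← fixL]
  rw [smul_add, mem_fixS.1 hw₀ (a : H) ha, add_sub_add_left_eq_sub]
  exact hz

theorem line (hb : NatBlk V p M A L) {x : H} (hx : x ∈ L) (hxM : x ∉ M) {v : V} (hv : v ∉ fixS V A) :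
    ∃ a ∈ A, v ∈ tr (a * x) (fixS V A) := by
  obtain ⟨w, hw, w', hw', rfl⟩ :=
    AddSubgroup.mem_sup.1 ((hb.sup hx hxM).symm ▸ AddSubgroup.mem_top v : v ∈ fixS V A ⊔ tr x (fixS V A))
  have hw'W : w' ∉ fixS V A := fun h => hv (AddSubgroup.add_mem _ hw h)
  obtain ⟨a, ha, hz⟩ := hb.surjW hw'W hw
  refine ⟨a, ha, ?_⟩
  have e : w + w' = a • w' + (w - (a • w' - w')) := by abel
  rw [e]
  refine AddSubgroup.add_mem _ ?_ ?_
  · rw [mem_tr, mul_inv_rev, mul_smul, inv_smul_smul]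
    exact mem_tr.1 hw'
  · rw [mem_tr, mem_fixS.1 hz _ (L.inv_mem (L.mul_mem (hb.le ha) hx))]
    exact hb.Z_le hz

theorem exists_notW (hb : NatBlk V p M A L) : ∃ v, v ∉ fixS V A := by
  by_contra! h
  obtain ⟨a, ha, ha1⟩ := hb.exists_ne_one
  obtain ⟨T₀, hd⟩ := hb.data
  exact ha1 (congrArg Subtype.val (hd.faith ⟨a, hb.le ha⟩ fun v => h v a ha))

theorem exists_W_notZ (hb : NatBlk V p M A L) : ∃ w ∈ fixS V A, w ∉ fixS V L := by
  obtain ⟨a, ha, ha1⟩ := hb.exists_ne_one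
  obtain ⟨v, hv⟩ := hb.exists_notW
  exact ⟨a • v - v, hb.quadratic ha v, fun h => hv (hb.sep ha ha1 h)⟩

theorem spread (hb : NatBlk V p M A L) {x y : H} (hx : x ∈ L) (hxM : x ∉ M) (hy : y ∈ L) (hyM : y ∉ M) :
    ∃ a ∈ A, (a * x)⁻¹ * y ∈ M := by
  obtain ⟨w, hw, hwZ⟩ := hb.exists_W_notZ
  have hvZ : y • w ∉ fixS V L := fun h => hwZ (by
    have h1 := mem_fixS.1 h _ (L.inv_mem hy)
    rw [inv_smul_smul] at h1
    rwa [h1])
  obtain ⟨a, ha, hm⟩ := hb.line hx hxM (v := y • w) fun h =>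
    hvZ ((hb.inf hy hyM).le ⟨h, smul_mem_tr hw⟩)
  refine ⟨a, ha, ?_⟩
  by_contra hM
  exact hvZ (hb.meet (L.mul_mem (hb.le ha) hx) hy hM hm (smul_mem_tr hw))

/-- An invariant subgroup outside `Z` contains `[V, L]`. -/
theorem commS_le (hb : NatBlk V p M A L) {X : AddSubgroup V} (hX : ∀ g ∈ L, ∀ v ∈ X, g • v ∈ X)
    (hne : ¬ X ≤ fixS V L) : commS V L ≤ X := by
  obtain ⟨x, hx, hxM⟩ := hb.exists_notMem
  obtain ⟨v, hvX, hvW⟩ : ∃ v ∈ X, v ∉ fixS V A := by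
    obtain ⟨v, hvX, hvZ⟩ := SetLike.not_le_iff_exists.1 hne
    by_cases hvW : v ∈ fixS V A
    · refine ⟨x • v, hX x hx v hvX, fun h => hvZ ?_⟩
      have h1 := mem_fixS.1 ((hb.inf hx hxM).le ⟨h, smul_mem_tr hvW⟩) _ (L.inv_mem hx)
      rw [inv_smul_smul] at h1
      exact h1 ▸ (hb.inf hx hxM).le ⟨h, smul_mem_tr hvW⟩
    · exact ⟨v, hvX, hvW⟩
  have hW : fixS V A ≤ X ⊔ fixS V L := fun w hw => by
    obtain ⟨a, ha, hz⟩ := hb.surjW hvW hw
    exact AddSubgroup.mem_sup.2 ⟨a • v - v, X.sub_mem (hX a (hb.le ha) v hvX) hvX, _, hz, add_sub_cancel _ _⟩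
  have htop : ∀ u : V, u ∈ X ⊔ fixS V L := fun u => by
    refine (top_le_iff.1 ((hb.sup hx hxM).ge.trans (sup_le hW ?_))).symm ▸ AddSubgroup.mem_top u
    rintro _ ⟨w, hw, rfl⟩
    obtain ⟨y, hy, z, hz, rfl⟩ := AddSubgroup.mem_sup.1 (hW hw)
    show x • (y + z) ∈ X ⊔ fixS V L
    rw [smul_add, mem_fixS.1 hz x hx]
    exact AddSubgroup.mem_sup.2 ⟨_, hX x hx y hy, z, hz, rfl⟩
  refine (AddSubgroup.closure_le _).2 ?_
  rintro _ ⟨g, hg, u, rfl⟩
  obtain ⟨y, hy, z, hz, rfl⟩ := AddSubgroup.mem_sup.1 (htop u)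
  show g • (y + z) - (y + z) ∈ X
  rw [smul_add, mem_fixS.1 hz g hg, add_sub_add_right_eq_sub]
  exact X.sub_mem (hX g hg y hy) hy

theorem sup_fix (hb : NatBlk V p M A L) : commS V L ⊔ fixS V L = ⊤ := by
  obtain ⟨x, hx, hxM⟩ := hb.exists_notMem
  obtain ⟨v, hv⟩ := hb.exists_notW
  have hW : fixS V A ≤ commS V L ⊔ fixS V L := fun w hw => by
    obtain ⟨a, ha, hz⟩ := hb.surjW hv hw
    exact AddSubgroup.mem_sup.2 ⟨a • v - v, sub_mem_commS (hb.le ha) v, _, hz, add_sub_cancel _ _⟩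
  rw [eq_top_iff, ← hb.sup hx hxM]
  refine sup_le hW ?_
  rintro _ ⟨w, hw, rfl⟩
  obtain ⟨y, hy, z, hz, rfl⟩ := AddSubgroup.mem_sup.1 (hW hw)
  show x • (y + z) ∈ commS V L ⊔ fixS V L
  rw [smul_add, mem_fixS.1 hz x hx]
  exact AddSubgroup.mem_sup.2 ⟨_, smul_mem_commS_of_mem hx hy, z, hz, rfl⟩

end NatBlk

/-- A `p`-subgroup of `N(R₀)` normalized by a block. -/
theorem Loc.block_centralizes (hl : Loc V p T M S R₀) (ha : Amb V p T M) (hA : Mem S M R₀ A)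
    (hb : NatBlk V p M A L) {R : Subgroup H} (hR : IsPGroup p R)
    (hRH : R ≤ Subgroup.normalizer (R₀ : Set H)) (hLR : L ≤ Subgroup.normalizer (R : Set H)) :
    commS V R ≤ fixS V L ∧ commS V L ≤ fixS V R ∧ ∀ r ∈ R, ∀ l ∈ L, r * l = l * r := by
  have hAS := hA.1
  have hAH := hA.2.2.1
  have hRA : IsPGroup p (R ⊔ A : Subgroup H) :=
    hR.to_sup_of_normal_left' (hl.el A hAS).pgroup (hb.le.trans hLR)
  have hM := hl.toM A hA _ hRA (sup_le hRH hAH) le_sup_right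
  obtain ⟨g, hg, hgR⟩ := CfsgLib.Fusion.exists_conj_le_of_not_dvd_relIndex (T := (T : Subgroup H)) (H := M) T.2
    ha.le_M (fun h => T.not_dvd_index (h.trans (Subgroup.relIndex_dvd_index_of_le ha.le_M))) hRA hM
  set P' := conjBy g⁻¹ (T : Subgroup H) with hP'
  have hRP' : R ≤ P' := fun r hr => by
    rw [hP', mem_conjBy, inv_inv]
    exact hgR (conj_mem_conjBy (Subgroup.mem_sup_left hr))
  have hP'p : IsPGroup p P' := CfsgLib.Fusion.isPGroup_conjBy _ T.2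
  have hgen : P' ⊔ L = ⊤ := ha.conj_sup_eq_top (M.inv_mem hg) hb.notM
  have h1 : commS V R ≤ fixS V L := by
    by_contra h
    have h2 : commS V L ≤ commS V R := hb.commS_le (fun x hx v hv => smul_mem_commS (hLR hx) hv) h
    obtain ⟨v, hv⟩ := ha.nontriv
    have h3 : commS V P' = ⊤ := eq_top_of_commS_le ha.vp ha.perfect hP'p hgen
      (fun r hr x hx => smul_mem_commS_of_mem hr hx) (h2.trans (commS_mono hRP'))
    have h4 := eq_top_of_sup_commS ha.vp hP'p (Y := ⊥)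
      (fun r _ x hx => by rw [AddSubgroup.mem_bot.1 hx, smul_zero]; exact zero_mem _) (by rw [h3, bot_sup_eq])
    exact hv (AddSubgroup.mem_bot.1 (h4 ▸ AddSubgroup.mem_top v : v ∈ (⊥ : AddSubgroup V)))
  have h2 : commS V L ≤ fixS V R := by
    refine hb.commS_le (fun x hx v hv => smul_mem_fixS (hLR hx) hv) fun h => ?_
    obtain ⟨v, hv, hvL⟩ := ha.exists_moved (M.inv_mem hg) hb.notM
    exact hvL (h (fixS_mono hRP' hv))
  refine ⟨h1, h2, fun r hr l hl' => ?_⟩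
  refine inv_mul_eq_one.1 (ha.faith _ fun v => ?_)
  rw [mul_smul, inv_smul_eq_iff, mul_smul, mul_smul]
  have e1 := mem_fixS.1 (h2 (sub_mem_commS hl' v)) r hr
  have e2 := mem_fixS.1 (h1 (sub_mem_commS hr v)) l hl'
  rw [smul_sub] at e1 e2
  linear_combination (norm := abel) e2 - e1

end CfsgLib.CFun.MinParab
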