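import Cfsg.Agent.Lib.CFun.MinParab.Block
import Cfsg.Agent.Lib.CFun.OffenderPair.Torus

/-!
# Coordinates of a block

A block at `A` gives a field `F` of order `|A|`, a parametrisation `τ` of `A` by `F`, a surjection `χ` of the
module onto `F` with kernel `W = C(A)`, and for each non-zero scalar `c` an element of the block multiplying
the parameter by `c²` and the coordinate by `c⁻¹`.
-/

set_option autoImplicit false
set_option linter.unusedSectionVars false
set_option linter.style.haveILetI false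

open scoped MatrixGroups
open CfsgLib.Char.NatSL (OffData fixS mem_fixS fixS_mono)
open CfsgLib.CFun.OffenderPair (diagU)
open CfsgLib.QuadPair (upper upper_val upper_mul conj_upper ext_two det_eq)

namespace CfsgLib.CFun.MinParab

variable {H : Type*} [Group H] [Finite H] {V : Type*} [AddCommGroup V] [Finite V] [DistribMulAction H V] {p : ℕ}
  [hp : Fact p.Prime] {M A L : Subgroup H}

/-- The coordinates. -/
theorem NatBlk.exists_coord (hb : NatBlk V p M A L) :
    ∃ (F : Type) (_ : Field F) (_ : Fintype F) (τ : F → H) (χ : V →+ F), Fintype.card F = Nat.card ↥A ∧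
      (∀ t, τ t ∈ A) ∧ (∀ s t, τ (s + t) = τ s * τ t) ∧ Function.Injective τ ∧ (∀ a ∈ A, ∃ t, τ t = a) ∧
      Function.Surjective χ ∧ (∀ v, χ v = 0 ↔ v ∈ fixS V A) ∧
      ∀ c : F, c ≠ 0 → ∃ h ∈ L, (∀ t, h * τ t * h⁻¹ = τ (c ^ 2 * t)) ∧ ∀ v, χ (h • v) = c⁻¹ * χ v := by
  classical
  obtain ⟨T₀, hd⟩ := hb.data
  obtain ⟨F, iF, iFf, hF, -, ρ, ψ, hψs, hψ0, hψ⟩ := hd.natural
  obtain ⟨w, hw, hwZ⟩ := hb.exists_W_notZ
  have hu : ψ w ≠ 0 := fun h => hwZ (by rw [← NatBlk.fixL]; exact (hψ0 w).1 h)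
  obtain ⟨Q, hQ⟩ : ∃ Q : SL(2, F), (Q : Matrix (Fin 2) (Fin 2) F).mulVec ![1, 0] = ψ w := by
    by_cases h0 : ψ w 0 = 0
    · have h1 : ψ w 1 ≠ 0 := fun h1 => hu (funext fun i => by fin_cases i <;> assumption)
      refine ⟨⟨!![ψ w 0, -(ψ w 1)⁻¹; ψ w 1, 0], by simp [Matrix.det_fin_two_of, h1]⟩, ?_⟩
      ext i
      fin_cases i <;> simp [Matrix.mulVec, dotProduct, Fin.sum_univ_two]
    · refine ⟨⟨!![ψ w 0, 0; ψ w 1, (ψ w 0)⁻¹], by simp [Matrix.det_fin_two_of, h0]⟩, ?_⟩
      ext i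
      fin_cases i <;> simp [Matrix.mulVec, dotProduct, Fin.sum_univ_two]
  let r : ↥L ≃* SL(2, F) := ρ.trans (MulAut.conj Q⁻¹)
  let φ : V → Fin 2 → F := fun v => ((Q⁻¹ : SL(2, F)) : Matrix (Fin 2) (Fin 2) F).mulVec (ψ v)
  have hφh : ∀ (g : ↥L) (v : V), φ ((g : H) • v) = (r g : Matrix (Fin 2) (Fin 2) F).mulVec (φ v) := by
    intro g v
    show ((Q⁻¹ : SL(2, F)) : Matrix (Fin 2) (Fin 2) F).mulVec (ψ (g • v)) =
      ((Q⁻¹ * ρ g * (Q⁻¹)⁻¹ : SL(2, F)) : Matrix (Fin 2) (Fin 2) F).mulVec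
        (((Q⁻¹ : SL(2, F)) : Matrix (Fin 2) (Fin 2) F).mulVec (ψ v))
    rw [hψ, Matrix.mulVec_mulVec, Matrix.mulVec_mulVec, ← Matrix.SpecialLinearGroup.coe_mul,
      ← Matrix.SpecialLinearGroup.coe_mul, inv_mul_cancel_right]
  have hφw : φ w = ![1, 0] := by
    show ((Q⁻¹ : SL(2, F)) : Matrix (Fin 2) (Fin 2) F).mulVec (ψ w) = ![1, 0]
    rw [← hQ, Matrix.mulVec_mulVec, ← Matrix.SpecialLinearGroup.coe_mul, inv_mul_cancel,
      Matrix.SpecialLinearGroup.coe_one, Matrix.one_mulVec]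
  have hφs : Function.Surjective φ := fun y => by
    obtain ⟨v, hv⟩ := hψs ((Q : Matrix (Fin 2) (Fin 2) F).mulVec y)
    refine ⟨v, ?_⟩
    show ((Q⁻¹ : SL(2, F)) : Matrix (Fin 2) (Fin 2) F).mulVec (ψ v) = y
    rw [hv, Matrix.mulVec_mulVec, ← Matrix.SpecialLinearGroup.coe_mul, inv_mul_cancel,
      Matrix.SpecialLinearGroup.coe_one, Matrix.one_mulVec]
  -- `A` is upper unitriangular
  let ent : ↥A → F := fun a => (r ⟨a, hb.le a.2⟩ : Matrix (Fin 2) (Fin 2) F) 0 1
  have hA : ∀ a : ↥A, r ⟨a, hb.le a.2⟩ = upper (ent a) := by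
    intro a
    have h1 := hφh ⟨a, hb.le a.2⟩ w
    rw [show (a : H) • w = w from mem_fixS.1 hw a a.2, hφw] at h1
    have h00 := congrFun h1 0
    have h10 := congrFun h1 1
    simp [Matrix.mulVec, dotProduct, Fin.sum_univ_two] at h00 h10
    have h11 := det_eq (r ⟨a, hb.le a.2⟩)
    rw [← h00, ← h10, one_mul, mul_zero, sub_zero] at h11
    refine ext_two ?_ ?_ ?_ ?_ <;> simp [upper_val, ent, ← h00, ← h10, h11]
  have hentinj : Function.Injective ent := fun a a' h => by
    have h1 : r ⟨a, hb.le a.2⟩ = r ⟨a', hb.le a'.2⟩ := by rw [hA, hA, h]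
    exact Subtype.ext (congrArg (fun z : ↥L => (z : H)) (r.injective h1))
  have hcard : Fintype.card F = Nat.card ↥A := hF.trans hb.cardA
  have hent : Function.Surjective ent :=
    ((Nat.bijective_iff_injective_and_card ent).2 ⟨hentinj, by rw [← hcard, Nat.card_eq_fintype_card]⟩).2
  let τ : F → H := fun t => ((r.symm (upper t) : ↥L) : H)
  have hτent : ∀ a : ↥A, τ (ent a) = a := fun a => by
    show ((r.symm (upper (ent a)) : ↥L) : H) = a
    rw [← hA a, r.symm_apply_apply]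
  have hτA : ∀ t, τ t ∈ A := fun t => by
    obtain ⟨a, rfl⟩ := hent t
    rw [hτent]
    exact a.2
  have hτinj : Function.Injective τ := fun s t h => by
    have h1 := congrArg r (Subtype.ext h : r.symm (upper s) = r.symm (upper t))
    rw [r.apply_symm_apply, r.apply_symm_apply] at h1
    simpa [upper_val] using congrFun₂ (congrArg (fun g : SL(2, F) => (g : Matrix (Fin 2) (Fin 2) F)) h1) 0 1
  let χ : V →+ F := AddMonoidHom.mk' (fun v => φ v 1) fun u v => by
    show ((Q⁻¹ : SL(2, F)) : Matrix (Fin 2) (Fin 2) F).mulVec (ψ (u + v)) 1 = _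
    rw [map_add, Matrix.mulVec_add]
    rfl
  refine ⟨F, iF, iFf, τ, χ, hcard, hτA, fun s t => ?_, hτinj, fun a ha => ⟨_, hτent ⟨a, ha⟩⟩, ?_, ?_, ?_⟩
  · show ((r.symm (upper (s + t)) : ↥L) : H) = _
    rw [← upper_mul, map_mul]
    rfl
  · intro y
    obtain ⟨v, hv⟩ := hφs ![0, y]
    exact ⟨v, by show φ v 1 = y; rw [hv]; rfl⟩
  · intro v
    obtain ⟨a, ha⟩ := hent 1
    have h1 := hφh ⟨a, hb.le a.2⟩ v
    rw [hA a, ha] at h1
    have h1' : φ ((a : H) • v) 0 = φ v 0 + φ v 1 := by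
      have := congrFun h1 0
      simpa [upper_val, Matrix.mulVec, dotProduct, Fin.sum_univ_two] using this
    constructor
    · intro hv
      have hv' : φ v 1 = 0 := hv
      refine hb.sep a.2 (fun h => ?_) ?_
      · have e : ent a = ent 1 := congrArg ent (Subtype.ext h)
        rw [ha] at e
        simp [ent, show (⟨(1 : H), hb.le A.one_mem⟩ : ↥L) = 1 from rfl] at e
      · rw [← NatBlk.fixL, ← hψ0]
        have h2 : φ ((a : H) • v) = φ v := by
          funext i
          fin_cases i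
          · simpa [hv'] using h1'
          · have := congrFun h1 1
            simpa [upper_val, Matrix.mulVec, dotProduct, Fin.sum_univ_two] using this
        have h3 := congrArg (fun z => (Q : Matrix (Fin 2) (Fin 2) F).mulVec z) h2
        simp only [φ, Matrix.mulVec_mulVec, ← Matrix.SpecialLinearGroup.coe_mul, mul_inv_cancel,
          Matrix.SpecialLinearGroup.coe_one, Matrix.one_mulVec] at h3
        rw [map_sub, h3, sub_self]
    · intro hv
      show φ v 1 = 0
      rw [show (a : H) • v = v from mem_fixS.1 hv a a.2] at h1'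
      exact (left_eq_add.1 h1')
  · intro c hc
    refine ⟨((r.symm (diagU (Units.mk0 c hc)) : ↥L) : H), (r.symm _).2, fun t => ?_, fun v => ?_⟩
    · show ((r.symm (diagU (Units.mk0 c hc)) * r.symm (upper t) * (r.symm (diagU (Units.mk0 c hc)))⁻¹ : ↥L) : H)
        = ((r.symm (upper (c ^ 2 * t)) : ↥L) : H)
      rw [← map_inv, ← map_mul, ← map_mul, conj_upper (by simp [diagU])]
      simp [diagU]
    · show φ (((r.symm (diagU (Units.mk0 c hc)) : ↥L) : H) • v) 1 = c⁻¹ * φ v 1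
      rw [hφh, r.apply_symm_apply]
      simp [diagU, Matrix.mulVec, dotProduct, Fin.sum_univ_two]

end CfsgLib.CFun.MinParab
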