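import Cfsg.Agent.Lib.CFun.MinParab.Rec.Parts
import Cfsg.Prelude.Def_BaumannBlocks

/-!
# A normalized elementary abelian subgroup as a module

`Mdl V P H U` presents the conjugation action of `P` on `V` as an action of `H` on `U`. Statements about the
parts of `H` on `U` are read back as statements about subgroups of the ambient group.
-/

set_option autoImplicit false
set_option linter.unusedSectionVars false

open CfsgLib.Char.NatSL (fixS mem_fixS tr mem_tr)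
open CfsgLib.Fusion (conjBy mem_conjBy conj_mem_conjBy)
open scoped commutatorElement

namespace CfsgLib.CFun.MinParab.Glue

variable {G : Type*} [Group G] {H : Type*} [Group H] {U : Type*} [AddCommGroup U] [DistribMulAction H U]

/-- A presentation of the action of `P` on `V`. -/
structure Mdl (V P : Subgroup G) (H : Type*) [Group H] (U : Type*) [AddCommGroup U] [DistribMulAction H U] where
  /-- The homomorphism to the acting group. -/
  π : ↥P →* H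
  /-- The elements of the module as group elements. -/
  val : U → G
  surj : Function.Surjective π
  val_mem : ∀ u, val u ∈ V
  exists_val : ∀ v ∈ V, ∃ u, val u = v
  val_inj : Function.Injective val
  val_add : ∀ u w, val (u + w) = val u * val w
  val_smul : ∀ (g : ↥P) (u : U), val (π g • u) = (g : G) * val u * (g : G)⁻¹
  faith : ∀ h : H, (∀ u : U, h • u = u) → h = 1

namespace Mdl

variable {V P : Subgroup G} (m : Mdl V P H U)

/-- The elements of `V` as a homomorphism. -/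
def valHom : Multiplicative U →* G :=
  MonoidHom.mk' (fun u => m.val (Multiplicative.toAdd u)) fun _ _ => m.val_add _ _

theorem val_zero : m.val 0 = 1 := map_one m.valHom

theorem val_neg (u : U) : m.val (-u) = (m.val u)⁻¹ := map_inv m.valHom (Multiplicative.ofAdd u)

theorem val_sub (u w : U) : m.val (u - w) = m.val u * (m.val w)⁻¹ := by
  rw [sub_eq_add_neg, m.val_add, m.val_neg]

theorem val_eq_one {u : U} : m.val u = 1 ↔ u = 0 :=
  ⟨fun h => m.val_inj (h.trans m.val_zero.symm), fun h => h ▸ m.val_zero⟩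

theorem le_normalizer (m : Mdl V P H U) : P ≤ Subgroup.normalizer (V : Set G) := by
  intro g hg
  refine Subgroup.mem_normalizer_iff.2 fun v => ⟨fun hv => ?_, fun hv => ?_⟩
  · obtain ⟨u, rfl⟩ := m.exists_val v hv
    have h := m.val_mem (m.π ⟨g, hg⟩ • u)
    rwa [m.val_smul] at h
  · obtain ⟨u, hu⟩ := m.exists_val _ hv
    have h := m.val_mem (m.π ⟨g, hg⟩⁻¹ • u)
    rw [m.val_smul, hu] at h
    simpa [mul_assoc] using h

theorem π_eq_one {g : ↥P} : m.π g = 1 ↔ (g : G) ∈ Subgroup.centralizer (V : Set G) := by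
  refine ⟨fun h => Subgroup.mem_centralizer_iff.2 fun v hv => ?_, fun h => m.faith _ fun u => m.val_inj ?_⟩
  · obtain ⟨u, rfl⟩ := m.exists_val v hv
    have h1 := m.val_smul g u
    rw [h, one_smul, eq_mul_inv_iff_mul_eq] at h1
    exact h1
  · rw [m.val_smul, eq_comm, eq_mul_inv_iff_mul_eq]
    exact Subgroup.mem_centralizer_iff.1 h _ (m.val_mem u)

/-- The subgroup of `P` over a subgroup of `H`. -/
def lift (E : Subgroup H) : Subgroup G := (E.comap m.π).map P.subtype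

theorem mem_lift {E : Subgroup H} {g : G} : g ∈ m.lift E ↔ ∃ hg : g ∈ P, m.π ⟨g, hg⟩ ∈ E := by
  constructor
  · rintro ⟨x, hx, rfl⟩
    exact ⟨x.2, hx⟩
  · rintro ⟨hg, h⟩
    exact ⟨⟨g, hg⟩, h, rfl⟩

theorem lift_le (E : Subgroup H) : m.lift E ≤ P := Subgroup.map_subtype_le _

theorem lift_mono {E F : Subgroup H} (h : E ≤ F) : m.lift E ≤ m.lift F :=
  Subgroup.map_mono (Subgroup.comap_mono h)

theorem centralizer_le_lift (E : Subgroup H) : P ⊓ Subgroup.centralizer (V : Set G) ≤ m.lift E :=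
  fun g hg => m.mem_lift.2 ⟨hg.1, by rw [(m.π_eq_one (g := ⟨g, hg.1⟩)).2 hg.2]; exact one_mem _⟩

theorem lift_top : m.lift (⊤ : Subgroup H) = P := by
  rw [lift, Subgroup.comap_top, ← MonoidHom.range_eq_map, Subgroup.range_subtype]

theorem lift_bot : m.lift (⊥ : Subgroup H) = P ⊓ Subgroup.centralizer (V : Set G) := by
  refine le_antisymm (fun g hg => ?_) (m.centralizer_le_lift ⊥)
  obtain ⟨hgP, h⟩ := m.mem_lift.1 hg
  exact ⟨hgP, (m.π_eq_one (g := ⟨g, hgP⟩)).1 (Subgroup.mem_bot.1 h)⟩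

theorem lift_inf (E F : Subgroup H) : m.lift (E ⊓ F) = m.lift E ⊓ m.lift F := by
  rw [lift, Subgroup.comap_inf, Subgroup.map_inf _ _ _ P.subtype_injective]
  rfl

theorem lift_sup (E F : Subgroup H) : m.lift (E ⊔ F) = m.lift E ⊔ m.lift F := by
  rw [lift, lift, lift, ← Subgroup.map_sup, Subgroup.comap_sup_eq_of_le_range m.π
    (by rw [MonoidHom.range_eq_top.2 m.surj]; exact le_top) (by rw [MonoidHom.range_eq_top.2 m.surj]; exact le_top)]

theorem map_π_inf_lift (E : Subgroup H) : ((m.lift E).subgroupOf P).map m.π = E := by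
  rw [lift, Subgroup.subgroupOf, Subgroup.comap_map_eq_self_of_injective P.subtype_injective,
    Subgroup.map_comap_eq_self_of_surjective m.surj]

theorem lift_iSup {ι : Type*} [Nonempty ι] (E : ι → Subgroup H) : m.lift (⨆ i, E i) = ⨆ i, m.lift (E i) := by
  refine le_antisymm ?_ (iSup_le fun i => m.lift_mono (le_iSup E i))
  intro g hg
  obtain ⟨hgP, h⟩ := m.mem_lift.1 hg
  rw [show (⨆ i, E i) = (⨆ i, (E i).comap m.π).map m.π by
    rw [Subgroup.map_iSup]; simp only [Subgroup.map_comap_eq_self_of_surjective m.surj]] at h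
  obtain ⟨x, hx, hxe⟩ := h
  have h1 : (x : G) ∈ ⨆ i, m.lift (E i) := by
    show (x : G) ∈ ⨆ i, ((E i).comap m.π).map P.subtype
    rw [← Subgroup.map_iSup]
    exact ⟨x, hx, rfl⟩
  obtain ⟨i⟩ := ‹Nonempty ι›
  have h2 : g * (x : G)⁻¹ ∈ m.lift (E i) := m.centralizer_le_lift (E i)
    ⟨P.mul_mem hgP (P.inv_mem x.2), (m.π_eq_one (g := ⟨g, hgP⟩ * x⁻¹)).1 (by
      rw [map_mul, map_inv, hxe, mul_inv_cancel])⟩
  simpa using mul_mem (le_iSup (fun i => m.lift (E i)) i h2) h1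

theorem commutator_lift_le {E F : Subgroup H} (h : Rec.Com E F) :
    ⁅m.lift E, m.lift F⁆ ≤ P ⊓ Subgroup.centralizer (V : Set G) := by
  refine Subgroup.commutator_le.2 fun g hg k hk => ?_
  obtain ⟨hgP, hg'⟩ := m.mem_lift.1 hg
  obtain ⟨hkP, hk'⟩ := m.mem_lift.1 hk
  refine ⟨P.mul_mem (P.mul_mem (P.mul_mem hgP hkP) (P.inv_mem hgP)) (P.inv_mem hkP),
    (m.π_eq_one (g := ⟨g, hgP⟩ * ⟨k, hkP⟩ * ⟨g, hgP⟩⁻¹ * ⟨k, hkP⟩⁻¹)).1 ?_⟩
  rw [map_mul, map_mul, map_mul, map_inv, map_inv, h _ hg' _ hk']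
  group

theorem lift_conj (t : ↥P) (E : Subgroup H) :
    (m.lift E).map (MulAut.conj (t : G)).toMonoidHom = m.lift (conjBy (m.π t) E) := by
  ext g
  constructor
  · rintro ⟨x, hx, rfl⟩
    obtain ⟨hxP, hx'⟩ := m.mem_lift.1 hx
    refine m.mem_lift.2 ⟨P.mul_mem (P.mul_mem t.2 hxP) (P.inv_mem t.2), ?_⟩
    have e : (⟨(t : G) * x * (t : G)⁻¹, P.mul_mem (P.mul_mem t.2 hxP) (P.inv_mem t.2)⟩ : ↥P) =
        t * ⟨x, hxP⟩ * t⁻¹ := rfl
    show m.π ⟨(t : G) * x * (t : G)⁻¹, _⟩ ∈ _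
    rw [e, map_mul, map_mul, map_inv]
    exact conj_mem_conjBy hx'
  · intro hg
    obtain ⟨hgP, h⟩ := m.mem_lift.1 hg
    refine ⟨(t : G)⁻¹ * g * t, m.mem_lift.2 ⟨P.mul_mem (P.mul_mem (P.inv_mem t.2) hgP) t.2, ?_⟩, by
      simp [mul_assoc]⟩
    have e : (⟨(t : G)⁻¹ * g * t, P.mul_mem (P.mul_mem (P.inv_mem t.2) hgP) t.2⟩ : ↥P) =
        t⁻¹ * ⟨g, hgP⟩ * t := rfl
    rw [e, map_mul, map_mul, map_inv]
    obtain ⟨y, hy, hye⟩ := h
    have hye' : m.π t * y * (m.π t)⁻¹ = m.π ⟨g, hgP⟩ := hye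
    rw [← hye']
    simpa [mul_assoc] using hy

/-- The subgroup of `V` over a subgroup of `U`. -/
def sub (X : AddSubgroup U) : Subgroup G := X.toSubgroup.map m.valHom

theorem mem_sub {X : AddSubgroup U} {g : G} : g ∈ m.sub X ↔ ∃ u ∈ X, m.val u = g :=
  ⟨fun ⟨u, hu, he⟩ => ⟨_, hu, he⟩, fun ⟨u, hu, he⟩ => ⟨Multiplicative.ofAdd u, hu, he⟩⟩

theorem val_mem_sub {X : AddSubgroup U} {u : U} : m.val u ∈ m.sub X ↔ u ∈ X := by
  rw [m.mem_sub]
  exact ⟨fun ⟨w, hw, he⟩ => m.val_inj he ▸ hw, fun h => ⟨u, h, rfl⟩⟩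

theorem sub_sup (X Y : AddSubgroup U) : m.sub (X ⊔ Y) = m.sub X ⊔ m.sub Y := by
  rw [sub, sub, sub, ← Subgroup.map_sup]
  exact congrArg _ ((AddSubgroup.toSubgroup (A := U)).map_sup X Y)

theorem sub_iSup {ι : Sort*} (X : ι → AddSubgroup U) : m.sub (⨆ i, X i) = ⨆ i, m.sub (X i) := by
  simp only [sub]
  rw [← Subgroup.map_iSup]
  exact congrArg _ ((AddSubgroup.toSubgroup (A := U)).map_iSup X)

theorem sub_inf (X Y : AddSubgroup U) : m.sub (X ⊓ Y) = m.sub X ⊓ m.sub Y := by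
  ext g
  rw [Subgroup.mem_inf]
  constructor
  · intro h
    obtain ⟨u, hu, rfl⟩ := m.mem_sub.1 h
    exact ⟨m.val_mem_sub.2 hu.1, m.val_mem_sub.2 hu.2⟩
  · rintro ⟨h1, h2⟩
    obtain ⟨u, hu, rfl⟩ := m.mem_sub.1 h1
    exact m.val_mem_sub.2 ⟨hu, m.val_mem_sub.1 h2⟩

theorem sub_bot : m.sub (⊥ : AddSubgroup U) = ⊥ := by
  rw [Subgroup.eq_bot_iff_forall]
  intro g hg
  obtain ⟨u, hu, rfl⟩ := m.mem_sub.1 hg
  rw [AddSubgroup.mem_bot.1 hu, m.val_zero]

theorem sub_top : m.sub (⊤ : AddSubgroup U) = V := by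
  ext g
  rw [m.mem_sub]
  exact ⟨fun ⟨u, _, he⟩ => he ▸ m.val_mem u, fun hg => (m.exists_val g hg).imp fun u he =>
    ⟨AddSubgroup.mem_top u, he⟩⟩

theorem inf_centralizer_lift (E : Subgroup H) :
    V ⊓ Subgroup.centralizer (m.lift E : Set G) = m.sub (fixS U E) := by
  ext v
  constructor
  · rintro ⟨hv, hc⟩
    obtain ⟨u, rfl⟩ := m.exists_val v hv
    refine m.val_mem_sub.2 fun h hh => ?_
    obtain ⟨g, rfl⟩ := m.surj h
    refine m.val_inj ?_
    rw [m.val_smul, mul_inv_eq_iff_eq_mul]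
    exact Subgroup.mem_centralizer_iff.1 hc (g : G) (m.mem_lift.2 ⟨g.2, hh⟩)
  · intro hv
    obtain ⟨u, hu, rfl⟩ := m.mem_sub.1 hv
    refine ⟨m.val_mem u, Subgroup.mem_centralizer_iff.2 fun g hg => ?_⟩
    obtain ⟨hgP, hg'⟩ := m.mem_lift.1 hg
    have h := m.val_smul ⟨g, hgP⟩ u
    rw [mem_fixS.1 hu _ hg', eq_mul_inv_iff_mul_eq] at h
    exact h.symm

theorem commutator_lift (E : Subgroup H) : ⁅V, m.lift E⁆ = m.sub (commS U E) := by
  refine le_antisymm (Subgroup.commutator_le.2 fun v hv g hg => ?_) ?_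
  · obtain ⟨u, rfl⟩ := m.exists_val v hv
    obtain ⟨hgP, hg'⟩ := m.mem_lift.1 hg
    refine m.mem_sub.2 ⟨-(m.π ⟨g, hgP⟩ • u - u), neg_mem (sub_mem_commS hg' u), ?_⟩
    rw [m.val_neg, m.val_sub, m.val_smul]
    show _ = m.val u * g * (m.val u)⁻¹ * g⁻¹
    group
  · intro v hv
    obtain ⟨u, hu, rfl⟩ := m.mem_sub.1 hv
    induction hu using AddSubgroup.closure_induction with
    | mem u hu =>
      obtain ⟨h, hh, w, rfl⟩ := hu
      obtain ⟨g, rfl⟩ := m.surj h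
      have h1 : m.val (m.π g • w - w) = (⁅m.val w, (g : G)⁆)⁻¹ := by
        rw [m.val_sub, m.val_smul, commutatorElement_def]
        group
      rw [h1]
      exact inv_mem (Subgroup.commutator_mem_commutator (m.val_mem w) (m.mem_lift.2 ⟨g.2, hh⟩))
    | zero => rw [m.val_zero]; exact one_mem _
    | add x y hx hy ihx ihy =>
      rw [m.val_add]
      exact mul_mem (ihx (m.val_mem_sub.2 hx)) (ihy (m.val_mem_sub.2 hy))
    | neg x hx ihx =>
      rw [m.val_neg]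
      exact inv_mem (ihx (m.val_mem_sub.2 hx))

theorem commutator_sub_lift_eq_bot {X : AddSubgroup U} {E : Subgroup H} (h : X ≤ fixS U E) :
    ⁅m.sub X, m.lift E⁆ = ⊥ := by
  rw [Subgroup.commutator_eq_bot_iff_le_centralizer]
  intro v hv
  obtain ⟨u, hu, rfl⟩ := m.mem_sub.1 hv
  exact ((m.inf_centralizer_lift E).ge (m.val_mem_sub.2 (h hu))).2

theorem lift_le_normalizer_sub {X : AddSubgroup U} {E : Subgroup H} (h : ∀ g ∈ E, ∀ u ∈ X, g • u ∈ X) :
    m.lift E ≤ Subgroup.normalizer (m.sub X : Set G) := by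
  have h1 : ∀ g ∈ m.lift E, ∀ v ∈ m.sub X, g * v * g⁻¹ ∈ m.sub X := fun g hg v hv => by
    obtain ⟨u, hu, rfl⟩ := m.mem_sub.1 hv
    obtain ⟨hgP, hg'⟩ := m.mem_lift.1 hg
    exact m.mem_sub.2 ⟨_, h _ hg' u hu, m.val_smul ⟨g, hgP⟩ u⟩
  intro g hg
  refine Subgroup.mem_normalizer_iff.2 fun v => ⟨h1 g hg v, fun hv => ?_⟩
  simpa [mul_assoc] using h1 g⁻¹ (inv_mem hg) _ hv

/-- The quotient of a lift by the centralizer of `V`. -/
noncomputable def liftQuot {E : Subgroup H} {F : Type*} [Group F] (θ : ↥E ≃* F) :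
    ↥(m.lift E) →* F :=
  θ.toMonoidHom.comp <| MonoidHom.mk' (fun g => (⟨m.π ⟨g, m.lift_le E g.2⟩,
    (m.mem_lift.1 g.2).2⟩ : ↥E)) fun a b => Subtype.ext (by
      show m.π _ = m.π _ * m.π _
      rw [← map_mul]
      rfl)

theorem exists_mulEquiv {E : Subgroup H} {F : Type*} [Group F] (θ : ↥E ≃* F)
    (hC : Subgroup.centralizer (V : Set G) ≤ P) :
    ∃ _ : ((Subgroup.centralizer (V : Set G)).subgroupOf (m.lift E)).Normal,
      Nonempty (↥(m.lift E) ⧸ (Subgroup.centralizer (V : Set G)).subgroupOf (m.lift E) ≃* F) := by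
  have hker : (m.liftQuot θ).ker = (Subgroup.centralizer (V : Set G)).subgroupOf (m.lift E) := by
    ext g
    rw [MonoidHom.mem_ker, Subgroup.mem_subgroupOf, ← m.π_eq_one (g := ⟨g, m.lift_le E g.2⟩)]
    show θ _ = 1 ↔ _
    rw [MulEquiv.map_eq_one_iff, Subtype.ext_iff]
    rfl
  have hsurj : Function.Surjective (m.liftQuot θ) := fun y => by
    obtain ⟨g, hg⟩ := m.surj (θ.symm y : H)
    refine ⟨⟨g, m.mem_lift.2 ⟨g.2, by rw [Subtype.coe_eta, hg]; exact SetLike.coe_mem _⟩⟩, ?_⟩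
    show θ _ = y
    rw [← θ.eq_symm_apply]
    exact Subtype.ext hg
  have hn : ((Subgroup.centralizer (V : Set G)).subgroupOf (m.lift E)).Normal :=
    hker ▸ MonoidHom.normal_ker _
  refine ⟨hn, ⟨?_⟩⟩
  exact (QuotientGroup.quotientMulEquivOfEq hker.symm).trans
    (QuotientGroup.quotientKerEquivOfSurjective _ hsurj)

theorem actsAsSL2 {E : Subgroup H} {F : Type} [Field F] (θ : ↥E ≃* Matrix.SpecialLinearGroup (Fin 2) F)
    (ψ : U →+ (Fin 2 → F)) (hs : ∀ z, ∃ u ∈ commS U E, ψ u = z)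
    (h0 : ∀ u ∈ commS U E, ψ u = 0 ↔ u ∈ fixS U E)
    (hE : ∀ (e : ↥E) (u : U), u ∈ commS U E →
      ψ ((e : H) • u) = (θ e : Matrix (Fin 2) (Fin 2) F).mulVec (ψ u)) :
    Cfsg.ActsAsSL2OnSection F ⊤ (m.lift E) ⁅V, m.lift E⁆
      (⁅V, m.lift E⁆ ⊓ Subgroup.centralizer (m.lift E : Set G)) := by
  classical
  have hN : m.lift E ≤ Subgroup.normalizer ((⁅V, m.lift E⁆ : Subgroup G) : Set G) := by
    rw [m.commutator_lift]
    exact m.lift_le_normalizer_sub fun g hg u hu => smul_mem_commS_of_mem hg hu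
  refine ⟨hN, inf_le_left, m.liftQuot θ, ?_⟩
  have hU : ∀ w : ↥⁅V, m.lift E⁆, ∃ u ∈ commS U E, m.val u = (w : G) := fun w =>
    m.mem_sub.1 ((m.commutator_lift E).le w.2)
  choose f hf hfv using hU
  let ψ' : ↥⁅V, m.lift E⁆ →* Multiplicative (Fin 2 → F) :=
    MonoidHom.mk' (fun w => Multiplicative.ofAdd (ψ (f w))) fun a b => by
      rw [← ofAdd_add, ← map_add]
      congr 2
      exact m.val_inj (by rw [m.val_add, hfv, hfv, hfv]; rfl)
  refine ⟨ψ', ?_, fun z => ?_, fun w => ?_, fun e w => ?_⟩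
  · rw [MonoidHom.range_eq_top]
    intro y
    obtain ⟨g, hg⟩ := m.surj (θ.symm y : H)
    refine ⟨⟨g, m.mem_lift.2 ⟨g.2, by rw [Subtype.coe_eta, hg]; exact SetLike.coe_mem _⟩⟩, ?_⟩
    show θ _ = y
    rw [← θ.eq_symm_apply]
    exact Subtype.ext hg
  · obtain ⟨u, hu, hz⟩ := hs (Multiplicative.toAdd z)
    refine ⟨⟨m.val u, (m.commutator_lift E).ge (m.val_mem_sub.2 hu)⟩, ?_⟩
    show Multiplicative.ofAdd (ψ (f _)) = z
    rw [show f ⟨m.val u, (m.commutator_lift E).ge (m.val_mem_sub.2 hu)⟩ = u from m.val_inj (hfv _), hz]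
    rfl
  · show Multiplicative.ofAdd (ψ (f w)) = 1 ↔ _
    rw [ofAdd_eq_one, h0 _ (hf w), Subgroup.mem_inf, ← m.val_mem_sub, ← m.inf_centralizer_lift, hfv,
      Subgroup.mem_inf]
    refine ⟨fun h => ⟨w.2, h.2⟩, fun h => ⟨?_, h.2⟩⟩
    rw [← hfv]
    exact m.val_mem _
  · refine ⟨⟨(e : G) * w * (e : G)⁻¹, (Subgroup.mem_normalizer_iff.1 (hN e.2) _).1 w.2⟩, rfl, ?_⟩
    show ψ (f _) = _
    rw [show f ⟨(e : G) * w * (e : G)⁻¹, (Subgroup.mem_normalizer_iff.1 (hN e.2) _).1 w.2⟩ =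
      m.π ⟨e, m.lift_le E e.2⟩ • f w from m.val_inj (by rw [hfv, m.val_smul, hfv])]
    exact hE ⟨_, (m.mem_lift.1 e.2).2⟩ _ (hf w)

theorem actsAsOddPerm {E : Subgroup H} {n : ℕ} (θ : ↥E ≃* Equiv.Perm (Fin n))
    (ψ : U →+ (Fin n → ZMod 2)) (hsum : ∀ u ∈ commS U E, ∑ i, ψ u i = 0)
    (hs : ∀ z : Fin n → ZMod 2, ∑ i, z i = 0 → ∃ u ∈ commS U E, ψ u = z)
    (h0 : ∀ u ∈ commS U E, ψ u = 0 ↔ u ∈ fixS U E)
    (hE : ∀ (e : ↥E) (u : U), u ∈ commS U E → ∀ i, ψ ((e : H) • u) i = ψ u ((θ e)⁻¹ i)) :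
    Cfsg.ActsAsOddPermModuleOnSection n ⊤ (m.lift E) ⁅V, m.lift E⁆
      (⁅V, m.lift E⁆ ⊓ Subgroup.centralizer (m.lift E : Set G)) := by
  classical
  have hN : m.lift E ≤ Subgroup.normalizer ((⁅V, m.lift E⁆ : Subgroup G) : Set G) := by
    rw [m.commutator_lift]
    exact m.lift_le_normalizer_sub fun g hg u hu => smul_mem_commS_of_mem hg hu
  refine ⟨hN, inf_le_left, m.liftQuot θ, ?_⟩
  have hU : ∀ w : ↥⁅V, m.lift E⁆, ∃ u ∈ commS U E, m.val u = (w : G) := fun w =>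
    m.mem_sub.1 ((m.commutator_lift E).le w.2)
  choose f hf hfv using hU
  let ψ' : ↥⁅V, m.lift E⁆ →* Multiplicative (Fin n → ZMod 2) :=
    MonoidHom.mk' (fun w => Multiplicative.ofAdd (ψ (f w))) fun a b => by
      rw [← ofAdd_add, ← map_add]
      congr 2
      exact m.val_inj (by rw [m.val_add, hfv, hfv, hfv]; rfl)
  refine ⟨ψ', ?_, fun w => hsum _ (hf w), fun z hz => ?_, fun w => ?_, fun e w => ?_⟩
  · rw [MonoidHom.range_eq_top]
    intro y
    obtain ⟨g, hg⟩ := m.surj (θ.symm y : H)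
    refine ⟨⟨g, m.mem_lift.2 ⟨g.2, by rw [Subtype.coe_eta, hg]; exact SetLike.coe_mem _⟩⟩, ?_⟩
    show θ _ = y
    rw [← θ.eq_symm_apply]
    exact Subtype.ext hg
  · obtain ⟨u, hu, hz'⟩ := hs z hz
    refine ⟨⟨m.val u, (m.commutator_lift E).ge (m.val_mem_sub.2 hu)⟩, ?_⟩
    show ψ (f _) = z
    rw [show f ⟨m.val u, (m.commutator_lift E).ge (m.val_mem_sub.2 hu)⟩ = u from m.val_inj (hfv _), hz']
  · show Multiplicative.ofAdd (ψ (f w)) = 1 ↔ _
    rw [ofAdd_eq_one, h0 _ (hf w), Subgroup.mem_inf, ← m.val_mem_sub, ← m.inf_centralizer_lift, hfv,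
      Subgroup.mem_inf]
    refine ⟨fun h => ⟨w.2, h.2⟩, fun h => ⟨?_, h.2⟩⟩
    rw [← hfv]
    exact m.val_mem _
  · refine ⟨⟨(e : G) * w * (e : G)⁻¹, (Subgroup.mem_normalizer_iff.1 (hN e.2) _).1 w.2⟩, rfl, fun i => ?_⟩
    show ψ (f _) i = _
    rw [show f ⟨(e : G) * w * (e : G)⁻¹, (Subgroup.mem_normalizer_iff.1 (hN e.2) _).1 w.2⟩ =
      m.π ⟨e, m.lift_le E e.2⟩ • f w from m.val_inj (by rw [hfv, m.val_smul, hfv])]
    exact hE ⟨_, (m.mem_lift.1 e.2).2⟩ _ (hf w) i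

variable {T : Subgroup H} {r : ℕ} {E : Fin r → Subgroup H}

/-- The parts read in the ambient group. -/
theorem parts (hp : Rec.Parts U T r E) (hC : Subgroup.centralizer (V : Set G) ≤ P) {S : Subgroup G}
    (hSP : S ≤ P) (hST : (S.subgroupOf P).map m.π = T) :
    (⨆ i, m.lift (E i)) ⊔ S = P ∧
      (⨆ i, m.lift (E i)) = m.lift (⨆ i, E i) ∧
      (∀ i j, i ≠ j → ⁅m.lift (E i), m.lift (E j)⁆ ≤ Subgroup.centralizer (V : Set G)) ∧
      (∀ i, m.lift (E i) ⊓ (⨆ j ∈ {j | j ≠ i}, m.lift (E j)) ≤ Subgroup.centralizer (V : Set G)) ∧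
      (∀ i j, ∃ t ∈ S, (m.lift (E i)).map (MulAut.conj t).toMonoidHom = m.lift (E j)) ∧
      (V ⊓ Subgroup.centralizer ((⨆ i, m.lift (E i) : Subgroup G) : Set G)) ⊔
          (⨆ i, ⁅V, m.lift (E i)⁆) = V ∧
      ∀ i j, i ≠ j → ⁅⁅V, m.lift (E i)⁆, m.lift (E j)⁆ = ⊥ := by
  haveI : Nonempty (Fin r) := ⟨⟨0, hp.pos⟩⟩
  have hiS : (⨆ i, m.lift (E i)) = m.lift (⨆ i, E i) := (m.lift_iSup E).symm
  refine ⟨?_, hiS, fun i j hij => (m.commutator_lift_le (hp.com i j hij)).trans inf_le_right, fun i => ?_,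
    fun i j => ?_, ?_, fun i j hij => ?_⟩
  · refine le_antisymm (sup_le (iSup_le fun i => m.lift_le _) hSP) ?_
    rw [hiS]
    intro g hg
    have h : m.π ⟨g, hg⟩ ∈ (⨆ i, E i) ⊔ T := by rw [hp.gen]; exact Subgroup.mem_top _
    rw [← m.map_π_inf_lift (⨆ i, E i), ← hST, ← Subgroup.map_sup] at h
    obtain ⟨x, hx, hxe⟩ := h
    have hle : (m.lift (⨆ i, E i)).subgroupOf P ⊔ S.subgroupOf P ≤ (m.lift (⨆ i, E i) ⊔ S).subgroupOf P :=
      sup_le (fun y hy => Subgroup.mem_sup_left hy) fun y hy => Subgroup.mem_sup_right hy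
    have h2 : g * (x : G)⁻¹ ∈ m.lift (⨆ i, E i) := m.centralizer_le_lift _
      ⟨P.mul_mem hg (P.inv_mem x.2), (m.π_eq_one (g := ⟨g, hg⟩ * x⁻¹)).1 (by
        rw [map_mul, map_inv, hxe, mul_inv_cancel])⟩
    simpa using mul_mem (Subgroup.mem_sup_left h2) (hle hx)
  · refine le_trans ?_ (m.lift_bot.le.trans inf_le_right)
    rw [← hp.indep i, m.lift_inf]
    exact inf_le_inf_left _ (iSup_le fun j => iSup_le fun hj => m.lift_mono
      (le_iSup₂_of_le j hj le_rfl))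
  · obtain ⟨t, ht, he⟩ := hp.trans i j
    rw [← hST] at ht
    obtain ⟨s, hs, rfl⟩ := ht
    exact ⟨(s : G), hs, by rw [m.lift_conj, he]⟩
  · rw [hiS, m.inf_centralizer_lift]
    simp only [m.commutator_lift]
    rw [← m.sub_iSup, ← m.sub_sup, hp.span, m.sub_top]
  · rw [m.commutator_lift]
    exact m.commutator_sub_lift_eq_bot (hp.cross i j hij)

end Mdl

end CfsgLib.CFun.MinParab.Glue
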