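import Cfsg.Agent.Lib.CFun.MinParab.Orbit
import Cfsg.Agent.Lib.CFun.MinParab.Coord

/-!
# Lifting to a module with a trivial part

A quotient `V = U / C` as in `Amb`, where `U` has an offender: a block at `A` fixes `C`, and `A` fixes the
whole preimage of `C_V(A)`. The sum of the `T`-conjugates of a suitable element `a v - v` is a fixed point of
`T` in `U` moved by the group.
-/

set_option autoImplicit false
set_option linter.unusedSectionVars false
set_option linter.style.haveILetI false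

open CfsgLib.Char.NatSL (fixS mem_fixS fixS_mono tr mem_tr card_tr smul_mem_tr)
open CfsgLib.Fusion (conjBy mem_conjBy conj_mem_conjBy conjBy_le_iff conjBy_eq_iff)
open CfsgLib.CFun.OffenderPair (IsMinOff exists_isMinOff_le fixS_sup)

namespace CfsgLib.CFun.MinParab

variable {H : Type*} [Group H] [Finite H] {U : Type*} [AddCommGroup U] [Finite U] [DistribMulAction H U]
  {V : Type*} [AddCommGroup V] [Finite V] [DistribMulAction H V] {p : ℕ} [hp : Fact p.Prime] {T : Sylow p H}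
  {M A L R₀ : Subgroup H} {π : U →+ V}

omit [Finite H] [Finite U] [Finite V] in
theorem smul_ker (hπ : ∀ (g : H) (u : U), π (g • u) = g • π u) (g : H) {c : U} (hc : c ∈ π.ker) :
    g • c ∈ π.ker := by
  rw [AddMonoidHom.mem_ker] at hc ⊢
  rw [hπ, hc, smul_zero]

omit [Finite H] [Finite U] [Finite V] in
theorem ker_le_conjBy (hπ : ∀ (g : H) (u : U), π (g • u) = g • π u) {X : Subgroup H}
    (hX : π.ker ≤ fixS U X) (g : H) : π.ker ≤ fixS U (conjBy g X) := fun c hc y hy => by
  have h1 := mem_fixS.1 (hX (smul_ker hπ g⁻¹ hc)) _ (mem_conjBy.1 hy)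
  rw [← mul_smul, mul_inv_cancel_right, mul_smul] at h1
  exact MulAction.injective g⁻¹ h1

omit [Finite H] [Finite U] [Finite V] in
theorem ker_le_block (hπ : ∀ (g : H) (u : U), π (g • u) = g • π u) (hA : π.ker ≤ fixS U A)
    (hb : NatBlk V p M A L) : π.ker ≤ fixS U L := by
  obtain ⟨x, hx, hxM⟩ := SetLike.not_le_iff_exists.1 hb.notM
  rw [← hb.gen x hx hxM, fixS_sup]
  exact le_inf hA (ker_le_conjBy hπ hA x)

/-- The members: minimal offenders fixing the kernel; there is one. -/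
theorem exists_ker_member (hπs : Function.Surjective π) (hπ : ∀ (g : H) (u : U), π (g • u) = g • π u)
    (ha : Amb V p T M) {A₀ : Subgroup H} (hA₀ : El p A₀) (hne : A₀ ≠ ⊥)
    (hoff : Nat.card U ≤ Nat.card ↥A₀ * Nat.card ↥(fixS U A₀)) :
    ∃ B : Subgroup H, El p B ∧ IsMinOff V p B ∧ π.ker ≤ fixS U B := by
  have hU : Nat.card U = Nat.card ↥π.ker * Nat.card V := by
    rw [← π.ker.index_mul_card, AddSubgroup.index_ker, AddMonoidHom.range_eq_top.2 hπs, AddSubgroup.card_top,
      mul_comm]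
  let f : ↥(fixS U A₀) →+ V := π.comp (fixS U A₀).subtype
  have h1 : Nat.card ↥f.ker * Nat.card ↥f.range = Nat.card ↥(fixS U A₀) := by
    rw [← AddSubgroup.index_ker, AddSubgroup.card_mul_index]
  have h2 : Nat.card ↥f.range ≤ Nat.card ↥(fixS V A₀) := AddSubgroup.card_le_of_le (by
    rintro _ ⟨u, rfl⟩ a haA
    show a • π (u : U) = π (u : U)
    rw [← hπ, mem_fixS.1 u.2 a haA])
  have h3 : Nat.card ↥f.ker ≤ Nat.card ↥(π.ker ⊓ fixS U A₀) :=
    Nat.card_le_card_of_injective (fun u => ⟨((u : ↥(fixS U A₀)) : U), u.2, (u : ↥(fixS U A₀)).2⟩)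
      fun u v h => Subtype.ext (Subtype.ext (congrArg (fun z : ↥(π.ker ⊓ fixS U A₀) => (z : U)) h))
  have h4 := ha.card_le hA₀
  rw [hU, ← h1] at hoff
  have h5 : Nat.card ↥π.ker * Nat.card V ≤
      Nat.card ↥(π.ker ⊓ fixS U A₀) * (Nat.card ↥A₀ * Nat.card ↥(fixS V A₀)) :=
    hoff.trans (by rw [mul_left_comm (Nat.card ↥(π.ker ⊓ fixS U A₀))]; gcongr)
  have hker : π.ker ≤ fixS U A₀ := by
    have h6 := h5.trans (Nat.mul_le_mul_left _ h4)
    have h7 := AddSubgroup.eq_of_le_of_card_ge (inf_le_left : π.ker ⊓ fixS U A₀ ≤ π.ker)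
      (Nat.le_of_mul_le_mul_right h6 Nat.card_pos)
    exact h7 ▸ inf_le_right
  rw [inf_eq_left.2 hker] at h5
  obtain ⟨B, hBA, hB⟩ := exists_isMinOff_le hA₀.pgroup hA₀.comm hne (Nat.le_of_mul_le_mul_left h5 Nat.card_pos)
  exact ⟨B, hA₀.mono hBA, hB, hker.trans (fixS_mono hBA)⟩

/-- `A` fixes every lift of an element `a' v - v`. -/
theorem fix_sub (vpU : ∀ u : U, p • u = 0) (hπs : Function.Surjective π)
    (hπ : ∀ (g : H) (u : U), π (g • u) = g • π u) (hel : El p A) (hker : π.ker ≤ fixS U A)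
    (hb : NatBlk V p M A L) {a a' : H} (haA : a ∈ A) (ha'A : a' ∈ A) (v : U) :
    a • (a' • v - v) = a' • v - v := by
  classical
  have hL := ker_le_block hπ hker hb
  obtain ⟨F, iF, iFf, τ, χ, hF, hτA, hτadd, hτinj, hτsur, hχs, hχ0, htor⟩ := hb.exists_coord
  let β : F → F → U → U := fun s t v => τ s • (τ t • v - v) - (τ t • v - v)
  obtain ⟨s, rfl⟩ := hτsur a haA
  obtain ⟨t, rfl⟩ := hτsur a' ha'A
  suffices h : ∀ s t v, β s t v = 0 from sub_eq_zero.1 (h s t v)
  clear haA ha'A s t v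
  have hC : ∀ t v, τ t • π v - π v ∈ fixS V A := fun t v => hb.quadratic (hτA t) _
  have hβC : ∀ s t v, β s t v ∈ π.ker := fun s t v => by
    rw [AddMonoidHom.mem_ker]
    show π (τ s • (τ t • v - v) - (τ t • v - v)) = 0
    rw [map_sub, hπ, map_sub, hπ, mem_fixS.1 (hC t v) _ (hτA s), sub_self]
  have hsymm : ∀ s t v, β s t v = β t s v := fun s t v =>
    CfsgLib.Char.NatSL.sub_comm_smul_gen hel.comm (hτA s) (hτA t) v
  have hfixC : ∀ s, ∀ c ∈ π.ker, τ s • c = c := fun s c hc => mem_fixS.1 (hker hc) _ (hτA s)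
  have hadd : ∀ s s' t v, β (s + s') t v = β s t v + β s' t v := fun s s' t v => by
    have h1 := hfixC s _ (hβC s' t v)
    show τ (s + s') • (τ t • v - v) - (τ t • v - v) = β s t v + β s' t v
    simp only [β] at h1 ⊢
    rw [hτadd, mul_smul]
    rw [smul_sub] at h1
    linear_combination (norm := abel) h1
  have hadd' : ∀ s t t' v, β s (t + t') v = β s t v + β s t' v := fun s t t' v => by
    rw [hsymm, hadd, hsymm t, hsymm t']
  have haddv : ∀ s t u v, β s t (u + v) = β s t u + β s t v := fun s t u v => by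
    simp only [β, smul_add, smul_sub]
    abel
  have hW : ∀ s t v, π v ∈ fixS V A → β s t v = 0 := fun s t v hv => by
    refine sub_eq_zero.2 (hfixC s _ ?_)
    rw [AddMonoidHom.mem_ker, map_sub, hπ, mem_fixS.1 hv _ (hτA t), sub_self]
  have hχπ : ∀ y, ∃ v, χ (π v) = y := fun y => by
    obtain ⟨v, hv⟩ := hχs y
    obtain ⟨u, rfl⟩ := hπs v
    exact ⟨u, hv⟩
  choose g hg using hχπ
  let Φ : F → F → F → U := fun y s t => β s t (g y)
  have hΦ : ∀ s t v, β s t v = Φ (χ (π v)) s t := fun s t v => by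
    have h1 : π (v - g (χ (π v))) ∈ fixS V A := (hχ0 _).1 (by rw [map_sub, map_sub, hg, sub_self])
    calc β s t v = β s t (g (χ (π v)) + (v - g (χ (π v)))) := by rw [add_sub_cancel]
      _ = _ := by rw [haddv, hW _ _ _ h1, add_zero]
  have hinv : ∀ c : F, c ≠ 0 → ∀ y s t, Φ (c⁻¹ * y) (c ^ 2 * s) (c ^ 2 * t) = Φ y s t := by
    intro c hc y s t
    obtain ⟨h, hhL, hτc, hχc⟩ := htor c hc
    calc Φ (c⁻¹ * y) (c ^ 2 * s) (c ^ 2 * t) = β (c ^ 2 * s) (c ^ 2 * t) (h • g y) := by
          rw [hΦ _ _ (h • g y), hπ, hχc, hg]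
      _ = h • β s t (g y) := by
          simp only [β, ← hτc, smul_sub, ← mul_smul]
          simp [mul_assoc]
      _ = _ := mem_fixS.1 (hL (hβC _ _ _)) h hhL
  have hΦy : ∀ y z s t, Φ (y + z) s t = Φ y s t + Φ z s t := fun y z s t => by
    have h1 := hΦ s t (g y + g z)
    rw [map_add, map_add, hg, hg, haddv] at h1
    exact h1.symm
  have hΦ0 : ∀ s t, Φ 0 s t = 0 := fun s t => add_eq_left.1 ((hΦy 0 0 s t).symm.trans (by rw [add_zero]))
  suffices h : ∀ y s t, Φ y s t = 0 from fun s t v => (hΦ s t v).trans (h _ _ _)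
  intro y s t
  rcases hp.out.eq_two_or_odd' with h2 | hodd
  · -- the prime is two
    subst h2
    have hF2 : ∀ t : F, t + t = 0 := fun t => hτinj (by
      have h0 := hτadd 0 0
      rw [add_zero, left_eq_mul] at h0
      rw [hτadd, ← pow_two, hel.pow _ (hτA t), h0])
    haveI : CharP F 2 := CharTwo.of_one_ne_zero_of_two_eq_zero one_ne_zero (by rw [← one_add_one_eq_two]; exact hF2 1)
    have hU2 : ∀ u : U, -u = u := fun u => neg_eq_of_add_eq_zero_left (by rw [← two_nsmul]; exact vpU u)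
    have hpoly : ∀ y s t, Φ y s t = Φ 1 (y ^ 2 * s) (y ^ 2 * t) := fun y s t => by
      by_cases hy : y = 0
      · subst hy
        rw [hΦ0, zero_pow two_ne_zero, zero_mul, zero_mul]
        exact (add_eq_left.1 ((hadd 0 0 0 (g 1)).symm.trans (by rw [add_zero]))).symm
      · rw [← hinv y hy y s t, inv_mul_cancel₀ hy]
    have hcross : ∀ b s t : F, Φ 1 s (b * t) = Φ 1 (b * s) t := by
      intro b s t
      obtain ⟨b', rfl⟩ : ∃ b', b' ^ 2 = b :=
        (Finite.injective_iff_surjective.1 (CharTwo.sq_injective (R := F))) b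
      have h1 := hΦy 1 b' s t
      rw [hpoly (1 + b'), hpoly b', hpoly 1, CharTwo.add_sq, one_pow, one_mul, one_mul, add_mul, add_mul,
        one_mul, one_mul] at h1
      have h2 : β (s + b' ^ 2 * s) (t + b' ^ 2 * t) (g 1) =
          (β s t (g 1) + β s (b' ^ 2 * t) (g 1)) + (β (b' ^ 2 * s) t (g 1) + β (b' ^ 2 * s) (b' ^ 2 * t) (g 1)) := by
        rw [hadd, hadd', hadd']
      have h3 : β s (b' ^ 2 * t) (g 1) + β (b' ^ 2 * s) t (g 1) = 0 := by
        linear_combination (norm := abel) h1 - h2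
      exact (eq_neg_of_add_eq_zero_left h3).trans (hU2 _)
    have hdiag : ∀ r, Φ 1 r r = 0 := fun r => by
      show τ r • (τ r • g 1 - g 1) - (τ r • g 1 - g 1) = 0
      rw [smul_sub, ← mul_smul, ← pow_two, hel.pow _ (hτA r), one_smul]
      linear_combination (norm := abel) -((hU2 (g 1 - τ r • g 1)))
    rw [hpoly]
    generalize y ^ 2 * s = u
    generalize y ^ 2 * t = w
    calc Φ 1 u w = Φ 1 (u * 1) w := by rw [mul_one]
      _ = Φ 1 1 (u * w) := (hcross u 1 w).symm
      _ = 0 := by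
        obtain ⟨r, hr⟩ : ∃ r, r ^ 2 = u * w :=
          (Finite.injective_iff_surjective.1 (CharTwo.sq_injective (R := F))) _
        rw [← hr, pow_two, hcross r 1 r, mul_one, hdiag]
  · -- the prime is odd
    have h1 := hinv (-1) (neg_ne_zero.2 one_ne_zero) y s t
    simp only [neg_one_sq, one_mul, inv_neg, inv_one, neg_one_mul] at h1
    have h2 := hΦy (-y) y s t
    rw [neg_add_cancel, hΦ0, h1] at h2
    obtain ⟨m, hm⟩ := hodd
    have h3 := vpU (Φ y s t)
    rw [hm, add_nsmul, mul_nsmul, two_nsmul, ← h2, nsmul_zero, zero_add, one_nsmul] at h3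
    exact h3

/-- A block with more than three points at `A` fixes the lifts of its fixed points. -/
theorem fix_Z (hπ : ∀ (g : H) (u : U), π (g • u) = g • π u) (hker : π.ker ≤ fixS U A)
    (hb : NatBlk V p M A L) (h3 : 3 < Nat.card ↥A) {u : U} (hu : π u ∈ fixS V L) : u ∈ fixS U A := by
  classical
  have hL := ker_le_block hπ hker hb
  obtain ⟨F, iF, iFf, τ, χ, hF, hτA, hτadd, hτinj, hτsur, -, -, htor⟩ := hb.exists_coord
  obtain ⟨c, hc, hc2⟩ : ∃ c : F, c ≠ 0 ∧ c ^ 2 ≠ 1 := by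
    by_contra! h
    have hsub : (Finset.univ : Finset F) ⊆ {0, 1, -1} := fun c _ => by
      by_cases hc : c = 0
      · simp [hc]
      · rcases sq_eq_one_iff.1 (h c hc) with h1 | h1 <;> simp [h1]
    have := (Finset.card_le_card hsub).trans Finset.card_le_three
    rw [Finset.card_univ, hF] at this
    omega
  have hδ : ∀ g ∈ L, g • u - u ∈ π.ker := fun g hg => by
    rw [AddMonoidHom.mem_ker, map_sub, hπ, mem_fixS.1 hu g hg, sub_self]
  have hmul : ∀ g ∈ L, ∀ k ∈ L, (g * k) • u - u = (g • u - u) + (k • u - u) := fun g hg k hk => by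
    have h1 := mem_fixS.1 (hL (hδ k hk)) g hg
    rw [smul_sub, ← mul_smul] at h1
    linear_combination (norm := abel) h1
  have hτL : ∀ t, τ t ∈ L := fun t => hb.le (hτA t)
  obtain ⟨h, hh, hτc, -⟩ := htor c hc
  have hconj : ∀ t, τ (c ^ 2 * t) • u - u = τ t • u - u := fun t => by
    have h1 := hmul h hh (τ t) (hτL t)
    have h2 := hmul _ (hτL (c ^ 2 * t)) h hh
    rw [← hτc, inv_mul_cancel_right, h1] at h2
    rw [← hτc]
    linear_combination (norm := abel) -h2
  intro a haA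
  obtain ⟨t, rfl⟩ := hτsur a haA
  have hne : c ^ 2 - 1 ≠ 0 := sub_ne_zero.2 hc2
  have h1 := hmul _ (hτL (t / (c ^ 2 - 1))) _ (hτL t)
  rw [← hτadd, show t / (c ^ 2 - 1) + t = c ^ 2 * (t / (c ^ 2 - 1)) by field_simp; ring, hconj] at h1
  exact sub_eq_zero.1 (left_eq_add.1 h1)

/-- The fixed points of `T` are moved. -/
theorem false_of_fix_le (vpU : ∀ u : U, p • u = 0) (hπs : Function.Surjective π)
    (hπ : ∀ (g : H) (u : U), π (g • u) = g • π u) (ha : Amb V p T M) {A₀ : Subgroup H} (hA₀ : El p A₀)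
    (hne : A₀ ≠ ⊥) (hoff : Nat.card U ≤ Nat.card ↥A₀ * Nat.card ↥(fixS U A₀))
    (hfix : fixS U (T : Subgroup H) ≤ fixS U (⊤ : Subgroup H)) : False := by
  classical
  obtain ⟨B, hB₁, hB₂, hB₃⟩ := exists_ker_member hπs hπ ha hA₀ hne hoff
  set S : Set (Subgroup H) := {B | El p B ∧ IsMinOff V p B ∧ π.ker ≤ fixS U B}
  obtain ⟨R₀, hl⟩ := exists_loc ha S (fun B hB g => ⟨hB.1.conjBy g, hB.2.1.conj g, ker_le_conjBy hπ hB.2.2 g⟩)
    (fun B hB => hB.1) (fun B hB => hB.2.1) ⟨B, hB₁, hB₂, hB₃⟩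
  obtain ⟨A, hA, hAT⟩ := hl.exists_mem
  obtain ⟨hel, hmin, hkerA⟩ := hA.1
  obtain ⟨L, hLH, hb⟩ := hl.exists_blk hA
  obtain ⟨hRZ, hNR, hRL⟩ := hl.block_centralizes ha hA hb (T.2.to_le hl.R₀_le) Subgroup.le_normalizer hLH
  have hkerL := ker_le_block hπ hkerA hb
  set P : Subgroup H := (T : Subgroup H) with hP
  have hcase : ∀ u ∈ P, u ∉ Subgroup.normalizer (A : Set H) → conjBy u A ≤ R₀ := fun u hu huA =>
    (hl.orbit ha hA hAT _ (hl.conj_mem A hA.1 u)
      (conjBy_le_iff.2 fun t ht => mul_mem (mul_mem hu (hAT ht)) (inv_mem hu))).elim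
      (fun h => absurd (conjBy_eq_iff.1 h) huA) id
  set X : AddSubgroup V := (fixS U A).map π with hX
  have hXW : X ≤ fixS V A := by
    rintro _ ⟨u, hu, rfl⟩ a haA
    rw [← hπ, mem_fixS.1 hu a haA]
  have hXmem : ∀ u, π u ∈ X → u ∈ fixS U A := by
    rintro u ⟨w, hw, hwu⟩
    have h1 : u - w ∈ π.ker := by rw [AddMonoidHom.mem_ker, map_sub, hwu, sub_self]
    have := AddSubgroup.add_mem _ (hkerA h1) hw
    rwa [sub_add_cancel] at this
  have hAX : commS V A ≤ X := by
    refine (AddSubgroup.closure_le _).2 ?_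
    rintro _ ⟨a', ha', v, rfl⟩
    obtain ⟨u, rfl⟩ := hπs v
    exact ⟨a' • u - u, fun a haA => fix_sub vpU hπs hπ hel hkerA hb haA ha' u, by rw [map_sub, hπ]⟩
  have hWX : fixS V A ≤ commS V A ⊔ fixS V L := fun w hw => by
    obtain ⟨v, hv⟩ := hb.exists_notW
    obtain ⟨a, haA, hz⟩ := hb.surjW hv hw
    exact AddSubgroup.mem_sup.2 ⟨_, sub_mem_commS haA v, _, hz, add_sub_cancel _ _⟩
  have hlift : fixS V A ≤ X := by
    refine hWX.trans (sup_le hAX ?_)
    by_cases h3 : 3 < Nat.card ↥A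
    · intro z hz
      obtain ⟨u, rfl⟩ := hπs z
      exact ⟨u, fix_Z hπ hkerA hb h3 hz, rfl⟩
    -- prime order
    have hAp : Nat.card ↥A = p := by
      haveI : Nontrivial ↥A := (Subgroup.nontrivial_iff_ne_bot A).2 hmin.ne_bot
      obtain ⟨k, hk0, hk⟩ := hel.pgroup.nontrivial_iff_card.1 inferInstance
      have h2 := hp.out.two_le
      rcases Nat.lt_or_ge k 2 with hk2 | hk2
      · rw [hk, show k = 1 by omega, pow_one]
      · have := Nat.pow_le_pow_right hp.out.pos hk2
        rw [← hk] at this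
        nlinarith
    set N := commS V L with hN
    have hN2 : N ≤ AddSubgroup.closure {y | ∃ g ∈ L, ∃ v ∈ N, g • v - v = y} := by
      refine (AddSubgroup.closure_le _).2 ?_
      rintro _ ⟨g, hg, v, rfl⟩
      obtain ⟨m, hm, z, hz, rfl⟩ := AddSubgroup.mem_sup.1 (hb.sup_fix.ge (AddSubgroup.mem_top v))
      rw [smul_add, mem_fixS.1 hz g hg, add_sub_add_right_eq_sub]
      exact AddSubgroup.subset_closure ⟨g, hg, m, hm, rfl⟩
    have hout : ∀ u ∈ P, ∀ n ∈ N, u • n ∈ N ⊔ X := by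
      intro u hu n hn
      by_cases huA : u ∈ Subgroup.normalizer (A : Set H)
      · -- `u` normalizes the block
        refine AddSubgroup.mem_sup_left (smul_mem_commS ?_ hn)
        have huH := hl.mem_H₀ ha hA hAT hu huA
        refine conjBy_eq_iff.1 (Subgroup.eq_of_le_of_card_ge ?_ (CfsgLib.Fusion.card_conjBy u L).ge)
        obtain ⟨x, hx, hxM⟩ := hb.exists_notMem
        conv_lhs => rw [← hb.gen x hx hxM]
        rw [conjBy, Subgroup.map_sup]
        refine sup_le ((conjBy_eq_iff.2 huA).le.trans hb.le) ?_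
        show conjBy u (conjBy x A) ≤ L
        rw [CfsgLib.Fusion.conjBy_conjBy]
        have hux : u * x ∈ Subgroup.normalizer (R₀ : Set H) := mul_mem huH (hLH hx)
        refine hl.le_block ha hA hAp hb hLH (hl.conj_mem A hA.1 _) (Loc.conjBy_le_H₀ hA hux) fun h => hA.2.2.2 ?_
        intro c hc
        exact (Subgroup.mem_normalizer_iff.1 hux c).2 (h (conj_mem_conjBy hc))
      · refine AddSubgroup.mem_sup_right ?_
        suffices h : N ≤ X.comap (DistribMulAction.toAddMonoidHom V u) from h hn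
        refine hN2.trans ((AddSubgroup.closure_le _).2 ?_)
        rintro _ ⟨g, hg, v, hv, rfl⟩
        show u • (g • v - v) ∈ X
        have hA' : ∀ a ∈ A, u⁻¹ * a * u ∈ R₀ := fun a haA => by
          have := hcase u⁻¹ (inv_mem hu) (fun h => huA (by simpa using inv_mem h)) (conj_mem_conjBy haA)
          simpa using this
        obtain ⟨w, hw⟩ := hπs (u • v)
        refine ⟨(u * g * u⁻¹) • w - w, fun a haA => ?_, ?_⟩
        · have hc : a • w - w ∈ π.ker := by
            rw [AddMonoidHom.mem_ker, map_sub, hπ, hw, ← mul_smul,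
              show a * u = u * (u⁻¹ * a * u) by group, mul_smul, mem_fixS.1 (hNR hv) _ (hA' a haA), sub_self]
          have hcom : a * (u * g * u⁻¹) = u * g * u⁻¹ * a := by
            calc a * (u * g * u⁻¹) = u * ((u⁻¹ * a * u) * g) * u⁻¹ := by group
              _ = u * (g * (u⁻¹ * a * u)) * u⁻¹ := by rw [hRL _ (hA' a haA) g hg]
              _ = _ := by group
          have hgc := mem_fixS.1 (ker_le_conjBy hπ hkerL u hc) _ (conj_mem_conjBy hg)
          rw [smul_sub, ← mul_smul, ← hcom] at hgc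
          rw [smul_sub, ← mul_smul]
          linear_combination (norm := abel) hgc
        · rw [map_sub, hπ, hw, ← mul_smul, inv_mul_cancel_right, mul_smul, smul_sub]
    let Y : AddSubgroup V :=
      AddSubgroup.closure {y | ∃ u ∈ P, ∃ n ∈ N, u • n = y}
    have hY : Y = ⊤ := by
      refine eq_top_of_commS_le ha.vp ha.perfect T.2 (L := L) ?_ (fun r hr y hy => ?_) ?_
      · refine ha.eq_top M.one_mem (le_sup_left.trans' ?_) fun h => hb.notM (le_sup_right.trans h)
        rw [CfsgLib.Fusion.conjBy_one]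
      · induction hy using AddSubgroup.closure_induction with
        | mem y hy =>
          obtain ⟨u, hu, n, hn, rfl⟩ := hy
          exact AddSubgroup.subset_closure ⟨r * u, mul_mem hr hu, n, hn, mul_smul r u n⟩
        | zero => rw [smul_zero]; exact zero_mem _
        | add a b _ _ h1 h2 => rw [smul_add]; exact add_mem h1 h2
        | neg a _ h1 => rw [smul_neg]; exact neg_mem h1
      · exact fun n hn => AddSubgroup.subset_closure ⟨1, P.one_mem, n, hn, one_smul H n⟩
    have hYX : Y ≤ N ⊔ X := (AddSubgroup.closure_le _).2 (by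
      rintro _ ⟨u, hu, n, hn, rfl⟩
      exact hout u hu n hn)
    intro z hz
    obtain ⟨n, hn, m, hm, rfl⟩ := AddSubgroup.mem_sup.1 (hYX (hY ▸ AddSubgroup.mem_top z))
    refine add_mem ?_ hm
    have hnW : n ∈ fixS V A := by
      have := AddSubgroup.sub_mem _ (hb.Z_le hz) (hXW hm)
      rwa [add_sub_cancel_right] at this
    -- `N` meets the fixed space of `A` in `[V, A]`
    obtain ⟨x, hx, hxM⟩ := hb.exists_notMem
    rw [hN, ← hb.gen x hx hxM, commS_sup] at hn
    obtain ⟨α, hα, γ, hγ, rfl⟩ := AddSubgroup.mem_sup.1 hn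
    have hαW : α ∈ fixS V A := hXW (hAX hα)
    have hγW : γ ∈ fixS V A := by
      have := AddSubgroup.sub_mem _ hnW hαW
      rwa [add_sub_cancel_left] at this
    obtain ⟨γ', hγ', rfl⟩ := commS_conjBy_le x A hγ
    refine add_mem (hAX hα) ?_
    show x • γ' ∈ X
    have h1 : x • γ' ∈ fixS V L := (hb.inf hx hxM).le ⟨hγW, smul_mem_tr (hXW (hAX hγ'))⟩
    have h2 := mem_fixS.1 h1 _ (L.inv_mem hx)
    rw [inv_smul_smul] at h2
    rw [← h2]
    exact hAX hγ'
  -- the fixed element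
  set S₁ := P ⊓ Subgroup.normalizer (A : Set H) with hS₁
  have hS₁p : IsPGroup p S₁ := T.2.to_le inf_le_left
  obtain ⟨a₀, ha₀, ha₀1, hcomm⟩ := exists_central hS₁p hel.pgroup hmin.ne_bot inf_le_right
  obtain ⟨vb, hvb, hvbfix⟩ := exists_fixed_mod ha.vp hS₁p (X := fixS V A)
    (fun g hg w hw => smul_mem_fixS hg.2 hw)
    (fun h => by
      obtain ⟨u, hu⟩ := hb.exists_notW
      exact hu (h ▸ AddSubgroup.mem_top u))
  obtain ⟨v, rfl⟩ := hπs vb
  set n := a₀ • v - v with hn
  have hnfix : ∀ u ∈ S₁, u • n = n := fun u hu => by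
    have h1 : π (u • v - v) ∈ fixS V A := by rw [map_sub, hπ]; exact hvbfix u hu
    have h2 := mem_fixS.1 (hXmem _ (hlift h1)) a₀ ha₀
    rw [smul_sub] at h2
    rw [hn, smul_sub, ← mul_smul, hcomm u hu, mul_smul]
    linear_combination (norm := abel) h2
  have hnZ : π n ∉ fixS V L := fun h => hvb (hb.sep ha₀ ha₀1 (by rwa [hn, map_sub, hπ] at h))
  let f : ↥P → U := fun u => (u : H) • n
  let S' : Subgroup ↥P := S₁.subgroupOf P
  let G : ↥P ⧸ S' → U := fun q => Quotient.liftOn' q f fun u w huw => by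
    rw [QuotientGroup.leftRel_apply] at huw
    have h1 := hnfix _ huw
    show (u : H) • n = (w : H) • n
    conv_lhs => rw [← h1]
    rw [← mul_smul]
    simp
  letI : Fintype (↥P ⧸ S') := Fintype.ofFinite _
  have hsum : ∑ q, G q ∈ fixS U (T : Subgroup H) := fun t ht => by
    rw [Finset.smul_sum]
    refine Fintype.sum_equiv (MulAction.toPerm (⟨t, ht⟩ : ↥P)) _ _ fun q => ?_
    induction q using QuotientGroup.induction_on with
    | H u => exact (mul_smul t (u : H) n).symm
  have hzero : π (∑ q, G q) = 0 := by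
    have h1 : π (∑ q, G q) ∈ fixS V (⊤ : Subgroup H) := fun g _ => by
      rw [← hπ, mem_fixS.1 (hfix hsum) g (Subgroup.mem_top g)]
    rwa [ha.nofix, AddSubgroup.mem_bot] at h1
  rw [map_sum, ← Finset.add_sum_erase _ _ (Finset.mem_univ ((1 : ↥P) : ↥P ⧸ S'))] at hzero
  refine hnZ ?_
  have h0 : π (G ((1 : ↥P) : ↥P ⧸ S')) = π n := congrArg π (one_smul H n)
  rw [← h0, eq_neg_of_add_eq_zero_left hzero]
  refine neg_mem (AddSubgroup.sum_mem _ fun q hq => ?_)
  induction q using QuotientGroup.induction_on with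
  | H u =>
    have hu : (u : H) ∉ Subgroup.normalizer (A : Set H) := fun h => Finset.ne_of_mem_erase hq (by
      refine (QuotientGroup.eq.2 ?_).symm
      show ((1 : ↥P)⁻¹ * u : ↥P) ∈ S'
      rw [inv_one, one_mul]
      exact ⟨u.2, h⟩)
    show π ((u : H) • n) ∈ fixS V L
    rw [hπ, hn, map_sub, hπ]
    have h1 := hRZ (sub_mem_commS (hcase u u.2 hu (conj_mem_conjBy ha₀)) ((u : H) • π v))
    rwa [← mul_smul, inv_mul_cancel_right, mul_smul, ← smul_sub] at h1

end CfsgLib.CFun.MinParab
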