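import Cfsg.Agent.Lib.CFun.MinParab.Amb

/-!
# The local subgroup of a family of offenders

For a family `S` of minimal offenders closed under conjugation a subgroup `R₀ ≤ T` generated by members, with
normalizer outside `M`, is chosen so that every member `A` in `M` normalizing `R₀` and not inside it has all
`p`-subgroups of `N(R₀)` over it in `M`, lies in only one conjugate of `M` under `N(R₀)`, and gives a natural
`SL₂`-block in every subgroup of `N(R₀)` over it outside `M`.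
-/

set_option autoImplicit false
set_option linter.unusedSectionVars false
set_option linter.style.haveILetI false

open CfsgLib.Char.NatSL (OffData fixS)
open CfsgLib.Fusion (conjBy mem_conjBy conj_mem_conjBy conjBy_le_iff conjBy_eq_iff conjBy_conjBy conjBy_mono
  card_conjBy isPGroup_conjBy conjBy_inv_conjBy conjBy_conjBy_inv conjBy_normalizer)
open CfsgLib.CFun.OffenderPair (gen gen_le le_gen gen_mono gen_gen gen_conjBy normalizer_le_normalizer_gen
  SylIn IsMinOff)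

namespace CfsgLib.CFun.MinParab

variable {H : Type*} [Group H] {V : Type*} [AddCommGroup V] [DistribMulAction H V] {p : ℕ} [hp : Fact p.Prime]

/-- A member in `M` normalizing `R₀`, not inside it. -/
def Mem (S : Set (Subgroup H)) (M R₀ A : Subgroup H) : Prop :=
  A ∈ S ∧ A ≤ M ∧ A ≤ Subgroup.normalizer (R₀ : Set H) ∧ ¬ A ≤ R₀

/-- A block at `A`. -/
structure NatBlk (V : Type*) [AddCommGroup V] [DistribMulAction H V] (p : ℕ) [Fact p.Prime] (M A L : Subgroup H) :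
    Prop where
  le : A ≤ L
  notM : ¬ L ≤ M
  aM : A ≤ M
  gen : ∀ x ∈ L, x ∉ M → A ⊔ conjBy x A = L
  data : ∃ T₀ : Sylow p ↥L, OffData V p T₀ (M.subgroupOf L) (A.subgroupOf L)

/-- The local data. -/
structure Loc (V : Type*) [AddCommGroup V] [DistribMulAction H V] (p : ℕ) [Fact p.Prime] (T : Sylow p H)
    (M : Subgroup H) (S : Set (Subgroup H)) (R₀ : Subgroup H) : Prop where
  conj_mem : ∀ A ∈ S, ∀ g : H, conjBy g A ∈ S
  el : ∀ A ∈ S, El p A
  minoff : ∀ A ∈ S, IsMinOff V p A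
  R₀_le : R₀ ≤ (T : Subgroup H)
  gen_R₀ : gen S R₀ = R₀
  notM : ¬ Subgroup.normalizer (R₀ : Set H) ≤ M
  exists_mem : ∃ A, Mem S M R₀ A ∧ A ≤ (T : Subgroup H)
  sylM : SylIn p ((T : Subgroup H) ⊓ Subgroup.normalizer (R₀ : Set H)) (Subgroup.normalizer (R₀ : Set H) ⊓ M)
  sylH : SylIn p ((T : Subgroup H) ⊓ Subgroup.normalizer (R₀ : Set H)) (Subgroup.normalizer (R₀ : Set H))
  toM : ∀ A, Mem S M R₀ A → ∀ U : Subgroup H, IsPGroup p U → U ≤ Subgroup.normalizer (R₀ : Set H) →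
    A ≤ U → U ≤ M
  one : ∀ A, Mem S M R₀ A → ∀ x ∈ Subgroup.normalizer (R₀ : Set H), conjBy x A ≤ M → x ∈ M
  nat : ∀ A, Mem S M R₀ A → ∀ Q : Subgroup H, Q ≤ Subgroup.normalizer (R₀ : Set H) → A ≤ Q → ¬ Q ≤ M →
    ∃ L ≤ Q, NatBlk V p M A L

variable [Finite H] [Finite V] {T : Sylow p H} {M : Subgroup H}

/-- The choice of `R₀`. -/
theorem exists_loc (ha : Amb V p T M) (S : Set (Subgroup H)) (hS : ∀ A ∈ S, ∀ g : H, conjBy g A ∈ S)
    (hel : ∀ A ∈ S, El p A) (hmin : ∀ A ∈ S, IsMinOff V p A) (hne : S.Nonempty) :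
    ∃ R₀, Loc V p T M S R₀ := by
  classical
  set P : Subgroup H := (T : Subgroup H) with hP
  obtain ⟨A₁, hA₁, hA₁P⟩ : ∃ A ∈ S, A ≤ P := by
    obtain ⟨A, hA⟩ := hne
    obtain ⟨Q, hQ⟩ := (hel A hA).pgroup.exists_le_sylow
    obtain ⟨g, rfl⟩ := MulAction.exists_smul_eq H T Q
    refine ⟨conjBy g⁻¹ A, hS A hA _, ?_⟩
    rw [hP, ← conjBy_inv_conjBy g (T : Subgroup H)]
    exact conjBy_mono hQ
  set Cand : Set (Subgroup H) :=
    {R | R ≤ P ∧ gen S R = R ∧ ¬ Subgroup.normalizer (R : Set H) ≤ M}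
  let f : Subgroup H → ℕ := fun R =>
    Nat.card R * (Nat.card H + 1) + Nat.card ↥(P ⊓ Subgroup.normalizer (R : Set H))
  have hbot : (⊥ : Subgroup H) ∈ Cand := by
    refine ⟨bot_le, le_antisymm (gen_le S _) bot_le, fun h => ha.ne_top (top_le_iff.1 ?_)⟩
    rwa [Subgroup.normalizer_eq_top] at h
  obtain ⟨R₀, hR₀mem, hR₀max'⟩ := Finset.exists_max_image (Set.toFinite Cand).toFinset f
    ⟨⊥, (Set.toFinite Cand).mem_toFinset.2 hbot⟩
  obtain ⟨hR₀T, hR₀g, hR₀N⟩ := (Set.toFinite Cand).mem_toFinset.1 hR₀mem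
  have hR₀max : ∀ R ∈ Cand, f R ≤ f R₀ := fun R hR => hR₀max' R ((Set.toFinite Cand).mem_toFinset.2 hR)
  set H₀ := Subgroup.normalizer (R₀ : Set H) with hH₀
  set K := H₀ ⊓ M with hK
  set TH := P ⊓ H₀ with hTH
  have hPp : IsPGroup p P := T.2
  have hTHp : IsPGroup p TH := hPp.to_le inf_le_left
  have hTM : P ≤ M := ha.le_M
  have hR₀TH : R₀ ≤ TH := le_inf hR₀T Subgroup.le_normalizer
  have hTmax : SylIn p P M :=
    ⟨hPp, hTM, fun W hW _ => by
      obtain ⟨g, -, hg⟩ := CfsgLib.Fusion.exists_conj_le_of_not_dvd_relIndex (T := P) (H := ⊤) hPp le_top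
        (by rw [Subgroup.relIndex_top_right]; exact T.not_dvd_index) hW le_top
      exact card_conjBy g W ▸ Subgroup.card_le_of_le hg⟩
  have hsmall : ∀ R : Subgroup H, Nat.card ↥(P ⊓ Subgroup.normalizer (R : Set H)) < Nat.card H + 1 := fun R =>
    Nat.lt_succ_of_le (Subgroup.card_le_card_group _)
  have hconj : ∀ {m : H}, m ∈ M → ∀ R : Subgroup H, ¬ Subgroup.normalizer (R : Set H) ≤ M →
      ¬ Subgroup.normalizer (conjBy m R : Set H) ≤ M := by
    intro m hm R hR h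
    refine hR fun x hx => ?_
    have h1 : m * x * m⁻¹ ∈ M := h (conjBy_normalizer m R ▸ conj_mem_conjBy hx)
    simpa [mul_assoc] using M.mul_mem (M.mul_mem (M.inv_mem hm) h1) hm
  -- subgroups bigger than `R₀`
  have hbig : ∀ R : Subgroup H, IsPGroup p R → R ≤ M → gen S R = R → Nat.card R₀ < Nat.card R →
      Subgroup.normalizer (R : Set H) ≤ M := by
    intro R hR hRM hRg hlt
    by_contra hN
    obtain ⟨m, hm, hmR⟩ := hTmax.exists_conj_le hR hRM
    have hle := hR₀max _ ⟨hmR, by rw [gen_conjBy hS, hRg], hconj hm R hN⟩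
    have h2 : (Nat.card R₀ + 1) * (Nat.card H + 1) ≤ Nat.card R * (Nat.card H + 1) :=
      Nat.mul_le_mul_right _ hlt
    have h1 := hsmall R₀
    rw [add_mul, one_mul] at h2
    simp only [f, card_conjBy] at hle
    omega
  -- the Sylow subgroup of `H₀ ⊓ M`
  have hTHK : SylIn p TH K := by
    obtain ⟨W, hW, hTW⟩ := SylIn.exists_ge (K := K) hTHp (le_inf inf_le_right (inf_le_left.trans hTM))
    obtain ⟨m, hm, hmW⟩ := hTmax.exists_conj_le hW.pgroup (hW.le.trans inf_le_right)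
    have h1 : conjBy m R₀ ≤ P := (conjBy_mono (hR₀TH.trans hTW)).trans hmW
    have hle := hR₀max _ ⟨h1, by rw [gen_conjBy hS, hR₀g], hconj hm R₀ hR₀N⟩
    have h2 : conjBy m W ≤ P ⊓ Subgroup.normalizer (conjBy m R₀ : Set H) :=
      le_inf hmW (by rw [← conjBy_normalizer]; exact conjBy_mono (hW.le.trans inf_le_left))
    have h3 := Subgroup.card_le_of_le h2
    rw [card_conjBy] at h3
    simp only [f, card_conjBy] at hle
    have h4 : Nat.card W ≤ Nat.card TH := h3.trans (Nat.le_of_add_le_add_left hle)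
    rwa [Subgroup.eq_of_le_of_card_ge hTW h4]
  -- a member outside `R₀`
  have hgenne : gen S TH ≠ R₀ := by
    intro he
    by_cases hTT : TH = P
    · have hPH : P ≤ H₀ := inf_eq_left.1 hTT
      have htop : H₀ = ⊤ := by
        by_contra h
        exact hR₀N (ha.uniq H₀ hPH h)
      haveI : R₀.Normal := Subgroup.normalizer_eq_top_iff.1 htop
      have hbot' : R₀ = ⊥ := ha.core R₀ inferInstance (hPp.to_le hR₀T)
      refine (hmin A₁ hA₁).ne_bot (le_bot_iff.1 ?_)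
      rw [← hbot', ← he, hTT]
      exact le_gen hA₁ hA₁P
    · haveI : Group.IsNilpotent P := hPp.isNilpotent
      refine (CfsgLib.Fusion.lt_inf_normalizer (P := P) (T := TH) inf_le_left hTT).not_ge
        (le_inf inf_le_left ?_)
      rw [hH₀, ← he]
      exact inf_le_right.trans (normalizer_le_normalizer_gen hS TH)
  obtain ⟨A₂, hA₂, hA₂TH, hA₂R₀⟩ : ∃ A ∈ S, A ≤ TH ∧ ¬ A ≤ R₀ := by
    by_contra! h
    exact hgenne (le_antisymm (sSup_le fun A hA => h A hA.1 hA.2) (hR₀g ▸ gen_mono S hR₀TH))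
  have hbigger : ∀ A ∈ S, ¬ A ≤ R₀ → ∀ D : Subgroup H, R₀ ≤ D → A ≤ D →
      Nat.card R₀ < Nat.card ↥(gen S D) := by
    intro A hA hAR₀ D hRD hAD
    have h1 : R₀ ≤ gen S D := hR₀g ▸ gen_mono S hRD
    refine lt_of_le_of_ne (Subgroup.card_le_of_le h1) fun h => hAR₀ ?_
    rw [Subgroup.eq_of_le_of_card_ge h1 h.ge]
    exact le_gen hA hAD
  have hNbig : ∀ A ∈ S, ¬ A ≤ R₀ → ∀ D : Subgroup H, IsPGroup p D → D ≤ M → R₀ ≤ D → A ≤ D →
      Subgroup.normalizer (D : Set H) ≤ M := fun A hA hAR₀ D hD hDM hRD hAD =>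
    (normalizer_le_normalizer_gen hS D).trans
      (hbig _ (hD.to_le (gen_le S D)) ((gen_le S D).trans hDM) (gen_gen S D) (hbigger A hA hAR₀ D hRD hAD))
  have hTHM : TH ≤ M := inf_le_left.trans hTM
  have hNTH : Subgroup.normalizer (TH : Set H) ≤ M := hNbig A₂ hA₂ hA₂R₀ TH hTHp hTHM hR₀TH hA₂TH
  have hTHH : SylIn p TH H₀ := by
    obtain ⟨W, hW, hTW⟩ := SylIn.exists_ge (K := H₀) hTHp inf_le_right
    by_contra hnot
    have hWne : TH ≠ W := fun h => hnot (h ▸ hW)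
    haveI : Group.IsNilpotent W := hW.pgroup.isNilpotent
    have hlt := CfsgLib.Fusion.lt_inf_normalizer hTW hWne
    refine hlt.ne (Subgroup.eq_of_le_of_card_ge hlt.le ?_)
    exact hTHK.max _ (hW.pgroup.to_le inf_le_left)
      (le_inf (inf_le_left.trans hW.le) (inf_le_right.trans hNTH))
  have hKH : ∀ {U : Subgroup H}, SylIn p U K → SylIn p U H₀ := fun {U} hU =>
    ⟨hU.pgroup, hU.le.trans inf_le_left,
      fun W hW hWH => (hTHH.max W hW hWH).trans (hU.max TH hTHp hTHK.le)⟩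
  have hR₀U : ∀ {U : Subgroup H}, SylIn p U H₀ → R₀ ≤ U := by
    intro U hU
    obtain ⟨k, hk, hkU⟩ := hU.exists_conj_eq hTHH
    rw [← hkU, ← conjBy_eq_iff.2 hk]
    exact conjBy_mono hR₀TH
  -- every `p`-subgroup of `H₀` over a member lies in `M`
  have hchain : ∀ A ∈ S, ¬ A ≤ R₀ → ∀ (n : ℕ) (U T' : Subgroup H), SylIn p U H₀ → SylIn p T' H₀ → T' ≤ M →
      A ≤ U → A ≤ T' → Nat.card U - Nat.card ↥(U ⊓ T') ≤ n → U ≤ M := by
    intro A hA hAR₀ n
    induction n with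
    | zero =>
      intro U T' _ _ hT'M _ _ hn
      have he : U ⊓ T' = U := Subgroup.eq_of_le_of_card_ge inf_le_left (by omega)
      exact (inf_eq_left.1 he).trans hT'M
    | succ n ih =>
      intro U T' hU hT' hT'M hAU hAT' hn
      set D := U ⊓ T' with hD
      by_cases hDU : D = U
      · exact (inf_eq_left.1 hDU).trans hT'M
      haveI : Group.IsNilpotent U := hU.pgroup.isNilpotent
      have hlt := CfsgLib.Fusion.lt_inf_normalizer (inf_le_left : D ≤ U) hDU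
      have hND := hNbig A hA hAR₀ D (hU.pgroup.to_le inf_le_left) (inf_le_right.trans hT'M)
        (le_inf (hR₀U hU) (hR₀U hT')) (le_inf hAU hAT')
      obtain ⟨T'', hT'', hle⟩ := SylIn.exists_ge (K := K)
        (hU.pgroup.to_le (inf_le_left : U ⊓ Subgroup.normalizer (D : Set H) ≤ U))
        (le_inf (inf_le_left.trans hU.le) (inf_le_right.trans hND))
      refine ih U T'' hU (hKH hT'') (hT''.le.trans inf_le_right) hAU
        ((le_inf hAU hAT' : A ≤ D).trans (hlt.le.trans hle)) ?_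
      have h1 : Nat.card D < Nat.card ↥(U ⊓ Subgroup.normalizer (D : Set H)) :=
        lt_of_le_of_ne (Subgroup.card_le_of_le hlt.le) fun h =>
          hlt.ne (Subgroup.eq_of_le_of_card_ge hlt.le h.ge)
      have h2 : U ⊓ Subgroup.normalizer (D : Set H) ≤ U ⊓ T'' := le_inf inf_le_left hle
      have h3 := Subgroup.card_le_of_le h2
      omega
  have htoM : ∀ A, Mem S M R₀ A → ∀ U : Subgroup H, IsPGroup p U → U ≤ H₀ → A ≤ U → U ≤ M := by
    rintro A ⟨hA, hAM, hAH, hAR₀⟩ U hU hUH hAU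
    obtain ⟨T', hT', hAT'⟩ := SylIn.exists_ge (K := K) (hel A hA).pgroup (le_inf hAH hAM)
    obtain ⟨U', hU', hUU'⟩ := SylIn.exists_ge (K := H₀) hU hUH
    exact hUU'.trans (hchain A hA hAR₀ _ U' T' hU' (hKH hT') (hT'.le.trans inf_le_right)
      (hAU.trans hUU') hAT' le_rfl)
  have hNU : ∀ {U : Subgroup H}, SylIn p U K → ∀ g ∈ H₀, g ∈ Subgroup.normalizer (U : Set H) → g ∈ M := by
    intro U hU g hg hgU
    obtain ⟨k, hk, hkU⟩ := hU.exists_conj_eq hTHK
    rw [← hkU, ← conjBy_normalizer, mem_conjBy] at hgU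
    have h1 := hNTH hgU
    simpa [mul_assoc] using M.mul_mem (M.mul_mem hk.2 h1) (M.inv_mem hk.2)
  have hone : ∀ A, Mem S M R₀ A → ∀ x ∈ H₀, conjBy x A ≤ M → x ∈ M := by
    rintro A hA x hx hxA
    obtain ⟨hAS, hAM, hAH, hAR₀⟩ := hA
    obtain ⟨W, hW, hAW⟩ := SylIn.exists_ge (K := K) (isPGroup_conjBy x (hel A hAS).pgroup)
      (le_inf (conjBy_le_iff.2 fun a ha' => H₀.mul_mem (H₀.mul_mem hx (hAH ha')) (H₀.inv_mem hx)) hxA)
    have hW' := (hKH hW).conjBy_mem (H₀.inv_mem hx)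
    have hW'M := htoM A ⟨hAS, hAM, hAH, hAR₀⟩ _ hW'.pgroup hW'.le
      (by rw [← conjBy_inv_conjBy x A]; exact conjBy_mono hAW)
    obtain ⟨j, hj, hje⟩ := SylIn.exists_conj_eq
      (⟨hW'.pgroup, le_inf hW'.le hW'M, fun Q hQ hQK => hW'.max Q hQ (hQK.trans inf_le_left)⟩ :
        SylIn p (conjBy x⁻¹ W) K) hW
    have h1 : x * j ∈ Subgroup.normalizer (W : Set H) := by
      rw [← conjBy_eq_iff, ← conjBy_conjBy, hje, conjBy_conjBy_inv]
    have h2 := hNU hW _ (H₀.mul_mem hx hj.1) h1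
    simpa using M.mul_mem h2 (M.inv_mem hj.2)
  refine ⟨R₀, ⟨hS, hel, hmin, hR₀T, hR₀g, hR₀N,
    ⟨A₂, ⟨hA₂, hA₂TH.trans hTHM, hA₂TH.trans inf_le_right, hA₂R₀⟩, hA₂TH.trans inf_le_left⟩,
    hTHK, hTHH, htoM, hone, ?_⟩⟩
  -- the block
  rintro A hA Q hQH hAQ hQM
  obtain ⟨hAS, hAM, hAH, hAR₀⟩ := hA
  obtain ⟨L, ⟨hLQ, hAL, hLM⟩, hLmin⟩ :=
    (Set.toFinite {L : Subgroup H | L ≤ Q ∧ A ≤ L ∧ ¬ L ≤ M}).exists_minimal ⟨Q, le_rfl, hAQ, hQM⟩
  have hprop : ∀ L' : Subgroup H, A ≤ L' → L' ≤ L → L' ≠ L → L' ≤ M := by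
    intro L' hAL' hL'L hne'
    by_contra h
    exact hne' (le_antisymm hL'L (hLmin ⟨hL'L.trans hLQ, hAL', h⟩ hL'L))
  have hgen : ∀ x ∈ L, x ∉ M → A ⊔ conjBy x A = L := by
    intro x hx hxM
    have hle : A ⊔ conjBy x A ≤ L :=
      sup_le hAL (conjBy_le_iff.2 fun a ha' => L.mul_mem (L.mul_mem hx (hAL ha')) (L.inv_mem hx))
    by_contra hne'
    exact hxM (hone A ⟨hAS, hAM, hAH, hAR₀⟩ x (hQH (hLQ hx))
      (le_sup_right.trans (hprop _ le_sup_left hle hne')))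
  refine ⟨L, hLQ, hAL, hLM, hAM, hgen, ?_⟩
  obtain ⟨T₀, hT₀⟩ := ((hel A hAS).pgroup.of_equiv (Subgroup.subgroupOfEquivOfLe hAL).symm).exists_le_sylow
  have hLH : L ≤ H₀ := hLQ.trans hQH
  have hT₀' : (T₀ : Subgroup ↥L).map L.subtype ≤ M :=
    htoM A ⟨hAS, hAM, hAH, hAR₀⟩ _ (T₀.2.map L.subtype) ((Subgroup.map_subtype_le _).trans hLH)
      fun a ha' => ⟨⟨a, hAL ha'⟩, hT₀ ha', rfl⟩
  obtain ⟨m, hm, hmT⟩ := hTmax.exists_conj_le (T₀.2.map L.subtype) hT₀'
  refine ⟨T₀, ha.offData T₀ (M.inv_mem hm) (hel A hAS) hAL hLM hAM hT₀ (fun t ht => hT₀' ⟨t, ht, rfl⟩)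
    (fun t ht => by rw [inv_inv]; exact hmT (conj_mem_conjBy ⟨t, ht, rfl⟩))
    (fun L' hAL' hne' t ht => ?_) hgen (hmin A hAS).off (hmin A hAS).strict⟩
  refine hprop (L'.map L.subtype) (fun a ha' => ⟨⟨a, hAL ha'⟩, hAL' ha', rfl⟩) (Subgroup.map_subtype_le _)
    (fun h => hne' ?_) ⟨t, ht, rfl⟩
  refine Subgroup.map_injective L.subtype_injective (h.trans ?_)
  rw [← MonoidHom.range_eq_map, Subgroup.range_subtype]

end CfsgLib.CFun.MinParab
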