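import Cfsg.Agent.Lib.CFun.MinParab.Rec.Coord
import Cfsg.Agent.Lib.CFun.MinParab.Rec.Parts
import Cfsg.Agent.Lib.Classical.SLNormalized
import Cfsg.Agent.Lib.LocalStructure.Irreducible

/-!
# Offenders lie in the product of the components

`Frame` lists what is used of the components of a minimal parabolic group with offenders: they are permuted,
they contain all roots, a `p`-element centralizing a root of a component and normalizing it induces an inner
map on its commutator space, and minimal offenders inside one component are no larger than roots. Then every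
elementary abelian offender lies in the product of the components and contains a root.
-/

set_option autoImplicit false
set_option linter.unusedSectionVars false
set_option linter.style.haveILetI false

open scoped MatrixGroups
open CfsgLib.Char.NatSL (fixS mem_fixS fixS_mono tr mem_tr card_tr smul_mem_tr card_sup_mul_card_inf)
open CfsgLib.Fusion (conjBy mem_conjBy conj_mem_conjBy conjBy_le_iff conjBy_eq_iff conjBy_conjBy
  conjBy_mono card_conjBy conjBy_inv_conjBy conjBy_conjBy_inv)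
open CfsgLib.CFun.OffenderPair (exists_local fixS_sup)

namespace CfsgLib.CFun.MinParab.Off

open Rec

variable {H : Type*} [Group H] {V : Type*} [AddCommGroup V] [DistribMulAction H V] {p : ℕ}

/-- A maximal-order-preserving elementary abelian subgroup: an exact offender. -/
def IsOff (V : Type*) [AddCommGroup V] [DistribMulAction H V] (p : ℕ) (X : Subgroup H) : Prop :=
  El p X ∧ Nat.card V ≤ Nat.card ↥X * Nat.card ↥(fixS V X)

/-- What is used of the components. -/
structure Frame (V : Type*) [AddCommGroup V] [DistribMulAction H V] (p q : ℕ) [Fact p.Prime] (T : Sylow p H)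
    (r : ℕ) (E : Fin r → Subgroup H) : Prop where
  parts : Parts V (T : Subgroup H) r E
  least : Least (H := H) V p q
  exists_root : ∃ A : Subgroup H, Root V p q A
  covered : ∀ A : Subgroup H, Root V p q A → ∃ i, A ≤ E i
  nofix : ∀ i, ∀ e ∈ E i, e ^ p = 1 → ∀ v : V, e • v - v ∈ fixS V (E i) → e • v = v
  small : ∀ i (X : Subgroup H), El p X → X ≠ ⊥ → X ≤ E i →
    (∀ a ∈ X, a ≠ 1 → ∀ v : V, a • v = v → v ∈ fixS V X) → Nat.card ↥X ≤ q
  auto : ∀ i (A : Subgroup H), Root V p q A → A ≤ E i → ∀ x : H, x ^ p = 1 → (∀ a ∈ A, x * a = a * x) →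
    conjBy x (E i) = E i → ∃ e ∈ E i, ∀ v ∈ commS V (E i), x • v = e • v
  gen : ∀ i (A : Subgroup H), Root V p q A → A ≤ E i → ∀ K : Subgroup H,
    (∀ g ∈ E i, conjBy g A ≤ K) → E i ≤ K

variable [Finite H] [Finite V] [hp : Fact p.Prime] {T : Sylow p H} {M : Subgroup H} {q r : ℕ}
  {E : Fin r → Subgroup H}

/-- A minimal offender has a natural block at some conjugate. -/
theorem exists_blk (hc : Ctx V p T M) {A : Subgroup H} (hA : IsOff V p A) (hne : A ≠ ⊥)
    (hstrict : ∀ X : Subgroup H, X ≤ A → X ≠ ⊥ → X ≠ A →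
      Nat.card ↥X * Nat.card ↥(fixS V X) < Nat.card ↥A * Nat.card ↥(fixS V A)) :
    ∃ (g : H) (L : Subgroup H), NatBlk V p M (conjBy g A) L := by
  classical
  let S : Set (Subgroup H) := Set.range fun g => conjBy g A
  have hS : ∀ B ∈ S, ∀ g : H, conjBy g B ∈ S := by
    rintro _ ⟨x, rfl⟩ g
    exact ⟨g * x, (conjBy_conjBy g x A).symm⟩
  have hbot : ∀ y : H, conjBy y A ≠ ⊥ := fun y h => hne (by
    rw [← Subgroup.card_eq_one, ← card_conjBy y A, h, Subgroup.card_bot])
  obtain ⟨Q, hQ⟩ := hA.1.pgroup.exists_le_sylow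
  obtain ⟨g, rfl⟩ := MulAction.exists_smul_eq H T Q
  have hex : ∃ B ∈ S, B ≤ (T : Subgroup H) := by
    refine ⟨conjBy g⁻¹ A, ⟨g⁻¹, rfl⟩, ?_⟩
    rw [← conjBy_inv_conjBy g (T : Subgroup H)]
    exact conjBy_mono hQ
  obtain ⟨B, L, T₀, m, ⟨x, rfl⟩, hm, hBL, hBM, hLM, hBT₀, hT₀M, hT₀P, hover, hgen⟩ :=
    exists_local T M hc.le_M hc.ne_top hc.uniq hc.core S hS
      (by rintro _ ⟨y, rfl⟩; exact (hA.1.conjBy y).pgroup) (by rintro _ ⟨y, rfl⟩; exact hbot y) hex
  refine ⟨x, L, hBL, hLM, hBM, hgen, T₀,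
    hc.offData T₀ hm (hA.1.conjBy x) hBL hLM hBM hBT₀ hT₀M hT₀P hover hgen ?_ fun X hX hXne hXA => ?_⟩
  · rw [card_conjBy, fixS_conjBy, card_tr]
    exact hA.2
  · have h1 : conjBy x⁻¹ X ≤ A := conjBy_inv_conjBy x A ▸ conjBy_mono hX
    have h2 := hstrict _ h1 (fun h => hXne (by
      rw [← conjBy_conjBy_inv x X, h, CfsgLib.Fusion.conjBy, Subgroup.map_bot]))
      (fun h => hXA (by show X = conjBy x A; rw [← h, conjBy_conjBy_inv]))
    rw [card_conjBy, fixS_conjBy, card_tr] at h2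
    rw [card_conjBy, fixS_conjBy, card_tr]
    exact h2

namespace Frame

theorem normal (hF : Frame V p q T r E) : (⨆ i, E i).Normal := by
  refine ⟨fun n hn g => ?_⟩
  have h : conjBy g (⨆ i, E i) ≤ ⨆ i, E i := by
    rw [conjBy_iSup]
    exact iSup_le fun i => by
      obtain ⟨j, hj⟩ := hF.parts.perm g i
      exact hj.le.trans (le_iSup E j)
  exact h (conj_mem_conjBy hn)

theorem iSup_le_normalizer (hF : Frame V p q T r E) (i : Fin r) :
    (⨆ j, E j) ≤ Subgroup.normalizer (E i : Set H) := by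
  refine iSup_le fun j => ?_
  rcases eq_or_ne j i with rfl | h
  · exact Subgroup.le_normalizer
  · exact (hF.parts.com j i h).le_normalizer

theorem full (hF : Frame V p q T r E) (i : Fin r) : commS V (E i) ⊔ fixS V (E i) = ⊤ := by
  rw [eq_top_iff, ← hF.parts.span]
  refine sup_le ((fixS_mono (le_iSup E i)).trans le_sup_right) (iSup_le fun j => ?_)
  rcases eq_or_ne j i with rfl | h
  · exact le_sup_left
  · exact (hF.parts.cross j i h).trans le_sup_right

/-- An element of a component fixing its commutator space is trivial. -/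
theorem eq_one (hF : Frame V p q T r E) (hc : Ctx V p T M) {i : Fin r} {e : H} (he : e ∈ E i)
    (h : ∀ v ∈ commS V (E i), e • v = v) : e = 1 := by
  refine hc.faith e fun v => ?_
  obtain ⟨w, hw, u, hu, rfl⟩ := AddSubgroup.mem_sup.1
    (hF.full i ▸ AddSubgroup.mem_top v : v ∈ commS V (E i) ⊔ fixS V (E i))
  rw [smul_add, h w hw, hu e he]

theorem eq_of_agree (hF : Frame V p q T r E) (hc : Ctx V p T M) {i : Fin r} {e f : H} (he : e ∈ E i)
    (hf : f ∈ E i) (h : ∀ v ∈ commS V (E i), e • v = f • v) : e = f := by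
  refine inv_mul_eq_one.1 (hF.eq_one hc (mul_mem (inv_mem he) hf) fun v hv => ?_)
  rw [mul_smul, inv_smul_eq_iff]
  exact (h v hv).symm

/-- The index of a root is unique. -/
theorem index_unique (hF : Frame V p q T r E) {A : Subgroup H} (hA : Root V p q A) {i j : Fin r}
    (hi : A ≤ E i) (hj : A ≤ E j) : i = j := by
  by_contra hne
  refine hA.ne_bot hF.least (le_bot_iff.1 ?_)
  rw [← hF.parts.indep i]
  exact le_inf hi (hj.trans (le_biSup E (show j ∈ {j | j ≠ i} from Ne.symm hne)))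

/-- The elements acting on the commutator space of a component as inner elements. -/
def inner (hF : Frame V p q T r E) (i : Fin r) : Subgroup H where
  carrier := {x | conjBy x (E i) = E i ∧ ∃ e ∈ E i, ∀ v ∈ commS V (E i), x • v = e • v}
  one_mem' := ⟨CfsgLib.Fusion.conjBy_one _, 1, one_mem _, fun _ _ => rfl⟩
  mul_mem' := fun {x y} ⟨hx, e, he, hxe⟩ ⟨hy, f, hf, hyf⟩ => ⟨by rw [← conjBy_conjBy, hy, hx], e * f,
    mul_mem he hf, fun v hv => by
      rw [mul_smul, hyf v hv, hxe _ (smul_mem_commS_of_mem hf hv), mul_smul]⟩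
  inv_mem' := fun {x} ⟨hx, e, he, hxe⟩ => ⟨by conv_lhs => rw [← hx, conjBy_inv_conjBy], e⁻¹, inv_mem he,
    fun v hv => by
      rw [inv_smul_eq_iff, hxe _ (smul_mem_commS_of_mem (inv_mem he) hv), smul_inv_smul]⟩

theorem iSup_le_inner (hF : Frame V p q T r E) (i : Fin r) : (⨆ j, E j) ≤ hF.inner i := by
  refine iSup_le fun j => fun g hg => ⟨conjBy_eq_iff.2 (hF.iSup_le_normalizer i (le_iSup E j hg)), ?_⟩
  rcases eq_or_ne j i with rfl | h
  · exact ⟨g, hg, fun _ _ => rfl⟩
  · exact ⟨1, one_mem _, fun v hv => by rw [one_smul]; exact hF.parts.cross i j h.symm hv g hg⟩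

/-- An offender acting innerly on a component splits off its projection. -/
theorem split_step (hF : Frame V p q T r E) (hc : Ctx V p T M) (i : Fin r) {X : Subgroup H}
    (hX : IsOff V p X) (hin : X ≤ hF.inner i) :
    ∃ P X' : Subgroup H, P ≤ X ∧ P ≤ E i ∧ IsOff V p P ∧ X' ≤ X ∧ IsOff V p X' ∧ X ≤ P ⊔ X' ∧
      (∀ x ∈ X', ∀ v ∈ commS V (E i), x • v = v) ∧
      ∀ x ∈ X, (∀ v ∈ commS V (E i), x • v = v) → x ∈ X' := by
  classical
  set W := commS V (E i) with hW
  set U := fixS V (E i) with hU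
  let P : Subgroup H :=
    { carrier := {e | e ∈ E i ∧ ∃ x ∈ X, ∀ v ∈ W, x • v = e • v}
      one_mem' := ⟨one_mem _, 1, one_mem _, fun _ _ => rfl⟩
      mul_mem' := fun {e f} ⟨he, x, hx, hxe⟩ ⟨hf, y, hy, hyf⟩ => ⟨mul_mem he hf, x * y, mul_mem hx hy,
        fun v hv => by rw [mul_smul, hyf v hv, hxe _ (smul_mem_commS_of_mem hf hv), mul_smul]⟩
      inv_mem' := fun {e} ⟨he, x, hx, hxe⟩ => ⟨inv_mem he, x⁻¹, inv_mem hx, fun v hv => by
        rw [inv_smul_eq_iff, hxe _ (smul_mem_commS_of_mem (inv_mem he) hv), smul_inv_smul]⟩ }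
  let X' : Subgroup H :=
    { carrier := {x | x ∈ X ∧ ∀ v ∈ W, x • v = v}
      one_mem' := ⟨one_mem _, fun v _ => one_smul H v⟩
      mul_mem' := fun {x y} hx hy => ⟨mul_mem hx.1 hy.1, fun v hv => by rw [mul_smul, hy.2 v hv, hx.2 v hv]⟩
      inv_mem' := fun {x} hx => ⟨inv_mem hx.1, fun v hv => by rw [inv_smul_eq_iff, hx.2 v hv]⟩ }
  have hWinv : ∀ x ∈ X, ∀ v ∈ W, x • v ∈ W := fun x hx v hv =>
    smul_mem_commS (conjBy_eq_iff.1 (hin hx).1) hv
  have hUinv : ∀ x ∈ X, ∀ v ∈ U, x • v ∈ U := fun x hx v hv =>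
    smul_mem_fixS (conjBy_eq_iff.1 (hin hx).1) hv
  have hPcomm : ∀ x ∈ X, ∀ e ∈ P, x * e = e * x := by
    intro x hx e he
    refine mul_inv_eq_iff_eq_mul.1 (hF.eq_of_agree hc ((hin hx).1 ▸ conj_mem_conjBy he.1) he.1 fun v hv => ?_)
    obtain ⟨y, hy, hye⟩ := he.2
    rw [mul_smul, mul_smul, ← hye _ (hWinv _ (X.inv_mem hx) v hv), ← mul_smul, ← mul_smul,
      ← hye v hv, hX.1.comm x hx y hy, mul_assoc, mul_inv_cancel, mul_one]
  have hPel : El p P := by
    refine ⟨fun e he f hf => hF.eq_of_agree hc (mul_mem he.1 hf.1) (mul_mem hf.1 he.1) fun v hv => ?_,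
      fun e he => hF.eq_one hc (pow_mem he.1 p) fun v hv => ?_⟩
    · obtain ⟨x, hx, hxe⟩ := he.2
      obtain ⟨y, hy, hyf⟩ := hf.2
      rw [mul_smul, mul_smul, ← hyf v hv, ← hxe _ (hWinv y hy v hv), ← hxe v hv, ← hyf _ (hWinv x hx v hv),
        ← mul_smul, ← mul_smul, hX.1.comm x hx y hy]
    · obtain ⟨x, hx, hxe⟩ := he.2
      have h : ∀ k : ℕ, x ^ k • v = e ^ k • v ∧ x ^ k • v ∈ W := fun k => by
        induction k with
        | zero => simpa using hv
        | succ k ih =>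
          rw [pow_succ', pow_succ', mul_smul, mul_smul, hxe _ ih.2, ih.1]
          exact ⟨rfl, smul_mem_commS_of_mem he.1 (ih.1 ▸ ih.2)⟩
      rw [← (h p).1, hX.1.pow x hx, one_smul]
  have hX'el : El p X' := hX.1.mono fun x hx => hx.1
  -- the homomorphism to `P`
  have hex : ∀ x : ↥X, ∃ e : ↥P, ∀ v ∈ W, (x : H) • v = (e : H) • v := fun x => by
    obtain ⟨-, e, he, hxe⟩ := hin x.2
    exact ⟨⟨e, he, x, x.2, hxe⟩, hxe⟩
  choose φ hφ using hex
  have huniq : ∀ (x : ↥X) (e : ↥P), (∀ v ∈ W, (x : H) • v = (e : H) • v) → φ x = e := fun x e h =>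
    Subtype.ext (hF.eq_of_agree hc (φ x).2.1 e.2.1 fun v hv => (hφ x v hv).symm.trans (h v hv))
  let φ' : ↥X →* ↥P := MonoidHom.mk' φ fun x y => huniq _ _ fun v hv => by
    rw [Subgroup.coe_mul, Subgroup.coe_mul, mul_smul, mul_smul, hφ y v hv,
      hφ x _ (smul_mem_commS_of_mem (φ y).2.1 hv)]
  have hcardX : Nat.card ↥X ≤ Nat.card ↥X' * Nat.card ↥P := by
    rw [Subgroup.card_eq_card_quotient_mul_card_subgroup φ'.ker,
      Nat.card_congr (QuotientGroup.quotientKerEquivRange φ').toEquiv, mul_comm]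
    refine Nat.mul_le_mul (Nat.card_le_card_of_injective
      (fun x : ↥φ'.ker => (⟨((x : ↥X) : H), (x : ↥X).2, fun v hv => ?_⟩ : ↥X'))
      fun a b h => ?_) (Subgroup.card_le_card_group _)
    · have h1 : φ (x : ↥X) = 1 := x.2
      rw [hφ _ v hv, h1, OneMemClass.coe_one, one_smul]
    · have h1 := congrArg (fun z : ↥X' => (z : H)) h
      exact Subtype.ext (Subtype.ext h1)
  -- the fixed spaces
  set a := fixS V X ⊓ W
  set b := fixS V X ⊓ U
  set D := W ⊓ U with hD
  have hDX : D ≤ fixS V X := fun v hv x hx => by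
    obtain ⟨-, e, he, hxe⟩ := hin hx
    rw [hxe v hv.1, hv.2 e he]
  have hsum : ∀ x y : AddSubgroup V, x ≤ W → y ≤ U → D ≤ x → D ≤ y →
      Nat.card ↥(x ⊔ y) * Nat.card ↥D = Nat.card ↥x * Nat.card ↥y := fun x y hx hy hDx hDy => by
    have h := card_sup_mul_card_inf x y
    rwa [show x ⊓ y = D from le_antisymm (inf_le_inf hx hy) (le_inf hDx hDy)] at h
  have hV : Nat.card V * Nat.card ↥D = Nat.card ↥W * Nat.card ↥U := by
    rw [← hsum W U le_rfl le_rfl inf_le_left inf_le_right, hF.full i, AddSubgroup.card_top]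
  have hCX : fixS V X ≤ a ⊔ b := by
    intro v hv
    obtain ⟨w, hw, u, hu, rfl⟩ := AddSubgroup.mem_sup.1
      (hF.full i ▸ AddSubgroup.mem_top v : v ∈ W ⊔ U)
    have key : ∀ x ∈ X, x • w = w ∧ x • u = u := fun x hx => by
      have h1 := hv x hx
      rw [smul_add] at h1
      have h2 : x • w - w = u - x • u := by linear_combination (norm := abel) h1
      have h3 : x • w - w ∈ U := h2 ▸ U.sub_mem hu (hUinv x hx u hu)
      obtain ⟨-, e, he, hxe⟩ := hin hx
      have he' : e ^ p = 1 := hPel.pow e ⟨he, x, hx, hxe⟩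
      have h4 : x • w = w := by
        rw [hxe w hw] at h3 ⊢
        exact hF.nofix i e he he' w h3
      refine ⟨h4, ?_⟩
      rw [h4, sub_self] at h2
      exact (sub_eq_zero.1 h2.symm).symm
    exact AddSubgroup.mem_sup.2 ⟨w, ⟨fun x hx => (key x hx).1, hw⟩, u, ⟨fun x hx => (key x hx).2, hu⟩, rfl⟩
  have hDa : D ≤ a := le_inf hDX inf_le_left
  have hDb : D ≤ b := le_inf hDX inf_le_right
  have hCP : a ⊔ U ≤ fixS V P := by
    refine sup_le (fun v hv e he => ?_) fun v hv e he => hv e he.1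
    obtain ⟨x, hx, hxe⟩ := he.2
    rw [← hxe v hv.2]
    exact hv.1 x hx
  have hCX' : W ⊔ b ≤ fixS V X' := sup_le (fun v hv x hx => hx.2 v hv) fun v hv x hx => hv.1 x hx.1
  have hcab : Nat.card ↥(fixS V X) * Nat.card ↥D ≤ Nat.card ↥a * Nat.card ↥b := by
    rw [← hsum a b inf_le_right inf_le_right hDa hDb]
    exact Nat.mul_le_mul_right _ (AddSubgroup.card_le_of_le hCX)
  have hcP : Nat.card ↥a * Nat.card ↥U ≤ Nat.card ↥(fixS V P) * Nat.card ↥D := by
    rw [← hsum a U inf_le_right le_rfl hDa inf_le_right]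
    exact Nat.mul_le_mul_right _ (AddSubgroup.card_le_of_le hCP)
  have hcX' : Nat.card ↥W * Nat.card ↥b ≤ Nat.card ↥(fixS V X') * Nat.card ↥D := by
    rw [← hsum W b le_rfl inf_le_right inf_le_left hDb]
    exact Nat.mul_le_mul_right _ (AddSubgroup.card_le_of_le hCX')
  have hprod : Nat.card V * Nat.card V ≤
      (Nat.card ↥X' * Nat.card ↥(fixS V X')) * (Nat.card ↥P * Nat.card ↥(fixS V P)) := by
    have hDpos : 0 < Nat.card ↥D * Nat.card ↥D := Nat.mul_pos Nat.card_pos Nat.card_pos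
    refine Nat.le_of_mul_le_mul_right (?_ : _ * (Nat.card ↥D * Nat.card ↥D) ≤ _ * (Nat.card ↥D * Nat.card ↥D)) hDpos
    calc Nat.card V * Nat.card V * (Nat.card ↥D * Nat.card ↥D)
          ≤ (Nat.card ↥X * Nat.card ↥(fixS V X)) * Nat.card V * (Nat.card ↥D * Nat.card ↥D) :=
          Nat.mul_le_mul_right _ (Nat.mul_le_mul_right _ hX.2)
      _ = Nat.card ↥X * (Nat.card ↥(fixS V X) * Nat.card ↥D) * (Nat.card V * Nat.card ↥D) := by ring
      _ ≤ (Nat.card ↥X' * Nat.card ↥P) * (Nat.card ↥a * Nat.card ↥b) * (Nat.card ↥W * Nat.card ↥U) := by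
          rw [hV]; exact Nat.mul_le_mul_right _ (Nat.mul_le_mul hcardX hcab)
      _ = (Nat.card ↥X' * (Nat.card ↥W * Nat.card ↥b)) * (Nat.card ↥P * (Nat.card ↥a * Nat.card ↥U)) := by
          ring
      _ ≤ (Nat.card ↥X' * (Nat.card ↥(fixS V X') * Nat.card ↥D)) *
            (Nat.card ↥P * (Nat.card ↥(fixS V P) * Nat.card ↥D)) :=
          Nat.mul_le_mul (Nat.mul_le_mul_left _ hcX') (Nat.mul_le_mul_left _ hcP)
      _ = _ := by ring
  have hVpos : 0 < Nat.card V := Nat.card_pos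
  have hPoff : IsOff V p P := ⟨hPel, Nat.le_of_mul_le_mul_left
    (hprod.trans (Nat.mul_le_mul_right _ (hc.card_le hX'el))) hVpos⟩
  have hX'off : IsOff V p X' := ⟨hX'el, Nat.le_of_mul_le_mul_right
    (hprod.trans (Nat.mul_le_mul_left _ (hc.card_le hPel))) hVpos⟩
  have hPX : P ≤ X := by
    have h1 := hc.card_le (hX.1.sup hPel hPcomm)
    have h2 : fixS V X ≤ fixS V (X ⊔ P) := by
      rw [fixS_sup]
      exact le_inf le_rfl (hCX.trans ((sup_le_sup_left (inf_le_right : b ≤ U) a).trans hCP))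
    have h3 : Nat.card ↥(X ⊔ P) ≤ Nat.card ↥X :=
      Nat.le_of_mul_le_mul_right (((Nat.mul_le_mul_left _ (AddSubgroup.card_le_of_le h2)).trans h1).trans hX.2)
        Nat.card_pos
    exact le_sup_right.trans (Subgroup.eq_of_le_of_card_ge le_sup_left h3).ge
  refine ⟨P, X', hPX, fun e he => he.1, hPoff, fun x hx => hx.1, hX'off, fun x hx => ?_, fun x hx => hx.2,
    fun x hx h => ⟨hx, h⟩⟩
  have h2 : ((φ ⟨x, hx⟩ : ↥P) : H)⁻¹ * x ∈ X' := ⟨mul_mem (inv_mem (hPX (φ ⟨x, hx⟩).2)) hx, fun v hv => by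
    rw [mul_smul, hφ ⟨x, hx⟩ v hv, inv_smul_smul]⟩
  simpa using mul_mem (Subgroup.mem_sup_left (φ ⟨x, hx⟩).2 : ((φ ⟨x, hx⟩ : ↥P) : H) ∈ P ⊔ X')
    (Subgroup.mem_sup_right h2)

/-- A non-trivial offender contains a root. -/
theorem exists_root_le (hF : Frame V p q T r E) (hc : Ctx V p T M) {X : Subgroup H} (hX : IsOff V p X)
    (hne : X ≠ ⊥) : ∃ A ≤ X, Root V p q A := by
  classical
  obtain ⟨A, ⟨hAX, hAne, hAoff⟩, hmin⟩ :=
    (Set.toFinite {Y : Subgroup H | Y ≤ X ∧ Y ≠ ⊥ ∧ IsOff V p Y}).exists_minimal ⟨X, le_rfl, hne, hX⟩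
  have hstrict : ∀ Y : Subgroup H, Y ≤ A → Y ≠ ⊥ → Y ≠ A →
      Nat.card ↥Y * Nat.card ↥(fixS V Y) < Nat.card ↥A * Nat.card ↥(fixS V A) := by
    intro Y hY hYne hYA
    refine lt_of_lt_of_le ?_ hAoff.2
    by_contra hle
    exact hYA (le_antisymm hY (hmin ⟨hY.trans hAX, hYne, hAoff.1.mono hY, not_lt.1 hle⟩ hY))
  have hq : q ≤ Nat.card ↥A := hF.least.min A hAoff.1 hAne hAoff.2
  rcases hq.eq_or_lt with h | h
  · exact ⟨A, hAX, hAoff.1, h.symm, by rw [h]; exact hAoff.2⟩
  exfalso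
  obtain ⟨g, L, hb⟩ := exists_blk hc hAoff hAne hstrict
  -- the block is perfect, so it lies in the product of the components
  obtain ⟨F, iF, iFf, hFcard, -, ⟨θ⟩⟩ := exists_coord hb
  rw [card_conjBy] at hFcard
  have h4 : 4 ≤ Fintype.card F := by
    rw [hFcard]
    obtain ⟨B, hB⟩ := hF.exists_root
    have h2 := hF.least.two_le
    by_contra h4
    obtain ⟨a, ha⟩ := (hAoff.1.pgroup).exists_card_eq
    obtain ⟨b, hb'⟩ := hB.el.pgroup.exists_card_eq
    rw [hB.card] at hb'
    have hq2 : q = 2 := by omega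
    have ha3 : Nat.card ↥A = 3 := by omega
    rw [hq2] at hb'
    rw [ha3] at ha
    have hd : p ∣ 2 := by
      rcases b with _ | b
      · simp at hb'
      · exact hb' ▸ dvd_pow_self p (Nat.succ_ne_zero b)
    have hp2 : p = 2 := (Nat.prime_dvd_prime_iff_eq hp.out Nat.prime_two).1 hd
    rw [hp2] at ha
    rcases a with _ | a
    · simp at ha
    · have : 2 ∣ 3 := ha ▸ dvd_pow_self 2 (Nat.succ_ne_zero a)
      omega
  haveI := hF.normal
  set N : Subgroup H := ⨆ i, E i with hN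
  have hLN : L ≤ N := by
    have hperf : commutator ↥L = ⊤ := by
      have h1 := (CfsgLib.Classical.sl_perfect_and_psl_simple (n := 2) (F := F) le_rfl (by omega)).1
      have h2 := congrArg (Subgroup.map θ.symm.toMonoidHom) h1
      rwa [map_commutator_eq, Subgroup.map_top_of_surjective _ θ.symm.surjective,
        MonoidHom.range_eq_top.2 θ.symm.surjective] at h2
    have hQ := CfsgLib.LS.isPGroup_quotient_of_sup_sylow T N hF.parts.gen
    haveI : Group.IsNilpotent (H ⧸ N) := hQ.isNilpotent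
    set φ : ↥L →* H ⧸ N := (QuotientGroup.mk' N).comp L.subtype
    have h3 : commutator ↥φ.range = ⊤ := by
      have h2 := congrArg (Subgroup.map φ.rangeRestrict) hperf
      rwa [map_commutator_eq, Subgroup.map_top_of_surjective _ φ.rangeRestrict_surjective,
        MonoidHom.range_eq_top.2 φ.rangeRestrict_surjective] at h2
    intro l hl
    by_contra hlN
    haveI : Nontrivial ↥φ.range := by
      refine ⟨⟨φ.rangeRestrict ⟨l, hl⟩, 1, fun h => hlN ?_⟩⟩
      exact (QuotientGroup.eq_one_iff l).1 (congrArg Subtype.val h)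
    exact (IsSolvable.commutator_lt_top_of_nontrivial ↥φ.range).ne h3
  have hAN : A ≤ N := by
    intro a ha
    have h1 : g * a * g⁻¹ ∈ N := hLN (hb.le (conj_mem_conjBy ha))
    simpa [mul_assoc] using (Subgroup.Normal.conj_mem inferInstance _ h1 g⁻¹)
  have hsep : ∀ a ∈ A, a ≠ 1 → ∀ v : V, a • v = v → v ∈ fixS V A := by
    intro a ha ha1 v hv
    have h1 := hb.sep (a := g * a * g⁻¹) (conj_mem_conjBy ha) (fun e => ha1 (conj_eq_one_iff.1 e)) (v := g • v) (by
      rw [← mul_smul, show g * a * g⁻¹ * g = g * a by group, mul_smul, hv, sub_self]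
      exact zero_mem _)
    rwa [fixS_conjBy, mem_tr, inv_smul_smul] at h1
  -- some projection is non-trivial, hence is all of `A`
  have hall : ∀ i, ¬ A ≤ E i := fun i hi => (hF.small i A hAoff.1 hAne hi hsep).not_gt h
  refine hAne ((Subgroup.eq_bot_iff_forall A).2 fun a ha => hc.faith a fun v => ?_)
  have hstab : fixS V N ⊔ (⨆ i, commS V (E i)) ≤
      ({ carrier := {v | a • v = v}
         zero_mem' := smul_zero a
         add_mem' := fun {x y} (hx : a • x = x) (hy : a • y = y) => by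
           show a • (x + y) = x + y
           rw [smul_add, hx, hy]
         neg_mem' := fun {x} (hx : a • x = x) => by
           show a • (-x) = -x
           rw [smul_neg, hx] } : AddSubgroup V) := by
    refine sup_le (fun v hv => hv a (hAN ha)) (iSup_le fun i w hw => ?_)
    obtain ⟨P, X', hPA, hPi, hPoff, hX'A, -, hsup, hfixX', -⟩ :=
      hF.split_step hc i hAoff (hAN.trans (hF.iSup_le_inner i))
    by_cases hP : P = ⊥
    · exact hfixX' a (by simpa [hP] using hsup ha) w hw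
    · exact absurd ((hmin ⟨hPA.trans hAX, hP, hPoff⟩ hPA).trans hPi) (hall i)
  exact hstab (hF.parts.span ▸ AddSubgroup.mem_top v : v ∈ fixS V N ⊔ ⨆ i, commS V (E i))

/-- Every offender lies in the product of the components. -/
theorem le_iSup (hF : Frame V p q T r E) (hc : Ctx V p T M) :
    ∀ (n : ℕ) (X : Subgroup H), Nat.card ↥X ≤ n → IsOff V p X → X ≤ ⨆ i, E i := by
  intro n
  induction n with
  | zero => exact fun X h => absurd h (not_le.2 Nat.card_pos)
  | succ n ih =>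
    intro X hn hX
    by_cases hne : X = ⊥
    · rw [hne]; exact bot_le
    obtain ⟨A, hAX, hA⟩ := hF.exists_root_le hc hX hne
    obtain ⟨i, hi⟩ := hF.covered A hA
    have hin : X ≤ hF.inner i := by
      intro x hx
      have hnorm : conjBy x (E i) = E i := by
        obtain ⟨j, hj⟩ := hF.parts.perm x i
        have hAj : A ≤ E j := fun a ha => hj ▸ (by
          have h1 : x * a * x⁻¹ = a := by rw [hX.1.comm x hx a (hAX ha), mul_inv_cancel_right]
          exact h1 ▸ conj_mem_conjBy (g := x) (hi ha))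
        rw [hj, hF.index_unique hA hi hAj]
      exact ⟨hnorm, hF.auto i A hA hi x (hX.1.pow x hx) (fun a ha => hX.1.comm x hx a (hAX ha)) hnorm⟩
    obtain ⟨P, X', -, hPi, -, hX'X, hX'off, hsup, hfix, -⟩ := hF.split_step hc i hX hin
    have hlt : Nat.card ↥X' ≤ n := by
      refine Nat.lt_succ_iff.1 ((lt_of_le_of_ne (Subgroup.card_le_of_le hX'X) fun he => ?_).trans_le hn)
      have hXX' := Subgroup.eq_of_le_of_card_ge hX'X he.ge
      refine hA.ne_bot hF.least ((Subgroup.eq_bot_iff_forall A).2 fun a ha => hF.eq_one hc (hi ha) ?_)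
      exact hfix a (hXX' ▸ hAX ha)
    exact hsup.trans (sup_le (hPi.trans (_root_.le_iSup E i)) (ih X' hlt hX'off))

/-- A normal subgroup with a non-trivial offender contains all components. -/
theorem iSup_le_normal (hF : Frame V p q T r E) (hc : Ctx V p T M) {K : Subgroup H} [K.Normal]
    {X : Subgroup H} (hX : IsOff V p X) (hne : X ≠ ⊥) (hXK : X ≤ K) : (⨆ i, E i) ≤ K := by
  obtain ⟨A, hAX, hA⟩ := hF.exists_root_le hc hX hne
  obtain ⟨i, hi⟩ := hF.covered A hA
  have hiK : E i ≤ K := hF.gen i A hA hi K fun g _ => by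
    rintro _ ⟨a, ha, rfl⟩
    exact Subgroup.Normal.conj_mem inferInstance a (hXK (hAX ha)) g
  refine iSup_le fun j => ?_
  obtain ⟨t, -, ht⟩ := hF.parts.trans i j
  rw [← ht]
  rintro _ ⟨x, hx, rfl⟩
  exact Subgroup.Normal.conj_mem inferInstance x (hiK hx) t

end Frame

end CfsgLib.CFun.MinParab.Off
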