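import Cfsg.Agent.Lib.CFun.MinParab.Block

/-!
# Members at different points

Two members at different points have fixed spaces of the same size meeting in the fixed points of a block, so
all members have the same order and all blocks fixed spaces of the same order. The lines of a block cut the
fixed space `W_B` of another member in a partition, giving `|W_A ∩ W_B| = |A| |W_B ∩ Z|`.
-/

set_option autoImplicit false
set_option linter.unusedSectionVars false
set_option linter.style.haveILetI false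

open CfsgLib.Char.NatSL (fixS mem_fixS fixS_mono fixS_conj tr mem_tr card_tr smul_mem_tr card_sup_mul_card_inf)
open CfsgLib.Fusion (conjBy mem_conjBy conj_mem_conjBy conjBy_le_iff conjBy_conjBy_inv conjBy_inv_conjBy
  conjBy_mono)
open CfsgLib.CFun.OffenderPair (fixS_sup)

namespace CfsgLib.CFun.MinParab

variable {H : Type*} [Group H] [Finite H] {V : Type*} [AddCommGroup V] [Finite V] [DistribMulAction H V] {p : ℕ}
  [hp : Fact p.Prime] {T : Sylow p H} {M A B L R₀ : Subgroup H} {S : Set (Subgroup H)}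

omit [Finite H] [Finite V] in
theorem fixS_conjBy (x : H) (X : Subgroup H) : fixS V (conjBy x X) = tr x (fixS V X) := fixS_conj x X

omit [Finite H] [Finite V] in
theorem Loc.conjBy_le_H₀ (hB : Mem S M R₀ B) {x : H} (hx : x ∈ Subgroup.normalizer (R₀ : Set H)) :
    conjBy x B ≤ Subgroup.normalizer (R₀ : Set H) :=
  conjBy_le_iff.2 fun _ hb => mul_mem (mul_mem hx (hB.2.2.1 hb)) (inv_mem hx)

/-- A block inside the subgroup generated by two members at different points. -/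
theorem Loc.exists_opp_blk (hl : Loc V p T M S R₀) (hA : Mem S M R₀ A) (hB : Mem S M R₀ B) {x : H}
    (hx : x ∈ Subgroup.normalizer (R₀ : Set H)) (hxM : x ∉ M) :
    ∃ L, L ≤ A ⊔ conjBy x B ∧ L ≤ Subgroup.normalizer (R₀ : Set H) ∧ NatBlk V p M A L := by
  obtain ⟨L, hL, hb⟩ := hl.nat A hA (A ⊔ conjBy x B) (sup_le hA.2.2.1 (Loc.conjBy_le_H₀ hB hx)) le_sup_left
    fun h => hxM (hl.one B hB x hx (le_sup_right.trans h))
  exact ⟨L, hL, hL.trans (sup_le hA.2.2.1 (Loc.conjBy_le_H₀ hB hx)), hb⟩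

omit [Finite H] [Finite V] in
theorem inf_tr_le {x : H} (h : L ≤ A ⊔ conjBy x B) :
    fixS V A ⊓ tr x (fixS V B) ≤ fixS V L := by
  rw [← fixS_conjBy, ← fixS_sup]
  exact fixS_mono h

theorem Loc.card_W_le (hl : Loc V p T M S R₀) (hA : Mem S M R₀ A) (hB : Mem S M R₀ B) {x : H}
    (hx : x ∈ Subgroup.normalizer (R₀ : Set H)) (hxM : x ∉ M) :
    Nat.card ↥(fixS V B) ≤ Nat.card ↥(fixS V A) := by
  obtain ⟨L, hL, -, hb⟩ := hl.exists_opp_blk hA hB hx hxM
  have h1 := card_sup_mul_card_inf (fixS V A) (tr x (fixS V B))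
  rw [card_tr] at h1
  have h2 : Nat.card ↥(fixS V A ⊔ tr x (fixS V B)) ≤ Nat.card V := AddSubgroup.card_le_card_addGroup _
  have h3 : Nat.card ↥(fixS V A ⊓ tr x (fixS V B)) ≤ Nat.card ↥(fixS V L) :=
    AddSubgroup.card_le_of_le (inf_tr_le hL)
  refine Nat.le_of_mul_le_mul_left (?_ : Nat.card ↥(fixS V A) * _ ≤ Nat.card ↥(fixS V A) * _) Nat.card_pos
  rw [← h1]
  refine (Nat.mul_le_mul h2 h3).trans (le_of_eq ?_)
  rw [hb.card_V, hb.card_W]
  ring

theorem Loc.card_W_eq (hl : Loc V p T M S R₀) (hA : Mem S M R₀ A) (hB : Mem S M R₀ B) :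
    Nat.card ↥(fixS V A) = Nat.card ↥(fixS V B) := by
  obtain ⟨x, hx, hxM⟩ := SetLike.not_le_iff_exists.1 hl.notM
  have hx' : x⁻¹ ∈ Subgroup.normalizer (R₀ : Set H) := inv_mem hx
  exact le_antisymm (hl.card_W_le hB hA hx' fun h => hxM (by simpa using inv_mem h)) (hl.card_W_le hA hB hx hxM)

theorem Loc.exists_blk (hl : Loc V p T M S R₀) (hA : Mem S M R₀ A) :
    ∃ L, L ≤ Subgroup.normalizer (R₀ : Set H) ∧ NatBlk V p M A L :=
  let ⟨L, hL, hb⟩ := hl.nat A hA _ le_rfl hA.2.2.1 hl.notM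
  ⟨L, hL, hb⟩

theorem Loc.card_eq (hl : Loc V p T M S R₀) (hA : Mem S M R₀ A) (hB : Mem S M R₀ B) :
    Nat.card ↥A = Nat.card ↥B := by
  obtain ⟨L, -, hb⟩ := hl.exists_blk hA
  obtain ⟨L', -, hb'⟩ := hl.exists_blk hB
  have h := hb.card_V
  rw [hb'.card_V, hl.card_W_eq hA hB] at h
  exact (Nat.eq_of_mul_eq_mul_right Nat.card_pos h).symm

theorem Loc.card_Z_eq (hl : Loc V p T M S R₀) (hA : Mem S M R₀ A) (hB : Mem S M R₀ B) {L L' : Subgroup H}
    (hb : NatBlk V p M A L) (hb' : NatBlk V p M B L') :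
    Nat.card ↥(fixS V L) = Nat.card ↥(fixS V L') := by
  have h := hb.card_W
  rw [hl.card_W_eq hA hB, hb'.card_W, hl.card_eq hA hB] at h
  exact (Nat.eq_of_mul_eq_mul_left Nat.card_pos h).symm

/-- The fixed spaces of two members at different points meet in the fixed points of the block. -/
theorem Loc.opp_inf (hl : Loc V p T M S R₀) (hA : Mem S M R₀ A) (hB : Mem S M R₀ B) {x : H}
    (hL : L ≤ A ⊔ conjBy x B) (hb : NatBlk V p M A L) :
    fixS V A ⊓ tr x (fixS V B) = fixS V L := by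
  refine AddSubgroup.eq_of_le_of_card_ge (inf_tr_le hL) ?_
  have h1 := card_sup_mul_card_inf (fixS V A) (tr x (fixS V B))
  rw [card_tr, ← hl.card_W_eq hA hB] at h1
  refine Nat.le_of_mul_le_mul_left (?_ : Nat.card V * _ ≤ Nat.card V * _) Nat.card_pos
  calc Nat.card V * Nat.card ↥(fixS V L) = Nat.card ↥(fixS V A) * Nat.card ↥(fixS V A) := by
        rw [hb.card_V, hb.card_W]; ring
    _ ≤ _ := h1 ▸ Nat.mul_le_mul_right _ (AddSubgroup.card_le_card_addGroup _)

/-- The size of the meet of the fixed spaces of two members at different points. -/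
theorem Loc.card_opp_inf (hl : Loc V p T M S R₀) (hA : Mem S M R₀ A) (hB : Mem S M R₀ B) {x : H}
    (hx : x ∈ Subgroup.normalizer (R₀ : Set H)) (hxM : x ∉ M) {C : Subgroup H} (hC : Mem S M R₀ C)
    {L : Subgroup H} (hb : NatBlk V p M C L) :
    Nat.card ↥(fixS V A ⊓ tr x (fixS V B)) = Nat.card ↥(fixS V L) := by
  obtain ⟨L', hL', -, hb'⟩ := hl.exists_opp_blk hA hB hx hxM
  rw [hl.opp_inf hA hB hL' hb', hl.card_Z_eq hA hC hb' hb]

omit [Finite H] in
theorem card_split (K K' : AddSubgroup V) :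
    ((K : Set V) \ (K' : Set V)).ncard + Nat.card ↥(K ⊓ K') = Nat.card ↥K := by
  change _ + Nat.card ((K ⊓ K' : AddSubgroup V) : Set V) = Nat.card (K : Set V)
  rw [Nat.card_coe_set_eq, Nat.card_coe_set_eq, AddSubgroup.coe_inf, add_comm,
    Set.ncard_inter_add_ncard_sdiff_eq_ncard _ _ (Set.toFinite _)]

/-- The count of a fixed space along the lines of a block. -/
theorem Loc.inter_card (hl : Loc V p T M S R₀) (hA : Mem S M R₀ A) (hB : Mem S M R₀ B)
    (hb : NatBlk V p M A L) (hLH : L ≤ Subgroup.normalizer (R₀ : Set H)) :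
    Nat.card ↥(fixS V A ⊓ fixS V B) = Nat.card ↥A * Nat.card ↥(fixS V B ⊓ fixS V L) := by
  classical
  letI : Fintype ↥A := Fintype.ofFinite _
  obtain ⟨x, hx, hxM⟩ := hb.exists_notMem
  set W := fixS V A with hW
  set W' := fixS V B with hW'
  set Z := fixS V L with hZ
  let F : ↥A → Set V := fun a => ((W' ⊓ tr ((a : H) * x) W : AddSubgroup V) : Set V) \ (Z : Set V)
  have hax : ∀ a : ↥A, (a : H) * x ∈ L := fun a => L.mul_mem (hb.le a.2) hx
  have haxM : ∀ a : ↥A, (a : H) * x ∉ M := fun a h => hxM (by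
    simpa using M.mul_mem (M.inv_mem (hb.aM a.2)) h)
  have hZtr : ∀ a : ↥A, Z ≤ tr ((a : H) * x) W := fun a v hv => by
    rw [mem_tr, mem_fixS.1 hv _ (L.inv_mem (hax a))]
    exact hb.Z_le hv
  have hF : ∀ a : ↥A, (F a).ncard + Nat.card ↥(W' ⊓ Z) = Nat.card ↥Z := fun a => by
    have h1 := card_split (W' ⊓ tr ((a : H) * x) W) Z
    rw [hl.card_opp_inf hB hA (hLH (hax a)) (haxM a) hA hb] at h1
    have e : W' ⊓ tr ((a : H) * x) W ⊓ Z = W' ⊓ Z := by
      rw [inf_assoc, inf_eq_right.2 (hZtr a)]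
    rwa [e] at h1
  have hU : (W' : Set V) \ (W : Set V) = ⋃ a : ↥A, F a := by
    ext v
    simp only [Set.mem_iUnion, F, Set.mem_sdiff, SetLike.mem_coe, AddSubgroup.mem_inf]
    constructor
    · rintro ⟨hv', hv⟩
      obtain ⟨a, ha', hm⟩ := hb.line hx hxM hv
      exact ⟨⟨a, ha'⟩, ⟨hv', hm⟩, fun h => hv (hb.Z_le h)⟩
    · rintro ⟨a, ⟨hv', hm⟩, hvZ⟩
      exact ⟨hv', fun h => hvZ ((hb.inf (hax a) (haxM a)).le ⟨h, hm⟩)⟩
  have hdisj : Pairwise (Function.onFun Disjoint F) := fun a a' hne => by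
    refine Set.disjoint_left.2 fun v hv hv' => hv.2 ?_
    refine hb.meet (hax a) (hax a') (fun h => ?_) hv.1.2 hv'.1.2
    have h1 : (a : H)⁻¹ * a' ≠ 1 := fun h1 => hne (Subtype.ext (inv_mul_eq_one.1 h1))
    refine hb.free hx hxM (A.mul_mem (A.inv_mem a.2) a'.2) h1 ?_
    simpa [mul_assoc] using h
  have h1 := card_split W' W
  rw [hU, Set.ncard_iUnion_of_finite (fun a => Set.toFinite _) hdisj, finsum_eq_sum_of_fintype,
    Finset.sum_congr rfl (fun a _ => show (F a).ncard = Nat.card ↥Z - Nat.card ↥(W' ⊓ Z) by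
      have := hF a; omega),
    Finset.sum_const, Finset.card_univ, ← Nat.card_eq_fintype_card, smul_eq_mul, inf_comm W' W,
    hW', ← hl.card_W_eq hA hB, hb.card_W, ← hW', ← hZ] at h1
  have h2 : Nat.card ↥(W' ⊓ Z) ≤ Nat.card ↥Z := AddSubgroup.card_le_of_le inf_le_right
  obtain ⟨e, he⟩ := Nat.exists_eq_add_of_le h2
  rw [he, Nat.add_sub_cancel_left, mul_add] at h1
  omega

end CfsgLib.CFun.MinParab
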