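import Cfsg.Agent.Lib.CFun.MinParab.Unique

/-!
# The members in the Sylow subgroup

All members in `T` other than the one `A` outside `R₀` lie in `R₀`; if `A` has prime order, a block at `A`
contains every member of `N(R₀)` outside `R₀`.
-/

set_option autoImplicit false
set_option linter.unusedSectionVars false
set_option linter.style.haveILetI false

open CfsgLib.Char.NatSL (fixS mem_fixS fixS_mono tr mem_tr card_tr smul_mem_tr)
open CfsgLib.Fusion (conjBy mem_conjBy conj_mem_conjBy conjBy_le_iff conjBy_eq_iff conjBy_conjBy_inv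
  conjBy_inv_conjBy conjBy_mono card_conjBy conjBy_normalizer)
open CfsgLib.CFun.OffenderPair (gen gen_le le_gen gen_mono gen_gen normalizer_le_normalizer_gen chainStab)

namespace CfsgLib.CFun.MinParab

variable {H : Type*} [Group H] [Finite H] {V : Type*} [AddCommGroup V] [Finite V] [DistribMulAction H V] {p : ℕ}
  [hp : Fact p.Prime] {T : Sylow p H} {M A B L R₀ : Subgroup H} {S : Set (Subgroup H)}

omit [Finite V] in
/-- A `p`-group normalizing a non-trivial `p`-group centralizes a non-trivial element. -/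
theorem exists_central {Q : Subgroup H} (hQ : IsPGroup p Q) (hA : IsPGroup p A) (hne : A ≠ ⊥)
    (hQA : Q ≤ Subgroup.normalizer (A : Set H)) : ∃ a ∈ A, a ≠ 1 ∧ ∀ g ∈ Q, g * a = a * g := by
  haveI : Nontrivial ↥A := (Subgroup.nontrivial_iff_ne_bot A).2 hne
  obtain ⟨k, hk0, hk⟩ := hA.nontrivial_iff_card.1 inferInstance
  letI act : MulAction ↥Q ↥A :=
    { smul := fun g a => ⟨(g : H) * a * (g : H)⁻¹, (Subgroup.mem_normalizer_iff.1 (hQA g.2) _).1 a.2⟩
      one_smul := fun a => Subtype.ext (show (1 : H) * a * (1 : H)⁻¹ = a by simp)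
      mul_smul := fun g h a => Subtype.ext (show ((g : H) * h) * a * ((g : H) * h)⁻¹ =
        (g : H) * ((h : H) * a * (h : H)⁻¹) * (g : H)⁻¹ by group) }
  have h1 : (1 : ↥A) ∈ MulAction.fixedPoints ↥Q ↥A := fun g =>
    Subtype.ext (show (g : H) * 1 * (g : H)⁻¹ = 1 by simp)
  obtain ⟨a, ha, hane⟩ := hQ.exists_fixed_point_of_prime_dvd_card_of_fixed_point _
    (hk ▸ dvd_pow_self p hk0.ne' : p ∣ Nat.card ↥A) h1
  refine ⟨a, a.2, fun h => hane (Subtype.ext h.symm), fun g hg => ?_⟩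
  have h2 : (⟨g, hg⟩ : ↥Q) • a = a := ha _
  exact mul_inv_eq_iff_eq_mul.1 (congrArg Subtype.val h2)

/-- All members in `T` other than `A` lie in `R₀`. -/
theorem Loc.orbit (hl : Loc V p T M S R₀) (ha : Amb V p T M) (hA : Mem S M R₀ A)
    (hAT : A ≤ (T : Subgroup H)) (B₀ : Subgroup H) (hB₀ : B₀ ∈ S) (hB₀T : B₀ ≤ (T : Subgroup H)) :
    B₀ = A ∨ B₀ ≤ R₀ := by
  classical
  set P : Subgroup H := (T : Subgroup H) with hP
  set H₀ := Subgroup.normalizer (R₀ : Set H) with hH₀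
  set TH := P ⊓ H₀ with hTH
  have hTHp : IsPGroup p TH := T.2.to_le inf_le_left
  have hATH : A ≤ TH := le_inf hAT hA.2.2.1
  have hcase : ∀ D ∈ S, D ≤ TH → D = A ∨ D ≤ R₀ := fun D hD hDT =>
    (em (D ≤ R₀)).elim Or.inr fun h =>
      Or.inl (hl.eq_of_pgroup ha hTHp inf_le_right hD h hDT hA.1 hA.2.2.2 hATH)
  by_cases hB₀TH : B₀ ≤ TH
  · exact hcase B₀ hB₀ hB₀TH
  exfalso
  set R₁ := gen S TH with hR₁
  have hR₀1 : R₀ ≤ R₁ := hl.gen_R₀ ▸ gen_mono S (le_inf hl.R₀_le Subgroup.le_normalizer)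
  have hAR₁ : A ≤ R₁ := le_gen hA.1 hATH
  set N₁ := P ⊓ Subgroup.normalizer (R₁ : Set H) with hN₁
  have hTN : TH ≤ N₁ :=
    le_inf inf_le_left (Subgroup.le_normalizer.trans (normalizer_le_normalizer_gen hl.conj_mem TH))
  obtain ⟨B, hB, hBN, hBTH⟩ : ∃ B ∈ S, B ≤ N₁ ∧ ¬ B ≤ TH := by
    by_contra! h
    have hg : gen S N₁ = R₁ := le_antisymm (sSup_le fun D hD => le_gen hD.1 (h D hD.1 hD.2)) (gen_mono S hTN)
    have hNP : N₁ = P := by
      by_contra hne
      haveI : Group.IsNilpotent P := T.2.isNilpotent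
      refine (CfsgLib.Fusion.lt_inf_normalizer (inf_le_left : N₁ ≤ P) hne).not_ge (le_inf inf_le_left ?_)
      exact inf_le_right.trans ((normalizer_le_normalizer_gen hl.conj_mem N₁).trans (by rw [hg]))
    exact hB₀TH (((le_gen hB₀ (hNP ▸ hB₀T)).trans hg.le).trans (gen_le S TH))
  obtain ⟨b, hbB, hbA⟩ : ∃ b ∈ B, b ∉ Subgroup.normalizer (A : Set H) := by
    by_contra! h
    refine hBTH (le_inf (hBN.trans inf_le_left) fun b hb => ?_)
    have h1 : conjBy b R₀ ≤ R₀ := by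
      conv_lhs => rw [← hl.gen_R₀, ← CfsgLib.CFun.OffenderPair.gen_conjBy hl.conj_mem]
      refine sSup_le fun D hD => ?_
      rcases hcase D hD.1 ((hD.2.trans ((conjBy_mono hR₀1).trans (conjBy_eq_iff.2 (hBN hb).2).le)).trans
        (gen_le S TH)) with h2 | h2
      · exfalso
        refine hA.2.2.2 ?_
        have h3 := hD.2
        rw [h2, ← conjBy_eq_iff.2 (h b hb)] at h3
        exact (conjBy_inv_conjBy b A).ge.trans ((conjBy_mono h3).trans (conjBy_inv_conjBy b R₀).le)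
      · exact h2
    exact conjBy_eq_iff.1 (Subgroup.eq_of_le_of_card_ge h1 (card_conjBy b R₀).ge)
  have hmove : ∀ c ∈ B, c ∉ Subgroup.normalizer (A : Set H) → conjBy c A ≤ R₀ := fun c hc hcA =>
    (hcase _ (hl.conj_mem A hA.1 c)
      (((conjBy_mono hAR₁).trans (conjBy_eq_iff.2 (hBN hc).2).le).trans (gen_le S TH))).elim
      (fun h => absurd (conjBy_eq_iff.1 h) hcA) id
  obtain ⟨L, hLH, hb⟩ := hl.exists_blk hA
  obtain ⟨hRZ, hNR, hRL⟩ := hl.block_centralizes ha hA hb (T.2.to_le hl.R₀_le) Subgroup.le_normalizer hLH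
  set B₁ := B ⊓ Subgroup.normalizer (A : Set H) with hB₁
  have hB₁p : IsPGroup p B₁ := (hl.el B hB).pgroup.to_le inf_le_left
  obtain ⟨a₀, ha₀, ha₀1, hcomm⟩ := exists_central hB₁p (hl.el A hA.1).pgroup (hl.minoff A hA.1).ne_bot inf_le_right
  obtain ⟨v, hv, hvfix⟩ := exists_fixed_mod ha.vp hB₁p (X := fixS V A)
    (fun g hg w hw => smul_mem_fixS hg.2 hw)
    (fun h => by
      obtain ⟨u, hu⟩ := hb.exists_notW
      exact hu (h ▸ AddSubgroup.mem_top u))
  set n := a₀ • v - v with hn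
  have hnZ : n ∉ fixS V L := fun h => hv (hb.sep ha₀ ha₀1 h)
  have hnW : n ∈ fixS V A := hb.quadratic ha₀ v
  have hnN : n ∈ commS V L := sub_mem_commS (hb.le ha₀) v
  have hmoven : ∀ c ∈ B, c ∉ Subgroup.normalizer (A : Set H) → c • n ∈ fixS V L := fun c hc hcA => by
    have h1 := hRZ (sub_mem_commS (hmove c hc hcA (conj_mem_conjBy ha₀)) (c • v))
    rw [← mul_smul, inv_mul_cancel_right, mul_smul, ← smul_sub] at h1
    exact h1
  have hBq : ∀ c ∈ B, ∀ c' ∈ B, c' • (c • n - n) = c • n - n := fun c hc c' hc' =>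
    mem_fixS.1 ((hl.minoff B hB).quadratic ha.vp' hc n) c' hc'
  -- the prime is two
  have hp2 : p = 2 := by
    by_contra h2
    obtain ⟨m, hm⟩ := hp.out.odd_of_ne_two h2
    have hb2 : b * b ∉ Subgroup.normalizer (A : Set H) := fun h => hbA (by
      have h1 := Subgroup.pow_mem _ h (m + 1)
      rwa [← pow_two, ← pow_mul, show 2 * (m + 1) = p + 1 by omega, pow_succ, (hl.el B hB).pow b hbB,
        one_mul] at h1)
    have h1 := hBq b hbB b hbB
    rw [smul_sub, ← mul_smul] at h1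
    refine hnZ ?_
    rw [show n = b • n + b • n - (b * b) • n by linear_combination (norm := abel) h1]
    exact AddSubgroup.sub_mem _ (AddSubgroup.add_mem _ (hmoven b hbB hbA) (hmoven b hbB hbA))
      (hmoven _ (B.mul_mem hbB hbB) hb2)
  subst hp2
  have hbb : b * b = 1 := by rw [← pow_two]; exact (hl.el B hB).pow b hbB
  have hsplit : ∀ c ∈ B, c ∈ B₁ ∨ b * c ∈ B₁ := by
    intro c hc
    by_contra! hno
    have hc1 : c ∉ Subgroup.normalizer (A : Set H) := fun h => hno.1 ⟨hc, h⟩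
    have hc2 : b * c ∉ Subgroup.normalizer (A : Set H) := fun h => hno.2 ⟨B.mul_mem hbB hc, h⟩
    have h1 := hBq c hc b hbB
    rw [smul_sub, ← mul_smul] at h1
    refine hnZ ?_
    rw [show n = c • n + b • n - (b * c) • n by linear_combination (norm := abel) h1]
    exact AddSubgroup.sub_mem _ (AddSubgroup.add_mem _ (hmoven c hc hc1) (hmoven b hbB hbA))
      (hmoven _ (B.mul_mem hbB hc) hc2)
  have hB2 : Nat.card ↥B ≤ 2 * Nat.card ↥B₁ := by
    let f : ↥B₁ ⊕ ↥B₁ → ↥B := Sum.elim (fun c => ⟨c, c.2.1⟩) fun c => ⟨b * c, B.mul_mem hbB c.2.1⟩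
    have hf : Function.Surjective f := fun c => by
      rcases hsplit c c.2 with h | h
      · exact ⟨Sum.inl ⟨c, h⟩, rfl⟩
      · exact ⟨Sum.inr ⟨_, h⟩, Subtype.ext (show b * (b * (c : H)) = c by rw [← mul_assoc, hbb, one_mul])⟩
    have := Nat.card_le_card_of_surjective f hf
    rw [Nat.card_sum] at this
    omega
  have hoff := (hl.minoff B hB).off
  have hnB : n ∉ fixS V B := fun h => hnZ (mem_fixS.1 h b hbB ▸ hmoven b hbB hbA)
  by_cases hB₁bot : B₁ = ⊥
  · -- the fixed space of `B` has index two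
    rw [hB₁bot, Subgroup.card_bot, mul_one] at hB2
    obtain ⟨x, hx, hxM⟩ := hb.exists_notMem
    have hxnW : x • n ∉ fixS V A := fun h => hnZ (by
      have h1 := (hb.inf hx hxM).le ⟨h, smul_mem_tr hnW⟩
      have h2 := mem_fixS.1 h1 _ (L.inv_mem hx)
      rw [inv_smul_smul] at h2
      exact h2 ▸ h1)
    have hbxn : b • x • n ∈ fixS V A := fun a haA => by
      have h1 : b⁻¹ * a * b ∈ R₀ := by
        have h2 := hmove b⁻¹ (B.inv_mem hbB) (fun h => hbA (by simpa using inv_mem h))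
          (conj_mem_conjBy haA)
        simpa using h2
      have e : (b⁻¹ * a * b) • x • n = x • n := by
        rw [← mul_smul, hRL _ h1 x hx, mul_smul, mem_fixS.1 (hNR hnN) _ h1]
      conv_rhs => rw [← e]
      rw [← mul_smul, ← mul_smul, ← mul_smul, ← mul_smul]
      congr 1
      group
    have hxnB : x • n ∉ fixS V B := fun h => hxnW (mem_fixS.1 h b hbB ▸ hbxn)
    have hidx : (fixS V B).index = 2 := by
      have h1 := (fixS V B).index_mul_card
      have h2 : (fixS V B).index * Nat.card ↥(fixS V B) ≤ 2 * Nat.card ↥(fixS V B) :=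
        h1.le.trans (hoff.trans (Nat.mul_le_mul_right _ hB2))
      have h3 := Nat.le_of_mul_le_mul_right h2 Nat.card_pos
      have h4 : (fixS V B).index ≠ 0 := AddSubgroup.index_ne_zero_of_finite
      have h5 : (fixS V B).index ≠ 1 := fun h => hnB (AddSubgroup.index_eq_one.1 h ▸ AddSubgroup.mem_top n)
      omega
    have hsum : x • n + n ∈ fixS V B :=
      (AddSubgroup.add_mem_iff_of_index_two hidx).2 (iff_of_false hxnB hnB)
    have h1 := mem_fixS.1 hsum b hbB
    rw [smul_add] at h1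
    refine hxnW ?_
    rw [show x • n = b • x • n + b • n - n by linear_combination (norm := abel) -h1]
    exact AddSubgroup.sub_mem _ (AddSubgroup.add_mem _ hbxn (hb.Z_le (hmoven b hbB hbA))) hnW
  · have hnB₁ : n ∈ fixS V B₁ := fun c hc => by
      have e1 : c • v - v ∈ fixS V A := hvfix c hc
      have e2 := mem_fixS.1 e1 a₀ ha₀
      rw [smul_sub] at e2
      rw [hn, smul_sub, ← mul_smul, hcomm c hc, mul_smul]
      linear_combination (norm := abel) e2
    have hBB₁ : B₁ ≠ B := fun h => hbA ((h.symm ▸ hbB : b ∈ B₁)).2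
    have hmin := (hl.minoff B hB).min B₁ inf_le_left hB₁bot hBB₁
    obtain ⟨k, hk⟩ := AddSubgroup.card_dvd_of_le (fixS_mono (V := V) (inf_le_left : B₁ ≤ B))
    have hk2 : 2 ≤ k := by
      rcases Nat.lt_or_ge k 2 with h | h
      · exfalso
        interval_cases k
        · exact (Nat.card_pos (α := ↥(fixS V B₁))).ne' (by rw [hk, mul_zero])
        · rw [mul_one] at hk
          exact hnB (AddSubgroup.eq_of_le_of_card_ge (fixS_mono inf_le_left) hk.le ▸ hnB₁)
      · exact h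
    rw [hk] at hmin
    have h1 := hoff.trans (Nat.mul_le_mul_right _ hB2)
    nlinarith [Nat.mul_le_mul_left (Nat.card ↥B₁ * Nat.card ↥(fixS V B)) hk2]

/-- An element of `T` fixing `A` normalizes `R₀`. -/
theorem Loc.mem_H₀ (hl : Loc V p T M S R₀) (ha : Amb V p T M) (hA : Mem S M R₀ A)
    (hAT : A ≤ (T : Subgroup H)) {u : H} (hu : u ∈ (T : Subgroup H))
    (huA : u ∈ Subgroup.normalizer (A : Set H)) : u ∈ Subgroup.normalizer (R₀ : Set H) := by
  refine conjBy_eq_iff.1 (Subgroup.eq_of_le_of_card_ge ?_ (card_conjBy u R₀).ge)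
  conv_lhs => rw [← hl.gen_R₀, ← CfsgLib.CFun.OffenderPair.gen_conjBy hl.conj_mem]
  refine sSup_le fun D hD => ?_
  have hDT : D ≤ (T : Subgroup H) := hD.2.trans ((conjBy_mono hl.R₀_le).trans
    (conjBy_le_iff.2 fun t ht => mul_mem (mul_mem hu ht) (inv_mem hu)))
  rcases hl.orbit ha hA hAT D hD.1 hDT with h | h
  · exfalso
    refine hA.2.2.2 ?_
    have h3 := hD.2
    rw [h, ← conjBy_eq_iff.2 huA] at h3
    exact (conjBy_inv_conjBy u A).ge.trans ((conjBy_mono h3).trans (conjBy_inv_conjBy u R₀).le)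
  · exact h

/-- Two members of `N(R₀)` outside `R₀`, one fixing the commutator of the other, are equal. -/
theorem Loc.eq_of_commS_le (hl : Loc V p T M S R₀) (ha : Amb V p T M) {D E : Subgroup H} (hD : D ∈ S)
    (hDH : D ≤ Subgroup.normalizer (R₀ : Set H)) (hDR : ¬ D ≤ R₀) (hE : E ∈ S)
    (hEH : E ≤ Subgroup.normalizer (R₀ : Set H)) (hER : ¬ E ≤ R₀) (h : commS V E ≤ fixS V D) : D = E := by
  set W := fixS V D with hW
  have hDc : D ≤ chainStab W := fun d hd =>
    ⟨fun w hw => mem_fixS.1 hw d hd, fun v => (hl.minoff D hD).quadratic ha.vp' hd v⟩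
  have hEW : ∀ e ∈ E, ∀ w ∈ W, e • w ∈ W := fun e he w hw => by
    have := W.add_mem (h (sub_mem_commS he w)) hw
    rwa [sub_add_cancel] at this
  have key : ∀ e ∈ E, ∀ g ∈ chainStab (H := H) W, e * g * e⁻¹ ∈ chainStab W := fun e he g hg => by
    refine ⟨fun w hw => ?_, fun v => ?_⟩
    · rw [mul_smul, mul_smul, hg.1 _ (hEW _ (E.inv_mem he) w hw), smul_inv_smul]
    · have h1 := hEW e he _ (hg.2 (e⁻¹ • v))
      rw [smul_sub, smul_inv_smul] at h1
      rwa [mul_smul, mul_smul]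
  have hn : E ≤ Subgroup.normalizer (chainStab (H := H) W : Set H) := fun e he =>
    Subgroup.mem_normalizer_iff.2 fun g => ⟨key e he g, fun hg => by
      have := key _ (E.inv_mem he) _ hg
      simpa [mul_assoc] using this⟩
  have hp' : IsPGroup p (chainStab (H := H) W) := fun g =>
    ⟨1, Subtype.ext (by rw [pow_one]; exact chain_pow ha.vp ha.faith g.2)⟩
  exact hl.eq_of_pgroup ha (U := D ⊔ E)
    ((hp'.to_sup_of_normal_left' (hl.el E hE).pgroup hn).to_le (sup_le_sup_right hDc _))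
    (sup_le hDH hEH) hD hDR le_sup_left hE hER le_sup_right

/-- For members of prime order a block contains all members of `N(R₀)` outside `R₀`. -/
theorem Loc.le_block (hl : Loc V p T M S R₀) (ha : Amb V p T M) (hA : Mem S M R₀ A) (hAp : Nat.card ↥A = p)
    (hb : NatBlk V p M A L) (hLH : L ≤ Subgroup.normalizer (R₀ : Set H)) {D : Subgroup H} (hD : D ∈ S)
    (hDH : D ≤ Subgroup.normalizer (R₀ : Set H)) (hDR : ¬ D ≤ R₀) : D ≤ L := by
  classical
  by_cases hDA : D = A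
  · exact hDA ▸ hb.le
  -- the fixed space of `D` has index `p`
  have hDV : Nat.card V = p * Nat.card ↥(fixS V D) := by
    obtain ⟨g, hg, hgD⟩ := hl.sylH.exists_conj_le (hl.el D hD).pgroup hDH
    have hm := Mem.conjBy hl hD hDH hDR hg (hgD.trans (inf_le_left.trans ha.le_M))
    obtain ⟨L', -, hb'⟩ := hl.exists_blk hm
    have h1 := hb'.card_V
    rwa [fixS_conjBy, card_tr, ← hl.card_eq hA hm, hAp] at h1
  have hVA : Nat.card V = p * Nat.card ↥(fixS V A) := hAp ▸ hb.card_V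
  have hord : ∀ u : V, u ≠ 0 → Nat.card ↥(AddSubgroup.zmultiples u) = p := fun u hu => by
    rw [Nat.card_zmultiples, addOrderOf_eq_prime (ha.vp u) hu]
  have hcyc : ∀ (K : AddSubgroup V) (u : V), Nat.card V = p * Nat.card ↥K → u ∉ K →
      K ⊔ AddSubgroup.zmultiples u = ⊤ := by
    intro K u hK hu
    refine AddSubgroup.eq_top_of_le_card _ ?_
    have h1 := AddSubgroup.card_dvd_of_le (le_sup_left : K ≤ K ⊔ AddSubgroup.zmultiples u)
    obtain ⟨m, hm⟩ := h1
    have h2 := AddSubgroup.card_addSubgroup_dvd_card (K ⊔ AddSubgroup.zmultiples u)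
    rw [hm, hK, mul_comm p, Nat.mul_dvd_mul_iff_left Nat.card_pos] at h2
    rcases (Nat.dvd_prime hp.out).1 h2 with h | h
    · refine absurd (AddSubgroup.eq_of_le_of_card_ge le_sup_left (by rw [hm, h, mul_one]) ▸
        AddSubgroup.mem_sup_right (AddSubgroup.mem_zmultiples u) : u ∈ K) hu
    · rw [hm, h, hK, mul_comm]
  obtain ⟨a₁, ha₁, ha₁1⟩ := hb.exists_ne_one
  obtain ⟨v₀, hv₀⟩ := hb.exists_notW
  set n₀ := a₁ • v₀ - v₀ with hn₀
  have hn₀Z : n₀ ∉ fixS V L := fun h => hv₀ (hb.sep ha₁ ha₁1 h)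
  have hn₀W : n₀ ∈ fixS V A := hb.quadratic ha₁ v₀
  have hcomA : commS V A ≤ AddSubgroup.zmultiples n₀ := by
    refine (AddSubgroup.closure_le _).2 ?_
    rintro _ ⟨a, haA, v, rfl⟩
    obtain ⟨w, hw, u, hu, rfl⟩ := AddSubgroup.mem_sup.1
      ((hcyc (fixS V A) v₀ hVA hv₀).symm ▸ AddSubgroup.mem_top v : v ∈ fixS V A ⊔ AddSubgroup.zmultiples v₀)
    obtain ⟨k, rfl⟩ := AddSubgroup.mem_zmultiples_iff.1 hu
    show a • (w + k • v₀) - (w + k • v₀) ∈ AddSubgroup.zmultiples n₀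
    rw [smul_add, mem_fixS.1 hw a haA, add_sub_add_left_eq_sub, smul_comm a k v₀, ← smul_sub]
    refine AddSubgroup.zsmul_mem _ ?_ k
    obtain ⟨i, rfl⟩ : ∃ i : ℕ, a₁ ^ i = a := by
      have h1 : Subgroup.zpowers a₁ = A := Subgroup.eq_of_le_of_card_ge (Subgroup.zpowers_le.2 ha₁) (by
        rw [Nat.card_zpowers, orderOf_eq_prime ((hl.el A hA.1).pow a₁ ha₁) ha₁1, hAp])
      exact mem_powers_iff_mem_zpowers.2 (h1.symm ▸ haA)
    have h1 := (hl.minoff A hA.1).pow_smul_sub ha.vp' ha₁ v₀ i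
    rw [h1]
    exact AddSubgroup.nsmul_mem _ (AddSubgroup.mem_zmultiples n₀) i
  obtain ⟨x, hx, hxM⟩ := hb.exists_notMem
  set xc := x • n₀ with hxc
  have hxcW : xc ∉ fixS V A := fun h => hn₀Z (by
    have h1 := (hb.inf hx hxM).le ⟨h, smul_mem_tr hn₀W⟩
    have h2 := mem_fixS.1 h1 _ (L.inv_mem hx)
    rw [inv_smul_smul] at h2
    exact h2 ▸ h1)
  set xa := a₁ • xc - xc with hxa
  have hxa0 : xa ≠ 0 := fun h => hxcW (hb.sep ha₁ ha₁1 (by rw [← hxa, h]; exact zero_mem _))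
  have hxaz : xa ∈ AddSubgroup.zmultiples n₀ := hcomA (sub_mem_commS ha₁ xc)
  have hn₀0 : n₀ ≠ 0 := fun h => hn₀Z (h ▸ zero_mem _)
  have hxaD : xa ∉ fixS V D := by
    intro h
    refine hDA (hl.eq_of_commS_le ha hD hDH hDR hA.1 hA.2.2.1 hA.2.2.2 (hcomA.trans ?_))
    have h1 : AddSubgroup.zmultiples xa = AddSubgroup.zmultiples n₀ :=
      AddSubgroup.eq_of_le_of_card_ge (AddSubgroup.zmultiples_le_of_mem hxaz)
        (by rw [hord xa hxa0, hord n₀ hn₀0])
    rw [← h1]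
    exact AddSubgroup.zmultiples_le_of_mem h
  obtain ⟨w, hw, u, hu, hsum⟩ := AddSubgroup.mem_sup.1 ((hcyc _ xa hDV hxaD).symm ▸ AddSubgroup.mem_top xc :
    xc ∈ fixS V D ⊔ AddSubgroup.zmultiples xa)
  let Y : AddSubgroup V :=
    { carrier := {y | ∃ a ∈ A, a • xc - xc = y}
      zero_mem' := ⟨1, A.one_mem, by simp⟩
      add_mem' := by
        rintro _ _ ⟨a, h1, rfl⟩ ⟨c, h2, rfl⟩
        exact ⟨a * c, A.mul_mem h1 h2, hb.sub_mul h1 h2 xc⟩
      neg_mem' := by
        rintro _ ⟨a, h1, rfl⟩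
        refine ⟨a⁻¹, A.inv_mem h1, eq_neg_of_add_eq_zero_left ?_⟩
        rw [← hb.sub_mul (A.inv_mem h1) h1, inv_mul_cancel, one_smul, sub_self] }
  obtain ⟨a, haA, hau⟩ : -u ∈ Y :=
    Y.neg_mem (AddSubgroup.zmultiples_le_of_mem (show xa ∈ Y from ⟨a₁, ha₁, rfl⟩) hu)
  have haxL : a * x ∈ L := L.mul_mem (hb.le haA) hx
  set E := conjBy (a * x) A with hE
  have hEH : E ≤ Subgroup.normalizer (R₀ : Set H) := Loc.conjBy_le_H₀ hA (hLH haxL)
  have hER : ¬ E ≤ R₀ := fun h => hA.2.2.2 fun c hc =>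
    (Subgroup.mem_normalizer_iff.1 (hLH haxL) c).2 (h (conj_mem_conjBy hc))
  have hcomE : commS V E ≤ fixS V D := by
    refine (commS_conjBy_le (a * x) A).trans ?_
    rintro _ ⟨y, hy, rfl⟩
    obtain ⟨k, rfl⟩ := AddSubgroup.mem_zmultiples_iff.1 (hcomA hy)
    show (a * x) • (k • n₀) ∈ fixS V D
    rw [smul_comm, mul_smul, ← hxc, show a • xc = w by
      linear_combination (norm := abel) hau - hsum]
    exact AddSubgroup.zsmul_mem _ hw k
  rw [hl.eq_of_commS_le ha hD hDH hDR (hl.conj_mem A hA.1 _) hEH hER hcomE]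
  exact conjBy_le_iff.2 fun c hc => L.mul_mem (L.mul_mem haxL (hb.le hc)) (L.inv_mem haxL)

end CfsgLib.CFun.MinParab
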