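import Cfsg.Agent.Lib.CFun.MinParab.Opposite

/-!
# One member in each `p`-subgroup of `N(R₀)`

Two commuting members at one point would span, with the translate of one of them, three fixed spaces meeting
in a small common subgroup; a product of elements of the two members then either brings a translate onto a
forbidden vector, or fixes two points and centralizes a block. So a `p`-subgroup of `N(R₀)` contains at most
one member outside `R₀`.
-/

set_option autoImplicit false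
set_option linter.unusedSectionVars false
set_option linter.style.haveILetI false

open CfsgLib.Char.NatSL (fixS mem_fixS fixS_mono tr mem_tr card_tr smul_mem_tr card_sup_mul_card_inf)
open CfsgLib.Fusion (conjBy mem_conjBy conj_mem_conjBy conjBy_le_iff conjBy_eq_iff conjBy_conjBy_inv
  conjBy_inv_conjBy conjBy_mono card_conjBy conjBy_conjBy isPGroup_conjBy conjBy_normalizer)
open CfsgLib.CFun.OffenderPair (SylIn chainStab fixS_sup)

namespace CfsgLib.CFun.MinParab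

variable {H : Type*} [Group H] [Finite H] {V : Type*} [AddCommGroup V] [Finite V] [DistribMulAction H V] {p : ℕ}
  [hp : Fact p.Prime] {T : Sylow p H} {M A B L R₀ : Subgroup H} {S : Set (Subgroup H)}

/-- Members with the same fixed space are equal. -/
theorem Loc.eq_of_W (hl : Loc V p T M S R₀) (ha : Amb V p T M) (hA : Mem S M R₀ A) (hB : Mem S M R₀ B)
    (hW : fixS V A = fixS V B) : A = B := by
  obtain ⟨L, -, hb⟩ := hl.exists_blk hA
  obtain ⟨L', -, hb'⟩ := hl.exists_blk hB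
  have hA' : A ≤ chainStab (fixS V A) := fun a h => ⟨fun _ hw => hw a h, hb.quadratic h⟩
  have hB' : B ≤ chainStab (fixS V A) := fun a h => hW ▸ ⟨fun _ hw => hw a h, hb'.quadratic h⟩
  have hel : El p (A ⊔ B : Subgroup H) :=
    ⟨fun a h b h' => chain_comm ha.faith (sup_le hA' hB' h) (sup_le hA' hB' h'),
      fun a h => chain_pow ha.vp ha.faith (sup_le hA' hB' h)⟩
  have h := ha.card_le hel
  rw [fixS_sup, ← hW, inf_idem, hb.card_V] at h
  have hle := Subgroup.eq_of_le_of_card_ge (le_sup_left : A ≤ A ⊔ B) (Nat.le_of_mul_le_mul_right h Nat.card_pos)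
  have hBA : B ≤ A := hle ▸ le_sup_right
  exact (Subgroup.eq_of_le_of_card_ge hBA (hl.card_eq hA hB).le).symm

theorem Loc.inf_eq_bot (hl : Loc V p T M S R₀) (ha : Amb V p T M) (hA : Mem S M R₀ A) (hB : Mem S M R₀ B)
    (hne : A ≠ B) : A ⊓ B = ⊥ := by
  rw [Subgroup.eq_bot_iff_forall]
  intro c hc
  by_contra hc1
  obtain ⟨L, -, hb⟩ := hl.exists_blk hA
  obtain ⟨L', -, hb'⟩ := hl.exists_blk hB
  refine hne (hl.eq_of_W ha hA hB (le_antisymm (fun v hv => ?_) fun v hv => ?_))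
  · exact hb'.sep hc.2 hc1 (by rw [mem_fixS.1 hv c hc.1, sub_self]; exact zero_mem _)
  · exact hb.sep hc.1 hc1 (by rw [mem_fixS.1 hv c hc.2, sub_self]; exact zero_mem _)

omit [Finite V] in
/-- The elements of `N(R₀)` fixing every point of `L`. -/
theorem exists_pointwise (R₀ M L : Subgroup H) (hLH : L ≤ Subgroup.normalizer (R₀ : Set H)) :
    ∃ K : Subgroup H, (∀ g, g ∈ K ↔ g ∈ Subgroup.normalizer (R₀ : Set H) ∧ ∀ y ∈ L, y⁻¹ * g * y ∈ M) ∧
      L ≤ Subgroup.normalizer (K : Set H) := by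
  refine ⟨
    { carrier := {g | g ∈ Subgroup.normalizer (R₀ : Set H) ∧ ∀ y ∈ L, y⁻¹ * g * y ∈ M}
      one_mem' := ⟨one_mem _, fun y _ => by simp [M.one_mem]⟩
      mul_mem' := fun {g h} hg hh => ⟨mul_mem hg.1 hh.1, fun y hy => by
        have := M.mul_mem (hg.2 y hy) (hh.2 y hy)
        simpa [mul_assoc] using this⟩
      inv_mem' := fun {g} hg => ⟨inv_mem hg.1, fun y hy => by
        have := M.inv_mem (hg.2 y hy)
        simpa [mul_assoc] using this⟩ }, fun g => Iff.rfl, fun l hl' => ?_⟩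
  have key : ∀ l ∈ L, ∀ g : H, (g ∈ Subgroup.normalizer (R₀ : Set H) ∧ ∀ y ∈ L, y⁻¹ * g * y ∈ M) →
      (l * g * l⁻¹ ∈ Subgroup.normalizer (R₀ : Set H) ∧ ∀ y ∈ L, y⁻¹ * (l * g * l⁻¹) * y ∈ M) :=
    fun l hl' g hg => ⟨mul_mem (mul_mem (hLH hl') hg.1) (inv_mem (hLH hl')), fun y hy => by
      have := hg.2 (l⁻¹ * y) (L.mul_mem (L.inv_mem hl') hy)
      simpa [mul_assoc] using this⟩
  refine Subgroup.mem_normalizer_iff.2 fun g => ⟨key l hl' g, fun h => ?_⟩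
  have := key l⁻¹ (L.inv_mem hl') _ h
  simpa [mul_assoc] using this

/-- A product of elements of two commuting members fixing two points. -/
theorem Loc.false_of_fix (hl : Loc V p T M S R₀) (ha : Amb V p T M) (hA : Mem S M R₀ A) (hB : Mem S M R₀ B)
    (hcomm : ∀ a ∈ A, ∀ b ∈ B, a * b = b * a) (hb : NatBlk V p M A L)
    (hLH : L ≤ Subgroup.normalizer (R₀ : Set H))
    (hk : Nat.card ↥(fixS V A ⊓ fixS V B) ≤ Nat.card ↥(fixS V L))
    {x a b : H} (hx : x ∈ L) (hxM : x ∉ M) (haA : a ∈ A) (ha1 : a ≠ 1) (hbB : b ∈ B)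
    (hfix : x⁻¹ * (a * b) * x ∈ M) : False := by
  set H₀ := Subgroup.normalizer (R₀ : Set H) with hH₀
  set d := a * b with hd
  have hdM : d ∈ M := M.mul_mem (hA.2.1 haA) (hB.2.1 hbB)
  have hdH : d ∈ H₀ := H₀.mul_mem (hA.2.2.1 haA) (hB.2.2.1 hbB)
  have hdA : ∀ a' ∈ A, a' * d = d * a' := fun a' h' => by
    rw [hd, ← mul_assoc, (hl.el A hA.1).comm a' h' a haA, mul_assoc, hcomm a' h' b hbB, mul_assoc]
  obtain ⟨K, hK, hLK⟩ := exists_pointwise R₀ M L hLH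
  have hKH : K ≤ H₀ := fun g hg => ((hK g).1 hg).1
  have hKM : K ≤ M := fun g hg => by simpa using ((hK g).1 hg).2 1 L.one_mem
  have hdK : d ∈ K := (hK d).2 ⟨hdH, fun y hy => by
    by_cases hyM : y ∈ M
    · exact M.mul_mem (M.mul_mem (M.inv_mem hyM) hdM) hyM
    obtain ⟨a', ha', hm⟩ := hb.spread hx hxM hy hyM
    have e : y⁻¹ * d * y = ((a' * x)⁻¹ * y)⁻¹ * (x⁻¹ * d * x) * ((a' * x)⁻¹ * y) := by
      have h1 : a'⁻¹ * d * a' = d := by rw [mul_assoc, ← hdA a' ha', inv_mul_cancel_left]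
      calc y⁻¹ * d * y = y⁻¹ * a' * (a'⁻¹ * d * a') * (a'⁻¹ * y) := by group
        _ = _ := by rw [h1]; group
    rw [e]
    exact M.mul_mem (M.mul_mem (M.inv_mem hm) hfix) hm⟩
  -- the Sylow subgroup of the pointwise stabilizer
  let D : Subgroup H := A ⊔ Subgroup.zpowers d
  have hdp : d ^ p = 1 := by
    rw [hd, (show Commute a b from hcomm a haA b hbB).mul_pow, (hl.el A hA.1).pow a haA,
      (hl.el B hB.1).pow b hbB, one_mul]
  have hDp : IsPGroup p D := by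
    refine El.pgroup ((hl.el A hA.1).sup ⟨?_, ?_⟩ ?_)
    · intro u hu v hv
      obtain ⟨i, rfl⟩ := Subgroup.mem_zpowers_iff.1 hu
      obtain ⟨j, rfl⟩ := Subgroup.mem_zpowers_iff.1 hv
      rw [← zpow_add, ← zpow_add, add_comm]
    · intro u hu
      obtain ⟨i, rfl⟩ := Subgroup.mem_zpowers_iff.1 hu
      rw [← zpow_natCast, ← zpow_mul, mul_comm, zpow_mul, zpow_natCast, hdp, one_zpow]
    · intro u hu v hv
      obtain ⟨i, rfl⟩ := Subgroup.mem_zpowers_iff.1 hv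
      exact (show Commute u d from hdA u hu).zpow_right i
  have hDKL : D ≤ K ⊔ L := sup_le (hb.le.trans le_sup_right)
    ((Subgroup.zpowers_le.2 hdK).trans le_sup_left)
  obtain ⟨U, hU, hDU⟩ := SylIn.exists_ge (K := K ⊔ L) hDp hDKL
  have hKn : K ⊔ L ≤ Subgroup.normalizer (K : Set H) := sup_le Subgroup.le_normalizer hLK
  set R := U ⊓ K with hR
  have hRS : SylIn p R K := ⟨hU.pgroup.to_le inf_le_left, inf_le_right, fun W hW hWK => by
    obtain ⟨g, hg, hgW⟩ := hU.exists_conj_le hW (hWK.trans le_sup_left)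
    have h1 : conjBy g W ≤ K := conjBy_le_iff.2 fun w hw =>
      (Subgroup.mem_normalizer_iff.1 (hKn hg) w).1 (hWK hw)
    exact card_conjBy g W ▸ Subgroup.card_le_of_le (le_inf hgW h1)⟩
  have hAR : A ≤ Subgroup.normalizer (R : Set H) := fun a' ha' => by
    have hU' : a' ∈ U := hDU (Subgroup.mem_sup_left ha')
    refine Subgroup.mem_normalizer_iff.2 fun g => ?_
    rw [hR, Subgroup.mem_inf, Subgroup.mem_inf]
    exact and_congr ((Subgroup.mem_normalizer_iff.1 (Subgroup.le_normalizer hU')) g)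
      ((Subgroup.mem_normalizer_iff.1 (hLK (hb.le ha'))) g)
  set Q := (K ⊔ L) ⊓ Subgroup.normalizer (R : Set H) with hQ
  have hQM : ¬ Q ≤ M := by
    intro hQM
    obtain ⟨k, hk, hkR⟩ := hRS.exists_conj_eq (V := conjBy x R)
      ⟨isPGroup_conjBy x hRS.pgroup, conjBy_le_iff.2 fun r hr =>
        (Subgroup.mem_normalizer_iff.1 (hLK hx) r).1 hr.2,
        fun W hW hWK => by rw [card_conjBy]; exact hRS.max W hW hWK⟩
    have h1 : k * x ∈ Subgroup.normalizer (R : Set H) := by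
      rw [← conjBy_eq_iff, ← conjBy_conjBy, hkR]
    have h2 : k * x ∈ M := hQM ⟨mul_mem (Subgroup.mem_sup_left hk) (Subgroup.mem_sup_right hx), h1⟩
    exact hxM (by simpa using M.mul_mem (M.inv_mem (hKM hk)) h2)
  have hQH : Q ≤ H₀ := inf_le_left.trans (sup_le hKH hLH)
  obtain ⟨L₂, hL₂Q, hb₂⟩ := hl.nat A hA Q hQH (le_inf (hb.le.trans le_sup_right) hAR) hQM
  obtain ⟨-, -, hcen⟩ := hl.block_centralizes ha hA hb₂ hRS.pgroup (inf_le_right.trans hKH)
    (hL₂Q.trans inf_le_right)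
  have hdR : d ∈ R := ⟨hDU (Subgroup.mem_sup_right (Subgroup.mem_zpowers d)), hdK⟩
  obtain ⟨y, hy, hyM⟩ := hb₂.exists_notMem
  have hL₂H : L₂ ≤ H₀ := hL₂Q.trans hQH
  have hdy : d * y = y * d := hcen d hdR y hy
  -- the meet of `W_B` with the translate of `W_A` is inside `C(L₂)`
  have hsub : fixS V B ⊓ tr y (fixS V A) ≤ fixS V L₂ := fun e he => by
    have h1 : d • e = a • e := by rw [hd, mul_smul, mem_fixS.1 he.1 b hbB]
    have h2 : d • e ∈ tr y (fixS V A) := by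
      rw [mem_tr, ← mul_smul, show y⁻¹ * d = d * y⁻¹ by
        rw [eq_mul_inv_iff_mul_eq, mul_assoc, hdy, inv_mul_cancel_left], mul_smul]
      intro a' ha'
      rw [← mul_smul, hdA a' ha', mul_smul, mem_fixS.1 (mem_tr.1 he.2) a' ha']
    refine hb₂.meet (x := y) (y := a⁻¹ * y) hy (L₂.mul_mem (L₂.inv_mem (hb₂.le haA)) hy) ?_ he.2 ?_
    · rw [← mul_assoc]
      exact hb₂.free hy hyM (A.inv_mem haA) (fun h => ha1 (inv_eq_one.1 h))
    · rw [mem_tr, mul_inv_rev, inv_inv, mul_smul, ← h1]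
      exact mem_tr.1 h2
  have hcard := hl.card_opp_inf hB hA (hL₂H hy) hyM hA hb₂
  have heq := AddSubgroup.eq_of_le_of_card_ge hsub hcard.ge
  have hZB : fixS V B ⊓ fixS V L₂ = fixS V L₂ := inf_eq_right.2 (heq ▸ inf_le_left)
  have h3 := hl.inter_card hA hB hb₂ hL₂H
  rw [hZB, ← hl.card_Z_eq hA hA hb hb₂] at h3
  rw [h3] at hk
  have h4 : 1 < Nat.card ↥A := by
    rw [Finite.one_lt_card_iff_nontrivial]
    exact ⟨⟨a, haA⟩, 1, fun h => ha1 (congrArg Subtype.val h)⟩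
  have h5 : 0 < Nat.card ↥(fixS V L) := Nat.card_pos
  nlinarith

/-- A vector common to `W_A`, `W_B` and a translate of `W_A`. -/
theorem Loc.mem_of_three (hl : Loc V p T M S R₀) (hA : Mem S M R₀ A) (hB : Mem S M R₀ B) {C : AddSubgroup V}
    (hC : Nat.card ↥A * Nat.card ↥C = Nat.card ↥(fixS V A ⊓ fixS V B)) (hCA : C ≤ fixS V A)
    (hCB : C ≤ fixS V B) {y : H} (hy : y ∈ Subgroup.normalizer (R₀ : Set H)) (hyM : y ∉ M)
    (hCy : C ≤ tr y (fixS V A)) {v : V} (hvA : v ∈ fixS V A) (hvB : v ∈ fixS V B)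
    (hvy : v ∈ tr y (fixS V A)) : v ∈ C := by
  obtain ⟨L, hL, hLH, hb⟩ := hl.exists_opp_blk hA hA hy hyM
  have h1 := hl.opp_inf hA hA hL hb
  have h2 := hl.inter_card hA hB hb hLH
  rw [← hC] at h2
  have h3 : C ≤ fixS V B ⊓ fixS V L := le_inf hCB (h1 ▸ le_inf hCA hCy)
  have h4 := AddSubgroup.eq_of_le_of_card_ge h3 (Nat.eq_of_mul_eq_mul_left Nat.card_pos h2).ge
  rw [h4]
  exact ⟨hvB, h1 ▸ ⟨hvA, hvy⟩⟩

/-- Commuting members are equal. -/
theorem Loc.eq_of_commute (hl : Loc V p T M S R₀) (ha : Amb V p T M) (hA : Mem S M R₀ A) (hB : Mem S M R₀ B)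
    (hcomm : ∀ a ∈ A, ∀ b ∈ B, a * b = b * a) : A = B := by
  by_contra hne
  set H₀ := Subgroup.normalizer (R₀ : Set H) with hH₀
  obtain ⟨L, hLH, hb⟩ := hl.exists_blk hA
  obtain ⟨x, hx, hxM⟩ := hb.exists_notMem
  have hxH : x ∈ H₀ := hLH hx
  obtain ⟨LB, hLB, hLBH, hbB⟩ := hl.exists_opp_blk hB hA hxH hxM
  set W := fixS V A with hW
  set W' := fixS V B with hW'
  set Z := fixS V L with hZ
  have hq : Nat.card ↥B = Nat.card ↥A := (hl.card_eq hA hB).symm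
  have hWV := hb.card_V
  have hWc := hb.card_W
  rw [← hW] at hWV hWc
  rw [← hZ] at hWc
  have h1q : 1 < Nat.card ↥A := by
    obtain ⟨a, h1, h2⟩ := hb.exists_ne_one
    rw [Finite.one_lt_card_iff_nontrivial]
    exact ⟨⟨a, h1⟩, 1, fun h => h2 (congrArg Subtype.val h)⟩
  -- no over-offender
  have hk : Nat.card ↥(W ⊓ W') ≤ Nat.card ↥Z := by
    have h1 := ha.card_le ((hl.el A hA.1).sup (hl.el B hB.1) hcomm)
    rw [fixS_sup, ← hW, ← hW'] at h1
    have hinf := hl.inf_eq_bot ha hA hB hne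
    let f : ↥A × ↥B → ↥(A ⊔ B : Subgroup H) := fun q =>
      ⟨(q.1 : H) * q.2, Subgroup.mul_mem_sup q.1.2 q.2.2⟩
    have hf : Function.Injective f := by
      rintro ⟨a, b⟩ ⟨a', b'⟩ h
      have h' : (a : H) * b = a' * b' := congrArg Subtype.val h
      have h2 : (a' : H)⁻¹ * a = b' * (b : H)⁻¹ := by
        rw [eq_mul_inv_iff_mul_eq, mul_assoc, h', inv_mul_cancel_left]
      have h3 : (a' : H)⁻¹ * a ∈ A ⊓ B :=
        ⟨A.mul_mem (A.inv_mem a'.2) a.2, h2 ▸ B.mul_mem b'.2 (B.inv_mem b.2)⟩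
      rw [hinf, Subgroup.mem_bot] at h3
      have e1 : a' = a := Subtype.ext (inv_mul_eq_one.1 h3)
      subst e1
      exact Prod.ext rfl (Subtype.ext (mul_left_cancel h'))
    have h2 := Nat.card_le_card_of_injective f hf
    rw [Nat.card_prod, hq] at h2
    have h3 := (Nat.mul_le_mul_right _ h2).trans h1
    rw [hWV, hWc] at h3
    refine Nat.le_of_mul_le_mul_left (?_ : Nat.card ↥A * Nat.card ↥A * _ ≤ Nat.card ↥A * Nat.card ↥A * _)
      (Nat.mul_pos Nat.card_pos Nat.card_pos)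
    linarith [mul_assoc (Nat.card ↥A) (Nat.card ↥A) (Nat.card ↥Z)]
  set C := W' ⊓ Z with hC
  have hkq : Nat.card ↥(W ⊓ W') = Nat.card ↥A * Nat.card ↥C := hl.inter_card hA hB hb hLH
  set Z' := W' ⊓ tr x W with hZ'
  have hZ'L : Z' = fixS V LB := hl.opp_inf hB hA hLB hbB
  have hZ'c : Nat.card ↥Z' = Nat.card ↥Z := hl.card_opp_inf hB hA hxH hxM hA hb
  have hZx : Z ≤ tr x W := fun v hv => by
    rw [mem_tr, mem_fixS.1 hv _ (L.inv_mem hx)]
    exact hb.Z_le hv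
  have hCA : C ≤ W := inf_le_right.trans hb.Z_le
  have hCB : C ≤ W' := inf_le_left
  have hCZ' : C ≤ Z' := le_inf inf_le_left (inf_le_right.trans hZx)
  have hCx : ∀ v ∈ C, x • v = v := fun v hv => mem_fixS.1 hv.2 x hx
  have hCxi : ∀ v ∈ C, x⁻¹ • v = v := fun v hv => mem_fixS.1 hv.2 _ (L.inv_mem hx)
  have hsum := card_sup_mul_card_inf Z' Z
  have hZ'Z : Z' ⊓ Z = C := by rw [hZ', inf_assoc, inf_eq_right.2 hZx]
  rw [hZ'Z, hZ'c] at hsum
  have hle : Z' ⊔ Z ≤ tr x W := sup_le inf_le_right hZx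
  have hle' := AddSubgroup.card_le_of_le hle
  rw [card_tr, hWc] at hle'
  have hZpos : 0 < Nat.card ↥Z := Nat.card_pos
  have hCpos : 0 < Nat.card ↥C := Nat.card_pos
  have hzqc : Nat.card ↥Z ≤ Nat.card ↥A * Nat.card ↥C := by
    refine Nat.le_of_mul_le_mul_left (?_ : Nat.card ↥Z * _ ≤ Nat.card ↥Z * _) hZpos
    nlinarith [Nat.mul_le_mul_right (Nat.card ↥C) hle']
  have hqc : Nat.card ↥A * Nat.card ↥C = Nat.card ↥Z := le_antisymm (hkq ▸ hk) hzqc
  have htop : Z' ⊔ Z = tr x W := by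
    refine AddSubgroup.eq_of_le_of_card_ge hle ?_
    rw [card_tr, hWc]
    refine Nat.le_of_mul_le_mul_right (?_ : _ * Nat.card ↥C ≤ _ * Nat.card ↥C) hCpos
    rw [hsum, ← hqc]
    exact le_of_eq (by ring)
  -- the vector
  obtain ⟨w, ⟨hw0A, hw0B⟩, hwC⟩ : ∃ w, x⁻¹ • w ∈ W ⊓ W' ∧ w ∉ C := by
    by_contra! h
    have h' : tr x (W ⊓ W') ≤ C := fun v hv => h v (mem_tr.1 hv)
    have h2 := AddSubgroup.card_le_of_le h'
    rw [card_tr, hkq] at h2
    nlinarith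
  have hback : ∀ v, x⁻¹ • v ∈ C → v ∈ C := fun v hv => by
    have := hCx _ hv
    rw [smul_inv_smul] at this
    rw [this]
    exact hv
  have hxiH : x⁻¹ ∈ H₀ := inv_mem hxH
  have hxiM : x⁻¹ ∉ M := fun h => hxM (by simpa using M.inv_mem h)
  have hCinv : ∀ X : AddSubgroup V, C ≤ X → C ≤ tr x⁻¹ X := fun X hX v hv => by
    rw [mem_tr, inv_inv, hCx v hv]
    exact hX hv
  have hwA : w ∉ W := fun h => hwC (hback _ (hl.mem_of_three hA hB hkq.symm hCA hCB hxiH hxiM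
    (hCinv _ hCA) hw0A hw0B (smul_mem_tr h)))
  have hwB : w ∉ W' := fun h => hwC (hback _ (hl.mem_of_three hB hA
    (by rw [inf_comm W' W, hkq, hq]) hCB hCA hxiH hxiM (hCinv _ hCB) hw0B hw0A (smul_mem_tr h)))
  have hwx : w ∈ tr x W := mem_tr.2 hw0A
  obtain ⟨z', hz', z, hz, hsumw⟩ := AddSubgroup.mem_sup.1 (htop.ge hwx)
  subst hsumw
  have hz'W : z' ∉ W := fun h => hwA (W.add_mem h (hb.Z_le hz))
  have hzB : z ∉ W' := fun h => hwB (W'.add_mem hz'.1 h)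
  obtain ⟨b, hbB', hb1⟩ := hbB.exists_ne_one
  have hpW : b • z - z ∈ W := W.sub_mem (fun a' ha' => by
    rw [← mul_smul, hcomm a' ha' b hbB', mul_smul, mem_fixS.1 (hb.Z_le hz) a' ha']) (hb.Z_le hz)
  have hpB : b • z - z ∈ W' := hbB.quadratic hbB' z
  have hpZ' : b • z - z ∉ Z' := fun h => hzB (hbB.sep hbB' hb1 (hZ'L ▸ h))
  obtain ⟨a, haA, hz0⟩ := hb.surjW hz'W (W.neg_mem hpW)
  have haB : a • z' - z' ∈ W' := W'.sub_mem (fun b' hb' => by
    rw [← mul_smul, ← hcomm a haA b' hb', mul_smul, mem_fixS.1 hz'.1 b' hb']) hz'.1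
  have hc0 : -(b • z - z) - (a • z' - z') ∈ C := ⟨W'.sub_mem (W'.neg_mem hpB) haB, hz0⟩
  have ha1 : a ≠ 1 := fun h => hpZ' (by
    have h2 := Z'.neg_mem (hCZ' hc0)
    rwa [h, one_smul, sub_self, sub_zero, neg_neg] at h2)
  set d := a * b with hd
  set c0 := -(b • z - z) - (a • z' - z') with hc0d
  have hdw : d • (z' + z) = z' + z - c0 := by
    have e1 : b • z' = z' := mem_fixS.1 hz'.1 b hbB'
    have e2 : a • z = z := mem_fixS.1 (hb.Z_le hz) a haA
    have e3 : a • (b • z - z) = b • z - z := mem_fixS.1 hpW a haA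
    rw [smul_sub, e2] at e3
    rw [hd, mul_smul, smul_add, e1, smul_add, hc0d]
    linear_combination (norm := abel) e3
  have hdH : d ∈ H₀ := H₀.mul_mem (hA.2.2.1 haA) (hB.2.2.1 hbB')
  by_cases hfix : x⁻¹ * d * x ∈ M
  · exact hl.false_of_fix ha hA hB hcomm hb hLH hk hx hxM haA ha1 hbB' hfix
  have hyH : x⁻¹ * d * x ∈ H₀ := H₀.mul_mem (H₀.mul_mem hxiH hdH) hxH
  have hdC : ∀ v ∈ C, d • v = v := fun v hv => by
    rw [hd, mul_smul, mem_fixS.1 (hCB hv) b hbB', mem_fixS.1 (hCA hv) a haA]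
  have h9 := hl.mem_of_three hA hB hkq.symm hCA hCB hyH hfix (fun v hv => ?_)
    (v := x⁻¹ • (z' + z - c0)) ?_ ?_ ?_
  · refine hwC ?_
    have := C.add_mem (hback _ h9) hc0
    rwa [sub_add_cancel] at this
  · rw [mem_tr, mul_inv_rev, mul_inv_rev, inv_inv, mul_smul, mul_smul, hCx v hv, inv_smul_eq_iff.2 (hdC v hv).symm,
      hCxi v hv]
    exact hCA hv
  · rw [smul_sub, hCxi c0 hc0]
    exact W.sub_mem hw0A (hCA hc0)
  · rw [smul_sub, hCxi c0 hc0]
    exact W'.sub_mem hw0B (hCB hc0)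
  · rw [← hdw, mem_tr, ← mul_smul x⁻¹ d, ← mul_smul, show (x⁻¹ * d * x)⁻¹ * (x⁻¹ * d) = x⁻¹ by group]
    exact hw0A

omit [Finite V] in
theorem Mem.conjBy (hl : Loc V p T M S R₀) {C : Subgroup H} {g : H} (hC : C ∈ S)
    (hCH : C ≤ Subgroup.normalizer (R₀ : Set H)) (hCR : ¬ C ≤ R₀)
    (hg : g ∈ Subgroup.normalizer (R₀ : Set H)) (hgC : conjBy g C ≤ M) : Mem S M R₀ (conjBy g C) :=
  ⟨hl.conj_mem C hC g, hgC, conjBy_le_iff.2 fun _ hc => mul_mem (mul_mem hg (hCH hc)) (inv_mem hg),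
    fun h => hCR fun c hc => (Subgroup.mem_normalizer_iff.1 hg c).2 (h (conj_mem_conjBy hc))⟩

/-- A `p`-subgroup of `N(R₀)` contains at most one member outside `R₀`. -/
theorem Loc.eq_of_pgroup (hl : Loc V p T M S R₀) (ha : Amb V p T M) {U : Subgroup H} (hU : IsPGroup p U)
    (hUH : U ≤ Subgroup.normalizer (R₀ : Set H)) (hA : A ∈ S) (hAR : ¬ A ≤ R₀) (hAU : A ≤ U) (hB : B ∈ S)
    (hBR : ¬ B ≤ R₀) (hBU : B ≤ U) : A = B := by
  set P := (T : Subgroup H) ⊓ Subgroup.normalizer (R₀ : Set H) with hP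
  have hPM : P ≤ M := inf_le_left.trans ha.le_M
  suffices key : ∀ C D : Subgroup H, C ∈ S → ¬ C ≤ R₀ → C ≤ P → D ∈ S → ¬ D ≤ R₀ → D ≤ P → C = D by
    obtain ⟨g, hg, hgU⟩ := hl.sylH.exists_conj_le hU hUH
    have hmem : ∀ C : Subgroup H, C ∈ S → ¬ C ≤ R₀ → C ≤ U → Mem S M R₀ (conjBy g C) := fun C hC hCR hCU =>
      Mem.conjBy hl hC (hCU.trans hUH) hCR hg ((conjBy_mono hCU).trans (hgU.trans hPM))
    have h1 := key _ _ (hmem A hA hAR hAU).1 (hmem A hA hAR hAU).2.2.2 ((conjBy_mono hAU).trans hgU)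
      (hmem B hB hBR hBU).1 (hmem B hB hBR hBU).2.2.2 ((conjBy_mono hBU).trans hgU)
    exact Subgroup.map_injective (MulAut.conj g).injective h1
  intro C D hC hCR hCP hD hDR hDP
  have hmem : ∀ E : Subgroup H, E ∈ S → ¬ E ≤ R₀ → E ≤ P → Mem S M R₀ E := fun E hE hER hEP =>
    ⟨hE, hEP.trans hPM, hEP.trans inf_le_right, hER⟩
  have hcm : ∀ E E' : Subgroup H, E ∈ S → ¬ E ≤ R₀ → E ≤ P → E' ∈ S → ¬ E' ≤ R₀ → E' ≤ P →
      E ≤ Subgroup.normalizer (E' : Set H) → E' ≤ Subgroup.normalizer (E : Set H) → E = E' := by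
    intro E E' hE hER hEP hE' hE'R hE'P h h'
    by_contra hne
    have hinf := hl.inf_eq_bot ha (hmem E hE hER hEP) (hmem E' hE' hE'R hE'P) hne
    refine hne (hl.eq_of_commute ha (hmem E hE hER hEP) (hmem E' hE' hE'R hE'P) fun a haE b hbE => ?_)
    have h1 : a * b * a⁻¹ * b⁻¹ ∈ E ⊓ E' := ⟨by
        have := E.mul_mem haE ((Subgroup.mem_normalizer_iff.1 (h' hbE) a⁻¹).1 (E.inv_mem haE))
        simpa [mul_assoc] using this,
      E'.mul_mem ((Subgroup.mem_normalizer_iff.1 (h haE) b).1 hbE) (E'.inv_mem hbE)⟩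
    rw [hinf, Subgroup.mem_bot] at h1
    exact eq_of_div_eq_one (by rw [div_eq_mul_inv, mul_inv_rev, ← h1]; group)
  by_cases hall : ∀ E : Subgroup H, E ∈ S → ¬ E ≤ R₀ → E ≤ P → P ≤ Subgroup.normalizer (E : Set H)
  · exact hcm C D hC hCR hCP hD hDR hDP (hCP.trans (hall D hD hDR hDP)) (hDP.trans (hall C hC hCR hCP))
  exfalso
  push Not at hall
  obtain ⟨E, hE, hER, hEP, hPE⟩ := hall
  set N := P ⊓ Subgroup.normalizer (E : Set H) with hN
  have hNP : N ≠ P := fun h => hPE (inf_eq_left.1 h)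
  haveI : Group.IsNilpotent P := ((T.2.to_le inf_le_left : IsPGroup p P)).isNilpotent
  obtain ⟨g, ⟨hgP, hgN⟩, hgN'⟩ := SetLike.exists_of_lt (CfsgLib.Fusion.lt_inf_normalizer (inf_le_left : N ≤ P) hNP)
  have hEN : E ≤ N := le_inf hEP Subgroup.le_normalizer
  have hgH : g ∈ Subgroup.normalizer (R₀ : Set H) := (hgP : g ∈ P).2
  have h2 : conjBy g E ≤ N := (conjBy_mono hEN).trans (conjBy_eq_iff.2 hgN).le
  have hm := Mem.conjBy hl hE (hEP.trans inf_le_right) hER hgH ((h2.trans inf_le_left).trans hPM)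
  refine hgN' ⟨hgP, conjBy_eq_iff.1 ?_⟩
  refine (hcm E (conjBy g E) hE hER hEP hm.1 hm.2.2.2 (h2.trans inf_le_left) ?_ (h2.trans inf_le_right)).symm
  intro e he
  rw [← conjBy_normalizer]
  have h4 : g⁻¹ * e * g ∈ N := (Subgroup.mem_normalizer_iff''.1 hgN e).1 (hEN he)
  exact mem_conjBy.2 h4.2

end CfsgLib.CFun.MinParab
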